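import Cfsg.Agent.Lib.Classical.TensorPow.Algebra
import Cfsg.Agent.Lib.Classical.MaxTensorHermBase

/-!
Sets of matrices on a tensor power of a unitary space, invariant under the unitary groups of the factors and closed
under the skew bracket: a non-scalar member gives the tensor power of an isotropic projection.
-/

set_option autoImplicit false
set_option linter.unusedSectionVars false

namespace Cfsg.Agent.Classical.TensorPowForm

open Matrix Module MaxTv TensorMax TensorPow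
open Cfsg.Agent.Classical.TensorHerm (isoSL exists_eich exists_flag exists_move exists_pair_perp
  mem_of_iso mem_of_iso_perp perp2)

variable {F : Type*} [Field F] [Fintype F] {κ β : Type} [Fintype κ] [DecidableEq κ] [Fintype β] [DecidableEq β]

local notation "X" => (κ → β)
local notation "Mn" => Matrix (κ → β) (κ → β) F
local notation "Mb" => Matrix β β F

/-- The isotropic projection. -/
def iN (h : (β → F) → (β → F) → F) (v : β → F) : Matrix β β F := vecMulVec v (fn h v)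

/-- The isotropic projections at the factors of `J`. -/
def iG (h : (β → F) → (β → F) → F) (J : Finset κ) (vs : κ → β → F) : κ → Matrix β β F :=
  fun l => if l ∈ J then iN h (vs l) else 1

/-- The hypotheses on the set which need no bracket. -/
structure PAlg (σ : F ≃+* F) (h : (β → F) → (β → F) → F) (P : Matrix (κ → β) (κ → β) F → Prop) : Prop where
  sub : ∀ {R S}, P R → P S → P (R - S)
  fixed : ∀ {R} {r : F}, σ r = r → P R → P (r • R)
  conj : ∀ {R} (j : κ) (E : GL β F), E ∈ isoSL h → P R →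
    P (et j (E : Matrix β β F) * R * et j ((E⁻¹ : GL β F) : Matrix β β F))
  swap : ∀ {gs : κ → Matrix β β F} {r : F} (j k : κ), P (r • wm 1 gs) → P (r • wm 1 (gs ∘ Equiv.swap j k))

/-- The hypotheses on the set. -/
structure SAlg (σ : F ≃+* F) (h : (β → F) → (β → F) → F) (P : Matrix (κ → β) (κ → β) F → Prop) : Prop
    extends PAlg σ h P where
  br : ∀ {R S} (ν : F), P R → P S → P (σ ν • (R * S) - ν • (S * R))

/-- Annihilated by a projection at the factor. -/
def Nil (h : (β → F) → (β → F) → F) (j : κ) (R : Matrix (κ → β) (κ → β) F) : Prop :=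
  ∃ v, v ≠ 0 ∧ et j (iN h v) * R = 0

/-- An isotropic projection at the factor times something commuting with it. -/
def Pure (h : (β → F) → (β → F) → F) (j : κ) (R : Matrix (κ → β) (κ → β) F) : Prop :=
  ∃ v, h v v = 0 ∧ v ≠ 0 ∧ ∃ W, Com j W ∧ R = et j (iN h v) * W

/-- A property closed under linear combinations and multiplication at one factor. -/
structure Closed (l : κ) (Q : Matrix (κ → β) (κ → β) F → Prop) : Prop where
  add : ∀ {R S}, Q R → Q S → Q (R + S)
  smul : ∀ {R} (r : F), Q R → Q (r • R)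
  left : ∀ {R} (A : Matrix β β F), Q R → Q (et l A * R)
  right : ∀ {R} (A : Matrix β β F), Q R → Q (R * et l A)

/-- A step making a factor pure. -/
def Step (h : (β → F) → (β → F) → F) (P : Matrix (κ → β) (κ → β) F → Prop) : Prop :=
  ∀ (l : κ) (R : Matrix (κ → β) (κ → β) F), P R → ¬ Com l R →
    ∃ R', P R' ∧ R' ≠ 0 ∧ Pure h l R' ∧ ∀ j, j ≠ l → ∀ Q, Closed l Q → Q R → Q R'

theorem com_closed {l j : κ} (hlj : l ≠ j) : Closed l (Com (F := F) (β := β) j) where
  add hR hS T := by rw [mul_add, add_mul, hR, hS]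
  smul r hR T := by rw [Matrix.mul_smul, Matrix.smul_mul, hR]
  left A hR T := by rw [← mul_assoc, et_comm (Ne.symm hlj), mul_assoc, hR, mul_assoc]
  right A hR T := by rw [← mul_assoc, hR, mul_assoc, et_comm (Ne.symm hlj), mul_assoc]

theorem nil_closed (h : (β → F) → (β → F) → F) {l j : κ} (hlj : l ≠ j) (v : β → F) :
    Closed l (fun R : Mn => et j (iN h v) * R = 0) where
  add hR hS := by rw [mul_add, hR, hS, add_zero]
  smul r hR := by rw [Matrix.mul_smul, hR, smul_zero]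
  left A hR := by rw [← mul_assoc, et_comm (Ne.symm hlj), mul_assoc, hR, mul_zero]
  right A hR := by rw [← mul_assoc, hR, zero_mul]

theorem pure_closed (h : (β → F) → (β → F) → F) {l j : κ} (hlj : l ≠ j) (v : β → F) :
    Closed l (fun R : Mn => ∃ W, Com j W ∧ R = et j (iN h v) * W) where
  add := by
    rintro _ _ ⟨W, hW, rfl⟩ ⟨W', hW', rfl⟩
    exact ⟨W + W', (com_closed hlj).add hW hW', (mul_add _ _ _).symm⟩
  smul := by
    rintro _ r ⟨W, hW, rfl⟩
    exact ⟨r • W, (com_closed hlj).smul r hW, (Matrix.mul_smul _ _ _).symm⟩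
  left := by
    rintro _ A ⟨W, hW, rfl⟩
    exact ⟨et l A * W, (com_closed hlj).left A hW, by rw [← mul_assoc, et_comm hlj, mul_assoc]⟩
  right := by
    rintro _ A ⟨W, hW, rfl⟩
    exact ⟨W * et l A, (com_closed hlj).right A hW, mul_assoc _ _ _⟩

theorem Closed.yop {l : κ} {Q : Mn → Prop} (hQ : Closed l Q) (v φ : β → F) {R : Mn} (hR : Q R) :
    Q (TensorPow.yop l v φ R) := by
  have h0 : Q 0 := by simpa using hQ.smul 0 hR
  exact Finset.sum_induction _ Q (fun _ _ => hQ.add) h0 fun a _ => hQ.right _ (hQ.left _ hR)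

theorem et_yop' (j : κ) (v w φ ψ : β → F) (R : Mn) :
    et j (vecMulVec v ψ) * yop j w φ R = et j (vecMulVec v φ) * R * et j (vecMulVec w ψ) := by
  have he : vecMulVec w ψ = ∑ a, ψ a • vecMulVec w (Pi.single a (1 : F)) := by
    ext p q
    simp [Matrix.sum_apply, Matrix.vecMulVec_apply, Pi.single_apply, mul_comm]
  conv_rhs => rw [he, et_sum, Finset.mul_sum]
  rw [yop, Finset.mul_sum]
  refine Finset.sum_congr rfl fun a _ => ?_
  rw [← mul_assoc, ← mul_assoc, et_mul, vmv_mul, et_smul, et_smul, dotProduct_single, mul_one, Matrix.smul_mul,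
    Matrix.smul_mul, Matrix.mul_smul]

theorem yop_et_com {j : κ} (w φ : β → F) (T : Mb) {W : Mn} (hW : Com j W) :
    yop j w φ (et j T * W) = (φ ⬝ᵥ T *ᵥ w) • W := by
  have h1 : ∀ a, et j (vecMulVec (Pi.single a 1) φ) * (et j T * W) * et j (vecMulVec w (Pi.single a (1 : F))) =
      (φ ⬝ᵥ T *ᵥ w) • (et j (Matrix.single a a (1 : F)) * W) := fun a => by
    rw [← mul_assoc, et_mul, mul_assoc, ← hW, ← mul_assoc, et_mul]
    have e : vecMulVec (Pi.single a 1) φ * T * vecMulVec w (Pi.single a (1 : F)) =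
        (φ ⬝ᵥ T *ᵥ w) • Matrix.single a a (1 : F) := by
      rw [mul_assoc, Matrix.mul_vecMulVec, vmv_mul, single_eq_vmv]
    rw [e, et_smul, Matrix.smul_mul]
  rw [yop, Finset.sum_congr rfl fun a _ => h1 a, ← Finset.smul_sum, ← Finset.sum_mul, ← et_sum, ← one_eq_sum_single,
    et_one, one_mul]

theorem yop_et_ne {j l : κ} (hlj : l ≠ j) (w φ : β → F) (T : Mb) (R : Mn) :
    yop j w φ (et l T * R) = et l T * yop j w φ R := by
  rw [yop, yop, Finset.mul_sum]
  refine Finset.sum_congr rfl fun a _ => ?_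
  rw [← mul_assoc, et_comm (Ne.symm hlj), mul_assoc, mul_assoc, mul_assoc]

theorem yop_wm {j : κ} (gs : κ → Mb) (hgs : gs j = 1) (w φ : β → F) (R : Mn) :
    yop j w φ (wm 1 gs * R) = wm 1 gs * yop j w φ R := by
  rw [yop, yop, Finset.mul_sum]
  refine Finset.sum_congr rfl fun a _ => ?_
  rw [← mul_assoc, ← wm_update_ne gs hgs, mul_assoc, mul_assoc, mul_assoc]

theorem et_com_zero {j : κ} {v ε : β → F} (hv : v ≠ 0) (hε : ε ≠ 0) {W : Mn} (hW : Com j W)
    (h0 : et j (vecMulVec v ε) * W = 0) : W = 0 := by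
  obtain ⟨φ, hφ⟩ := exists_dual hv
  obtain ⟨u, hu⟩ := exists_dual hε
  rw [dotProduct_comm] at hu
  have h1 := yop_et_com u φ (vecMulVec v ε) hW
  rw [h0, Matrix.vecMulVec_mulVec, hu] at h1
  simp only [MulOpposite.op_one, one_smul, hφ] at h1
  rw [← h1, yop]
  exact Finset.sum_eq_zero fun a _ => by rw [mul_zero, zero_mul]

/-- A double difference of conjugates by commuting root elements. -/
theorem delta_two {A B R : Mn} (hAB : A * B = 0) (hBA : B * A = 0) (τ : F) :
    (1 + τ • A) * ((1 + τ • B) * R * (1 - τ • B) - R) * (1 - τ • A) - ((1 + τ • B) * R * (1 - τ • B) - R) =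
      -(τ * τ) • (A * R * B + B * R * A) := by
  have e1 : ∀ Z : Mn, A * (B * Z) = 0 := fun Z => by rw [← mul_assoc, hAB, zero_mul]
  have e2 : ∀ Z : Mn, B * (A * Z) = 0 := fun Z => by rw [← mul_assoc, hBA, zero_mul]
  simp only [add_mul, mul_add, sub_mul, mul_sub, one_mul, mul_one, smul_mul_assoc, mul_smul_comm, mul_assoc, e1, e2,
    hAB, hBA, smul_zero, mul_zero, add_zero, zero_add, sub_zero]
  module

variable {σ : F ≃+* F} {h : (β → F) → (β → F) → F} (hh : Herm σ h)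
include hh

theorem iN_ne_zero {v : β → F} (hv : v ≠ 0) : iN h v ≠ 0 :=
  vmv_ne_zero hv fun e => hv (fn_injective hh.toSesq (by rw [e, fn_zero hh.toSesq]))

theorem fn_ne_zero {v : β → F} (hv : v ≠ 0) : fn h v ≠ 0 :=
  fun e => hv (fn_injective hh.toSesq (by rw [e, fn_zero hh.toSesq]))

theorem vmv_conj {E : GL β F} (hE : ∀ x y, h ((E : Mb) *ᵥ x) ((E : Mb) *ᵥ y) = h x y) (v w : β → F) :
    (E : Mb) * vecMulVec v (fn h w) * ((E⁻¹ : GL β F) : Mb) =
      vecMulVec ((E : Mb) *ᵥ v) (fn h ((E : Mb) *ᵥ w)) := by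
  rw [Matrix.mul_vecMulVec, Matrix.vecMulVec_mul]
  congr 1
  refine fn_ext hh.toSesq fun x => ?_
  rw [← Matrix.dotProduct_mulVec, fn_dot hh.toSesq]
  conv_rhs => rw [← mulVec_inv_cancel E x, hE]

theorem not_com_of_nil {j : κ} {R : Mn} (hn : Nil h j R) (hR : R ≠ 0) : ¬ Com j R := fun hc => by
  obtain ⟨v, hv0, hv⟩ := hn
  exact hR (et_com_zero hv0 (fn_ne_zero hh hv0) hc hv)

/-- A member pure or central at every factor is a product of projections. -/
theorem normal_form {R : Mn} (hR : R ≠ 0) (hall : ∀ l, Pure h l R ∨ Com l R) :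
    ∃ (J : Finset κ) (vs : κ → β → F) (r : F), r ≠ 0 ∧ (∀ l ∈ J, h (vs l) (vs l) = 0 ∧ vs l ≠ 0) ∧
      (∀ l, Pure h l R → l ∈ J) ∧ R = r • wm 1 (iG h J vs) := by
  classical
  set J := Finset.univ.filter fun l => ¬ Com l R with hJ
  have hJp : ∀ l ∈ J, Pure h l R := fun l hl => (hall l).resolve_right (Finset.mem_filter.1 hl).2
  have hPJ : ∀ l, Pure h l R → l ∈ J := fun l hl => Finset.mem_filter.2 ⟨Finset.mem_univ _, fun hc => by
    obtain ⟨v, hvv, hv0, W, hW, e⟩ := hl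
    refine not_com_of_nil hh ⟨v, hv0, ?_⟩ hR hc
    rw [e, ← mul_assoc, et_mul, iN, vmv_mul, fn_dot hh.toSesq, hvv, zero_smul, ← zero_smul F (1 : Mb), et_smul,
      zero_smul, zero_mul]⟩
  choose vs hvs using hJp
  let vs' : κ → β → F := fun l => if hl : l ∈ J then vs l hl else 0
  have main : ∀ s : Finset κ, s ⊆ J → ∃ W, R = wm 1 (iG h s vs') * W ∧ (∀ l, l ∈ s ∨ l ∉ J → Com l W) := by
    intro s
    induction s using Finset.induction_on with
    | empty =>
      refine fun _ => ⟨R, by rw [show iG h ∅ vs' = 1 from funext fun l => by simp [iG], wm1_one, one_mul],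
        fun l hl => ?_⟩
      have hl' : l ∉ J := hl.resolve_left (Finset.notMem_empty l)
      rw [hJ, Finset.mem_filter, not_and, not_not] at hl'
      exact hl' (Finset.mem_univ l)
    | insert a s ha ih =>
      intro hs
      obtain ⟨W, hW, hWc⟩ := ih fun x hx => hs (Finset.mem_insert_of_mem hx)
      have haJ : a ∈ J := hs (Finset.mem_insert_self a s)
      obtain ⟨hvv, hv0, Wa, hWa, hRa⟩ := hvs a haJ
      have hva : vs' a = vs a haJ := dif_pos haJ
      rw [← hva] at hvv hv0 hRa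
      obtain ⟨φ, hφ⟩ := exists_dual hv0
      obtain ⟨u, hu⟩ := exists_dual (fn_ne_zero hh hv0)
      rw [dotProduct_comm] at hu
      have hga : iG h s vs' a = 1 := if_neg ha
      have e1 : Wa = wm 1 (iG h s vs') * yop a u φ W := by
        rw [← yop_wm _ hga, ← hW, hRa, yop_et_com u φ _ hWa, iN, Matrix.vecMulVec_mulVec, hu]
        simp [hφ]
      refine ⟨yop a u φ W, ?_, fun l hl => ?_⟩
      · rw [hRa, e1, ← mul_assoc, ← wm_update_ne _ hga, wm_update _ hga]
        congr 2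
        funext l
        by_cases e : l = a
        · subst e; simp [iG]
        · simp [iG, e]
      · by_cases e : l = a
        · subst e; exact yop_com _ _ _ _
        · exact (com_closed (Ne.symm e)).yop _ _ (hWc l (hl.imp_left fun h' => (Finset.mem_insert.1 h').resolve_left e))
  obtain ⟨W, hW, hWc⟩ := main J subset_rfl
  obtain ⟨r, hr⟩ := scalar_of_com fun l => hWc l (Classical.em _)
  refine ⟨J, vs', r, fun e => hR ?_, fun l hl => ?_, hPJ, by rw [hW, hr, Matrix.mul_smul, mul_one]⟩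
  · rw [hW, hr, e, zero_smul, mul_zero]
  · show h (vs' l) (vs' l) = 0 ∧ vs' l ≠ 0
    rw [show vs' l = vs l hl from dif_pos hl]
    exact ⟨(hvs l hl).1, (hvs l hl).2.1⟩

/-- The isotropic vectors of a product may be changed. -/
theorem change {P : Matrix (κ → β) (κ → β) F → Prop} (hP : PAlg σ h P) {J : Finset κ} {vs us : κ → β → F} {r : F} (hR : P (r • wm 1 (iG h J vs)))
    (hvs : ∀ l ∈ J, h (vs l) (vs l) = 0 ∧ vs l ≠ 0) (hus : ∀ l ∈ J, h (us l) (us l) = 0 ∧ us l ≠ 0) :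
    ∃ d : F, d ≠ 0 ∧ σ d = d ∧ P ((d * r) • wm 1 (iG h J us)) := by
  classical
  suffices main : ∀ s : Finset κ, s ⊆ J → ∃ d : F, d ≠ 0 ∧ σ d = d ∧
      P ((d * r) • wm 1 (iG h J fun l => if l ∈ s then us l else vs l)) by
    obtain ⟨d, hd, hds, hPd⟩ := main J subset_rfl
    refine ⟨d, hd, hds, ?_⟩
    have e : iG h J us = iG h J fun l => if l ∈ J then us l else vs l := funext fun l => by
      by_cases e : l ∈ J <;> simp [iG, e]
    rwa [e]
  intro s
  induction s using Finset.induction_on with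
  | empty => exact fun _ => ⟨1, one_ne_zero, map_one σ, by simpa using hR⟩
  | insert a s ha ih =>
    intro hs
    obtain ⟨d, hd, hds, hPd⟩ := ih fun x hx => hs (Finset.mem_insert_of_mem hx)
    have haJ : a ∈ J := hs (Finset.mem_insert_self a s)
    obtain ⟨E, hE, c', hc', hEa⟩ := exists_move hh (hvs a haJ).1 (hvs a haJ).2 (hus a haJ).1 (hus a haJ).2
    have hn : σ (c' * σ c') = c' * σ c' := by rw [map_mul, hh.invol, mul_comm]
    have hn0 : c' * σ c' ≠ 0 := mul_ne_zero hc' ((map_ne_zero σ).2 hc')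
    refine ⟨c' * σ c' * d, mul_ne_zero hn0 hd, by rw [map_mul, hn, hds], ?_⟩
    have h1 := hP.conj a E hE hPd
    convert h1 using 1
    rw [Matrix.mul_smul, Matrix.smul_mul]
    obtain ⟨gs, hgs⟩ : ∃ gs, gs = iG h J fun l => if l ∈ s then us l else vs l := ⟨_, rfl⟩
    rw [← hgs]
    have e1 : wm (1 : Equiv.Perm κ) gs = wm 1 (Function.update gs a 1) * et a (gs a) := by
      rw [wm_update _ (Function.update_self _ _ _), Function.update_idem, Function.update_eq_self]
    have e2 : et a (E : Mb) * wm (1 : Equiv.Perm κ) gs * et a ((E⁻¹ : GL β F) : Mb) =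
        wm 1 (Function.update gs a ((E : Mb) * gs a * ((E⁻¹ : GL β F) : Mb))) := by
      rw [e1, ← mul_assoc, ← wm_update_ne _ (Function.update_self _ _ _), mul_assoc, mul_assoc, et_mul, et_mul,
        wm_update _ (Function.update_self _ _ _), Function.update_idem, mul_assoc]
    have e3 : (E : Mb) * gs a * ((E⁻¹ : GL β F) : Mb) = (c' * σ c') • iN h (us a) := by
      rw [show gs a = iN h (vs a) by simp [hgs, iG, haJ, ha], iN, vmv_conj hh hE.1, hEa, fn_smul hh.toSesq,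
        Matrix.smul_vecMulVec, Matrix.vecMulVec_smul, smul_smul, iN]
    rw [e2, e3, wm_update_smul, smul_smul]
    congr 1
    · ring
    · congr 1
      funext l
      by_cases e : l = a
      · subst e; simp [iG, haJ]
      · simp [hgs, iG, e]

/-- All factors are made pure or central. -/
theorem reduce_of {P : Matrix (κ → β) (κ → β) F → Prop} (hst : Step h P) {R₀ : Mn} (hR₀ : P R₀) (hne : R₀ ≠ 0) :
    ∃ R, P R ∧ R ≠ 0 ∧ (∀ j, Nil h j R₀ → Nil h j R) ∧ (∀ l, Pure h l R ∨ Com l R) ∧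
      (R ≠ R₀ → ∃ l, Pure h l R) := by
  classical
  suffices main : ∀ s : Finset κ, ∃ R, P R ∧ R ≠ 0 ∧ (∀ j, Nil h j R₀ → Nil h j R) ∧
      (∀ l ∈ s, Pure h l R ∨ Com l R) ∧ (R ≠ R₀ → ∃ l, Pure h l R) by
    obtain ⟨R, h1, h2, h3, h4, h5⟩ := main Finset.univ
    exact ⟨R, h1, h2, h3, fun l => h4 l (Finset.mem_univ l), h5⟩
  intro s
  induction s using Finset.induction_on with
  | empty => exact ⟨R₀, hR₀, hne, fun _ hj => hj, by simp, fun e => absurd rfl e⟩
  | insert a s ha ih =>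
    obtain ⟨R, hR, hR0, hnil, hall, hpure⟩ := ih
    by_cases hc : Com a R
    · exact ⟨R, hR, hR0, hnil, fun l hl => (Finset.mem_insert.1 hl).elim (fun e => Or.inr (e ▸ hc)) (hall l),
        hpure⟩
    obtain ⟨R', hR', hR'0, hp, hkeep⟩ := hst a R hR hc
    refine ⟨R', hR', hR'0, fun j hj => ?_, fun l hl => ?_, fun _ => ⟨a, hp⟩⟩
    · by_cases e : j = a
      · subst e
        obtain ⟨v, hvv, hv0, W, -, rfl⟩ := hp
        refine ⟨v, hv0, ?_⟩
        rw [← mul_assoc, et_mul, iN, vmv_mul, fn_dot hh.toSesq, hvv, zero_smul, ← zero_smul F (1 : Mb), et_smul,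
          zero_smul, zero_mul]
      · obtain ⟨v, hv0, hv⟩ := hnil j hj
        exact ⟨v, hv0, hkeep j e _ (nil_closed h (Ne.symm e) v) hv⟩
    · by_cases e : l = a
      · exact Or.inl (e ▸ hp)
      rcases hall l ((Finset.mem_insert.1 hl).resolve_left e) with ⟨v, hvv, hv0, hW⟩ | hcl
      · exact Or.inl ⟨v, hvv, hv0, hkeep l e _ (pure_closed h (Ne.symm e) v) hW⟩
      · exact Or.inr (hkeep l e _ (com_closed (Ne.symm e)) hcl)

/-- A non-scalar member gives a product with a pure factor. -/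
theorem exists_start {P : Matrix (κ → β) (κ → β) F → Prop} (hst : Step h P) {R₀ : Mn} (hR₀ : P R₀)
    (hns : ∀ r : F, R₀ ≠ r • (1 : Mn)) :
    ∃ (J : Finset κ) (vs : κ → β → F) (r : F), J.Nonempty ∧ r ≠ 0 ∧ (∀ l ∈ J, h (vs l) (vs l) = 0 ∧ vs l ≠ 0) ∧
      P (r • wm 1 (iG h J vs)) := by
  classical
  have hne : R₀ ≠ 0 := fun e => hns 0 (by rw [e, zero_smul])
  obtain ⟨R, hR, hR0, -, hall, hpure⟩ := reduce_of hh hst hR₀ hne
  obtain ⟨J₀, vs₀, r₀, hr₀, hvs₀, hJ₀, hform⟩ := normal_form hh hR0 hall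
  refine ⟨J₀, vs₀, r₀, ?_, hr₀, hvs₀, hform ▸ hR⟩
  by_cases e : R = R₀
  · by_contra hc
    rw [Finset.not_nonempty_iff_eq_empty] at hc
    subst hc
    refine hns r₀ ?_
    rw [← e, hform, show iG h ∅ vs₀ = 1 from funext fun x => by simp [iG], wm1_one]
  · obtain ⟨x, hx⟩ := hpure e
    exact ⟨x, hJ₀ x hx⟩

/-- Enlarging to all factors. -/
theorem top_of {P : Matrix (κ → β) (κ → β) F → Prop}
    (hgrow : ∀ (J : Finset κ) (vs : κ → β → F) (r : F), r ≠ 0 → P (r • wm 1 (iG h J vs)) →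
      (∀ l ∈ J, h (vs l) (vs l) = 0 ∧ vs l ≠ 0) → ∀ j ∈ J, ∀ l, l ∉ J →
      ∃ (J' : Finset κ) (us : κ → β → F) (r' : F), r' ≠ 0 ∧ J.card < J'.card ∧
        (∀ l ∈ J', h (us l) (us l) = 0 ∧ us l ≠ 0) ∧ P (r' • wm 1 (iG h J' us)))
    {J : Finset κ} {vs : κ → β → F} {r : F} (hJ : J.Nonempty) (hr : r ≠ 0)
    (hvs : ∀ l ∈ J, h (vs l) (vs l) = 0 ∧ vs l ≠ 0) (hPJ : P (r • wm 1 (iG h J vs))) :
    ∃ (vs : κ → β → F) (r : F), r ≠ 0 ∧ (∀ l, h (vs l) (vs l) = 0 ∧ vs l ≠ 0) ∧
      P (r • wm 1 fun l => iN h (vs l)) := by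
  classical
  obtain ⟨n, hc⟩ : ∃ n, Fintype.card κ ≤ J.card + n := ⟨Fintype.card κ, by omega⟩
  induction n generalizing J vs r with
  | zero =>
    have hu : J = Finset.univ := Finset.eq_univ_of_card J (le_antisymm (Finset.card_le_univ J) (by omega))
    subst hu
    exact ⟨vs, r, hr, fun l => hvs l (Finset.mem_univ l), by
      have e : iG h Finset.univ vs = fun l => iN h (vs l) := funext fun l => if_pos (Finset.mem_univ l)
      rwa [e] at hPJ⟩
  | succ n ih =>
    by_cases hu : J = Finset.univ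
    · subst hu
      exact ⟨vs, r, hr, fun l => hvs l (Finset.mem_univ l), by
      have e : iG h Finset.univ vs = fun l => iN h (vs l) := funext fun l => if_pos (Finset.mem_univ l)
      rwa [e] at hPJ⟩
    obtain ⟨j, hj⟩ := hJ
    obtain ⟨l, hl⟩ : ∃ l, l ∉ J := by
      by_contra hcon
      push Not at hcon
      exact hu (Finset.eq_univ_iff_forall.2 hcon)
    obtain ⟨J', us, r', hr', hcard, hus, hP'⟩ := hgrow J vs r hr hPJ hvs j hj l hl
    exact ih (Finset.card_pos.1 (by omega)) hr' hus hP' (by omega)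


variable (h4 : 4 ≤ Fintype.card β)
include h4

/-- No contraction at orthogonal isotropic vectors: commuting at the factor. -/
theorem com_of_vanish {l : κ} {R : Mn}
    (H : ∀ v w, h v v = 0 → h w w = 0 → h v w = 0 → (∀ r : F, v ≠ r • w) → yop l w (fn h v) R = 0) : Com l R := by
  classical
  have z0 : ∀ w, yop l w (0 : β → F) R = 0 := fun w => by
    have := yop_add_right l w (0 : β → F) 0 R
    rwa [add_zero, left_eq_add] at this
  have z0' : ∀ φ, yop l (0 : β → F) φ R = 0 := fun φ => by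
    have := yop_add_left l (0 : β → F) 0 φ R
    rwa [add_zero, left_eq_add] at this
  have sl : ∀ (r : F) w φ, yop l (r • w) φ R = r • yop l w φ R := fun r w φ => by
    rw [yop, yop, Finset.smul_sum]
    exact Finset.sum_congr rfl fun a _ => by rw [Matrix.smul_vecMulVec, et_smul, Matrix.mul_smul]
  have sr : ∀ (r : F) w φ, yop l w (r • φ) R = r • yop l w φ R := fun r w φ => by
    rw [yop, yop, Finset.smul_sum]
    exact Finset.sum_congr rfl fun a _ => by rw [Matrix.vecMulVec_smul, et_smul, Matrix.smul_mul, Matrix.smul_mul]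
  -- an isotropic vector and its orthogonal space
  have hiso : ∀ w, h w w = 0 → ∀ u, h u w = 0 → yop l w (fn h u) R = 0 := by
    intro w hw u hu
    rcases eq_or_ne w 0 with rfl | hw0
    · exact z0' _
    let p : Submodule F (β → F) :=
      { carrier := {x | yop l w (fn h x) R = 0}
        add_mem' := fun {a b} ha hb => by
          simp only [Set.mem_setOf_eq] at ha hb ⊢
          rw [fn_add hh.toSesq, yop_add_right, ha, hb, add_zero]
        zero_mem' := by simp only [Set.mem_setOf_eq, fn_zero hh.toSesq, z0]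
        smul_mem' := fun r x hx => by
          simp only [Set.mem_setOf_eq] at hx ⊢
          rw [fn_smul hh.toSesq, sr, hx, smul_zero] }
    refine mem_of_iso_perp hh h4 hw hw0 (p := p) (fun v hvw hvv => ?_) hu
    by_cases hdep : ∃ r : F, v = r • w
    · obtain ⟨r, rfl⟩ := hdep
      obtain ⟨u', b, c', -, hu'w, hbb, -, hcb, hbw, -, hbu, -⟩ := exists_flag hh h4 hw hw0
      have hbi : ∀ d : F, b ≠ d • w := fun d e => by
        have h0 := hbu
        have hwu : h w u' = 1 := by rw [hh.herm, hu'w, map_one]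
        rw [e, hh.smul_left, hwu, mul_one] at h0
        rw [e, h0, zero_smul, hh.toSesq.zero_right] at hcb
        exact one_ne_zero hcb.symm
      have hwb := hh.refl _ _ hbw
      have h1 : w + b ∈ p := H _ _ (by simp [hh.add_left, hh.add_right, hw, hbb, hwb, hbw]) hw
        (by rw [hh.add_left, hw, hbw, add_zero]) fun d e => hbi (d - 1) (by
          rw [sub_smul, one_smul, ← e, add_sub_cancel_left])
      have h2 : b ∈ p := H _ _ hbb hw hbw hbi
      have := p.smul_mem r (p.sub_mem h1 h2)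
      rwa [add_sub_cancel_right] at this
    · push Not at hdep
      exact H _ _ hvv hw hvw hdep
  -- every vector
  have hall : ∀ v φ : β → F, φ ⬝ᵥ v = 0 → yop l v φ R = 0 := by
    intro v φ hv
    obtain ⟨u, rfl⟩ := fn_surjective hh.toSesq φ
    rw [fn_dot hh.toSesq] at hv
    rcases eq_or_ne u 0 with rfl | hu0
    · rw [fn_zero hh.toSesq, z0]
    let p : Submodule F (β → F) :=
      { carrier := {x | yop l x (fn h u) R = 0}
        add_mem' := fun {a b} ha hb => by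
          simp only [Set.mem_setOf_eq] at ha hb ⊢
          rw [yop_add_left, ha, hb, add_zero]
        zero_mem' := z0' _
        smul_mem' := fun r x hx => by
          simp only [Set.mem_setOf_eq] at hx ⊢
          rw [sl, hx, smul_zero] }
    let S := LinearMap.ker (hh.toSesq.lin u)
    have hmemS : ∀ x, x ∈ S ↔ h x u = 0 := fun x => by
      simp only [S, LinearMap.mem_ker, hh.toSesq.lin_apply]
    obtain ⟨b, hb, c', hc, hbb, hcc, hcb⟩ : ∃ b ∈ S, ∃ c' ∈ S, h b b = 0 ∧ h c' c' = 0 ∧ h c' b = 1 := by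
      by_cases huu : h u u = 0
      · obtain ⟨-, b, c', -, -, hbb, hcc, hcb, hbu, hcu, -, -⟩ := exists_flag hh h4 huu hu0
        exact ⟨b, (hmemS b).2 hbu, c', (hmemS c').2 hcu, hbb, hcc, hcb⟩
      · refine exists_pair_perp hh ?_ fun x => ?_
        · have := card_le_finrank_ker_add_one (hh.toSesq.lin u)
          show 2 ≤ finrank F (LinearMap.ker (hh.toSesq.lin u))
          omega
        · refine ⟨x - (h x u / h u u) • u, (hmemS _).2 ?_, fun y hy => ?_⟩
          · rw [hh.toSesq.sub_left, hh.smul_left, div_mul_cancel₀ _ huu, sub_self]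
          · rw [sub_sub_cancel, hh.smul_left, hh.refl _ _ ((hmemS y).1 hy), mul_zero]
    exact mem_of_iso hh hb hc hbb hcc hcb (p := p) (fun x hx hxx => hiso x hxx u (hh.refl _ _ ((hmemS x).1 hx)))
      ((hmemS v).2 hv)
  obtain ⟨b₀⟩ : Nonempty β := Fintype.card_pos_iff.1 (by omega)
  rw [eq_yop_of_vanish hall b₀]
  exact yop_com _ _ _ _

variable {P : Matrix (κ → β) (κ → β) F → Prop} (hP : SAlg σ h P)
include hP

/-- One factor is made pure. -/
theorem step {l : κ} {R : Mn} (hR : P R) (hnc : ¬ Com l R) :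
    ∃ R', P R' ∧ R' ≠ 0 ∧ Pure h l R' ∧
      ∀ j, j ≠ l → ∀ Q : Mn → Prop, Closed l Q → Q R → Q R' := by
  classical
  obtain ⟨v, w, hvv, hww, hvw, hind, ha⟩ : ∃ v w, h v v = 0 ∧ h w w = 0 ∧ h v w = 0 ∧ (∀ r : F, v ≠ r • w) ∧
      yop l w (fn h v) R ≠ 0 := by
    by_contra hc
    push Not at hc
    exact hnc (com_of_vanish hh h4 hc)
  have hwv := hh.refl _ _ hvw
  have hv0 : v ≠ 0 := fun e => hind 0 (by rw [e, zero_smul])
  have hw0 : w ≠ 0 := fun e => ha (by
    rw [e]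
    have := yop_add_left l (0 : β → F) 0 (fn h v) R
    rwa [add_zero, left_eq_add] at this)
  obtain ⟨τ, hτ, hτs⟩ := hh.exists_skew
  have hσr : σ (τ * τ) = τ * τ := by
    rw [map_mul, eq_neg_of_add_eq_zero_right hτs]; ring
  -- root elements
  have hroot : ∀ x, h x x = 0 → ∃ E : GL β F, E ∈ isoSL h ∧ (E : Mb) = 1 + τ • iN h x ∧
      ((E⁻¹ : GL β F) : Mb) = 1 - τ • iN h x := fun x hx => by
    obtain ⟨E, hE, hEx⟩ := exists_eich hh (u := 0) (l := τ) hx (hh.toSesq.zero_left _)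
      (by rw [hh.toSesq.zero_left, neg_zero, hτs])
    have e1 : (E : Mb) = 1 + τ • iN h x := Matrix.ext_iff_mulVec.2 fun y => by
      rw [hEx, hh.toSesq.zero_right, Matrix.add_mulVec, Matrix.one_mulVec, Matrix.smul_mulVec, iN,
        Matrix.vecMulVec_mulVec, fn_dot hh.toSesq, op_smul_eq_smul, smul_smul, zero_smul, smul_zero, add_zero, sub_zero]
    refine ⟨E, hE, e1, Units.inv_eq_of_mul_eq_one_right ?_⟩
    have e2 : iN h x * iN h x = 0 := by rw [iN, vmv_mul, fn_dot hh.toSesq, hx, zero_smul]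
    rw [e1, add_mul, one_mul, mul_sub, mul_one, smul_mul_smul_comm, e2, smul_zero, sub_zero, sub_add_cancel]
  obtain ⟨A, hA⟩ : ∃ A, A = et (κ := κ) l (iN h v) := ⟨_, rfl⟩
  obtain ⟨B, hB⟩ : ∃ B, B = et (κ := κ) l (iN h w) := ⟨_, rfl⟩
  have z : et (F := F) (κ := κ) (β := β) l 0 = 0 := by rw [← zero_smul F (1 : Mb), et_smul, zero_smul]
  have hAB : A * B = 0 := by rw [hA, hB, et_mul, iN, iN, vmv_mul, fn_dot hh.toSesq, hwv, zero_smul, z]
  have hBA : B * A = 0 := by rw [hA, hB, et_mul, iN, iN, vmv_mul, fn_dot hh.toSesq, hvw, zero_smul, z]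
  have hAA : A * A = 0 := by rw [hA, et_mul, iN, vmv_mul, fn_dot hh.toSesq, hvv, zero_smul, z]
  obtain ⟨S, hSdef⟩ : ∃ S, S = A * R * B + B * R * A := ⟨_, rfl⟩
  have hS : P S := by
    obtain ⟨Ev, hEv, e1, e1'⟩ := hroot v hvv
    obtain ⟨Ew, hEw, e2, e2'⟩ := hroot w hww
    have d := fun (x : β → F) => (show et (κ := κ) l (1 + τ • iN h x) = 1 + τ • et l (iN h x) by
      rw [et_add, et_smul, et_one])
    have d' := fun (x : β → F) => (show et (κ := κ) l (1 - τ • iN h x) = 1 - τ • et l (iN h x) by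
      rw [sub_eq_add_neg, ← neg_smul, et_add, et_smul, et_one, neg_smul, ← sub_eq_add_neg])
    have h1 := hP.sub (hP.conj l Ew hEw hR) hR
    have h2 := hP.fixed (r := -(τ * τ)⁻¹) (by rw [map_neg, map_inv₀, hσr]) (hP.sub (hP.conj l Ev hEv h1) h1)
    rw [e1, e1', e2, e2', d, d', d, d', ← hA, ← hB] at h2
    rwa [delta_two hAB hBA, smul_smul, neg_mul_neg, inv_mul_cancel₀ (mul_ne_zero hτ hτ), one_smul, ← hSdef] at h2
  obtain ⟨a, hadef⟩ : ∃ a, a = yop l w (fn h v) R := ⟨_, rfl⟩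
  obtain ⟨b, hbdef⟩ : ∃ b, b = yop l v (fn h w) R := ⟨_, rfl⟩
  have hS2 : S = et l (vecMulVec v (fn h w)) * a + et l (vecMulVec w (fn h v)) * b := by
    rw [hSdef, hA, hB, hadef, hbdef, iN, iN, et_yop', et_yop']
  obtain ⟨ω, hω⟩ := hh.exists_moved
  obtain ⟨lam, hlam⟩ : ∃ lam : F, σ lam • a + lam • b ≠ 0 := by
    by_contra hc
    push Not at hc
    have h1 := hc 1
    rw [map_one, one_smul, one_smul] at h1
    have h2 := hc ω
    rw [eq_neg_of_add_eq_zero_right h1, smul_neg, ← sub_eq_add_neg, ← sub_smul] at h2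
    exact ha (hadef ▸ (smul_eq_zero.1 h2).resolve_left (sub_ne_zero.2 hω))
  obtain ⟨E, hE, hEv, hEw⟩ : ∃ E : GL β F, E ∈ isoSL h ∧ (E : Mb) *ᵥ v = v ∧ (E : Mb) *ᵥ w = w + lam • v := by
    obtain ⟨x, hxv, hxw⟩ : ∃ x, h x v = 0 ∧ h x w ≠ 0 := by
      by_contra hc
      push Not at hc
      obtain ⟨r, hr⟩ := hh.toSesq.eq_smul_of_ker hv0 hc
      rcases eq_or_ne r 0 with rfl | hr0
      · exact hw0 (by rw [hr, zero_smul])
      · exact hind r⁻¹ (by rw [hr, smul_smul, inv_mul_cancel₀ hr0, one_smul])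
    obtain ⟨u, hu⟩ : ∃ u, u = (-σ lam / h x w) • x := ⟨_, rfl⟩
    have huv : h u v = 0 := by rw [hu, hh.smul_left, hxv, mul_zero]
    have hwu : h w u = -lam := by
      rw [hh.herm, hu, hh.smul_left, div_mul_cancel₀ _ hxw, map_neg, hh.invol]
    obtain ⟨r, hr⟩ := hh.exists_trace_eq (a := -h u u) (by rw [map_neg, hh.self_fixed])
    obtain ⟨E, hE, hEx⟩ := exists_eich hh hvv huv hr
    refine ⟨E, hE, ?_, ?_⟩
    · rw [hEx, hvv, hh.refl _ _ huv]; simp
    · rw [hEx, hwv, hwu]; simp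
  have hcom : Com l (σ lam • a + lam • b) := by
    intro T
    rw [mul_add, add_mul, Matrix.mul_smul, Matrix.mul_smul, Matrix.smul_mul, Matrix.smul_mul, hadef, hbdef,
      yop_com l w _ R T, yop_com l v _ R T]
  obtain ⟨R', hR'⟩ : ∃ R', R' = et l (E : Mb) * S * et l ((E⁻¹ : GL β F) : Mb) - S := ⟨_, rfl⟩
  have hform : R' = et l (iN h v) * (σ lam • a + lam • b) := by
    rw [hR', hS2, mul_add, add_mul]
    have e : ∀ (T : Mb) (Z : Mn), Com l Z → et l (E : Mb) * (et l T * Z) * et l ((E⁻¹ : GL β F) : Mb) =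
        et l ((E : Mb) * T * ((E⁻¹ : GL β F) : Mb)) * Z := fun T Z hZ => by
      rw [← mul_assoc, et_mul, mul_assoc, ← hZ, ← mul_assoc, et_mul]
    rw [e _ _ (hadef ▸ yop_com l _ _ _), e _ _ (hbdef ▸ yop_com l _ _ _), vmv_conj hh hE.1, vmv_conj hh hE.1,
      hEv, hEw, fn_add hh.toSesq, fn_smul hh.toSesq, Matrix.vecMulVec_add, Matrix.add_vecMulVec, Matrix.vecMulVec_smul,
      Matrix.smul_vecMulVec, et_add, et_add, et_smul, et_smul, add_mul, add_mul, Matrix.smul_mul, Matrix.smul_mul,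
      mul_add, Matrix.mul_smul, Matrix.mul_smul]
    rw [iN]
    abel
  refine ⟨R', hR' ▸ hP.sub (hP.conj l E hE hS) hS, fun e => hlam ?_, ⟨v, hvv, hv0, _, hcom, hform⟩, ?_⟩
  · rw [hform] at e
    exact et_com_zero hv0 (fn_ne_zero hh hv0) hcom e
  · intro j _ Q hQ hQR
    rw [hform, hadef, hbdef]
    exact hQ.left _ (hQ.add (hQ.smul _ (hQ.yop _ _ hQR)) (hQ.smul _ (hQ.yop _ _ hQR)))

/-- All factors are made pure or central. -/
theorem reduce {R₀ : Mn} (hR₀ : P R₀) (hne : R₀ ≠ 0) :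
    ∃ R, P R ∧ R ≠ 0 ∧ (∀ j, Nil h j R₀ → Nil h j R) ∧ (∀ l, Pure h l R ∨ Com l R) ∧
      (R ≠ R₀ → ∃ l, Pure h l R) :=
  reduce_of hh (fun _ _ hR hnc => step hh h4 hP hR hnc) hR₀ hne

/-- A larger set of pure factors. -/
theorem grow {J : Finset κ} {vs : κ → β → F} {r : F} (hr : r ≠ 0) (hR : P (r • wm 1 (iG h J vs)))
    (hvs : ∀ l ∈ J, h (vs l) (vs l) = 0 ∧ vs l ≠ 0) {j l : κ} (hj : j ∈ J) (hl : l ∉ J) :
    ∃ (J' : Finset κ) (us : κ → β → F) (r' : F), r' ≠ 0 ∧ J.card < J'.card ∧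
      (∀ l ∈ J', h (us l) (us l) = 0 ∧ us l ≠ 0) ∧ P (r' • wm 1 (iG h J' us)) := by
  classical
  have hlj : l ≠ j := fun e => hl (e ▸ hj)
  -- the translate
  set K := J.image (Equiv.swap j l) with hK
  have hKmem : ∀ x, x ∈ K ↔ Equiv.swap j l x ∈ J := fun x => by
    rw [hK, Finset.mem_image]
    exact ⟨fun ⟨y, hy, e⟩ => by rwa [← e, Equiv.swap_apply_self], fun hx => ⟨_, hx, Equiv.swap_apply_self _ _ _⟩⟩
  have hsw : P (r • wm 1 (iG h K (vs ∘ Equiv.swap j l))) := by
    convert hP.swap j l hR using 4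
    funext x
    simp [iG, hKmem]
  -- isotropic vectors: partners on the common factors
  have hus : ∀ x, ∃ u : β → F, (x ∈ K → h u u = 0 ∧ u ≠ 0) ∧ (x ∈ K → x ∈ J → h u (vs x) = 1) := fun x => by
    by_cases hx : x ∈ K ∧ x ∈ J
    · obtain ⟨u, huu, huv⟩ := TensorHerm.exists_partner hh (hvs x hx.2).1 (hvs x hx.2).2
      exact ⟨u, fun _ => ⟨huu, fun e => one_ne_zero (by rw [← huv, e, hh.toSesq.zero_left])⟩, fun _ _ => huv⟩
    · refine ⟨vs (Equiv.swap j l x), fun hxK => hvs _ ((hKmem x).1 hxK), fun a b => absurd ⟨a, b⟩ hx⟩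
  choose us hus1 hus2 using hus
  obtain ⟨d, hd, -, hS⟩ := change hh hP.toPAlg hsw (fun x hx => hvs _ ((hKmem x).1 hx)) fun x hx => hus1 x hx
  obtain ⟨A, hA⟩ : ∃ A, A = iG h J vs * iG h K us := ⟨_, rfl⟩
  obtain ⟨B, hB⟩ : ∃ B, B = iG h K us * iG h J vs := ⟨_, rfl⟩
  -- a test vector
  have hx : ∀ x, ∃ y : β → F, A x *ᵥ y ≠ 0 ∧ (x ∈ K → x ∈ J → B x *ᵥ y = 0) ∧ (¬(x ∈ K ∧ x ∈ J) → A x = B x) := by
    intro x
    have hpart : ∀ v, h v v = 0 → v ≠ 0 → ∃ y, iN h v *ᵥ y ≠ 0 := fun v hvv hv0 => by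
      obtain ⟨y, -, hy⟩ := TensorHerm.exists_partner hh hvv hv0
      exact ⟨y, by rw [iN, Matrix.vecMulVec_mulVec, fn_dot hh.toSesq, hy]; simpa using hv0⟩
    by_cases hxK : x ∈ K <;> by_cases hxJ : x ∈ J
    · refine ⟨vs x, ?_, fun _ _ => ?_, fun e => absurd ⟨hxK, hxJ⟩ e⟩
      all_goals
        have h1 := hus2 x hxK hxJ
        have h2 : h (vs x) (us x) = 1 := by rw [hh.herm, h1, map_one]
        simp only [hA, hB, Pi.mul_apply, iG, hxK, hxJ, if_true, iN, vmv_mul, fn_dot hh.toSesq, h1, h2, one_smul,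
          Matrix.vecMulVec_mulVec, (hvs x hxJ).1]
      · simpa using (hvs x hxJ).2
      · simp
    · obtain ⟨y, hy⟩ := hpart _ (hus1 x hxK).1 (hus1 x hxK).2
      exact ⟨y, by simpa [hA, iG, hxK, hxJ] using hy, fun _ e => absurd e hxJ, fun _ => by simp [hA, hB, iG, hxJ]⟩
    · obtain ⟨y, hy⟩ := hpart _ (hvs x hxJ).1 (hvs x hxJ).2
      exact ⟨y, by simpa [hA, iG, hxK, hxJ] using hy, fun e => absurd e hxK, fun _ => by simp [hA, hB, iG, hxK]⟩
    · obtain ⟨b₀⟩ : Nonempty β := Fintype.card_pos_iff.1 (by omega)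
      exact ⟨Pi.single b₀ 1, fun e => one_ne_zero (α := F) (by
        simpa [hA, iG, hxK, hxJ] using congrFun e b₀), fun e => absurd e hxK, fun _ => by simp [hA, hB, iG, hxK, hxJ]⟩
  choose ys hys1 hys2 hys3 using hx
  obtain ⟨s, hs⟩ : ∃ s, s = r * (d * r) := ⟨_, rfl⟩
  have hs0 : s ≠ 0 := hs ▸ mul_ne_zero hr (mul_ne_zero hd hr)
  obtain ⟨ν, hν0, hν⟩ : ∃ ν : F, ν ≠ 0 ∧
      σ ν • ((wm 1 A : Mn) *ᵥ ptens ys) - ν • ((wm 1 B : Mn) *ᵥ ptens ys) ≠ 0 := by
    have hAne : (wm 1 A : Mn) *ᵥ ptens ys ≠ 0 := by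
      rw [wm_mulVec]; exact ptens_ne_zero fun x => hys1 x
    by_cases hC : ∃ x, x ∈ K ∧ x ∈ J
    · obtain ⟨x, hxK, hxJ⟩ := hC
      refine ⟨1, one_ne_zero, ?_⟩
      have hB0 : (wm 1 B : Mn) *ᵥ ptens ys = 0 := by
        rw [wm_mulVec]
        funext a
        exact Finset.prod_eq_zero (Finset.mem_univ x) (by simp only [Equiv.Perm.coe_one, id_eq, hys2 x hxK hxJ]; rfl)
      rw [hB0, map_one, one_smul, smul_zero, sub_zero]
      exact hAne
    · push Not at hC
      have hAB : A = B := funext fun x => hys3 x fun e => hC x e.1 e.2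
      obtain ⟨ω, hω⟩ := hh.exists_moved
      refine ⟨ω, fun e => hω (by rw [e, map_zero]), ?_⟩
      rw [← hAB, ← sub_smul]
      exact smul_ne_zero (sub_ne_zero.2 hω) hAne
  have hQ := hP.br ν hR hS
  rw [Matrix.smul_mul, Matrix.mul_smul, Matrix.smul_mul, Matrix.mul_smul, wm1_mul, wm1_mul, ← hA, ← hB, smul_smul,
    smul_smul, smul_smul, smul_smul, mul_assoc, mul_assoc, mul_comm (d * r) r, ← hs] at hQ
  obtain ⟨R₁, hR₁⟩ : ∃ R₁, R₁ = (σ ν * s) • (wm 1 A : Mn) - (ν * s) • wm 1 B := ⟨_, rfl⟩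
  rw [← hR₁] at hQ
  have hR₁0 : R₁ ≠ 0 := fun e => hν (by
    have h1 := congrArg (fun Z : Mn => s⁻¹ • (Z *ᵥ ptens ys)) e
    simp only [hR₁, Matrix.sub_mulVec, Matrix.smul_mulVec, smul_sub, smul_smul, Matrix.zero_mulVec, smul_zero] at h1
    rwa [show s⁻¹ * (σ ν * s) = σ ν by field_simp, show s⁻¹ * (ν * s) = ν by field_simp] at h1)
  -- annihilated at every factor involved
  have hnil : ∀ x, x ∈ J ∨ x ∈ K → Nil h x R₁ := by
    intro x hx
    obtain ⟨b, hbb, hb0, h1, h2⟩ : ∃ b, h b b = 0 ∧ b ≠ 0 ∧ iN h b * A x = 0 ∧ iN h b * B x = 0 := by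
      by_cases hxK : x ∈ K <;> by_cases hxJ : x ∈ J
      · have huv := hus2 x hxK hxJ
        obtain ⟨b, hb, hb0, hbb⟩ := hh.exists_iso (S := perp2 hh (us x) (vs x)) (by
          have := TensorHerm.finrank_perp2 hh (us x) (vs x); omega)
        refine ⟨b, hbb, hb0, ?_, ?_⟩ <;>
          simp [hA, hB, iG, hxK, hxJ, iN, vmv_mul, fn_dot hh.toSesq, hh.refl _ _ hb.1, hh.refl _ _ hb.2,
            Matrix.mul_smul, Matrix.vecMulVec_smul]
      · refine ⟨us x, (hus1 x hxK).1, (hus1 x hxK).2, ?_, ?_⟩ <;>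
          simp [hA, hB, iG, hxK, hxJ, iN, vmv_mul, fn_dot hh.toSesq, (hus1 x hxK).1]
      · refine ⟨vs x, (hvs x hxJ).1, (hvs x hxJ).2, ?_, ?_⟩ <;>
          simp [hA, hB, iG, hxK, hxJ, iN, vmv_mul, fn_dot hh.toSesq, (hvs x hxJ).1]
      · exact absurd hx (by simp [hxK, hxJ])
    refine ⟨b, hb0, ?_⟩
    have e : ∀ G : κ → Mb, iN h b * G x = 0 → et x (iN h b) * wm 1 G = 0 := fun G hG => by
      rw [et, wm1_mul]
      ext p q
      simp only [wm, Matrix.of_apply]
      exact Finset.prod_eq_zero (Finset.mem_univ x) (by rw [Pi.mul_apply, Function.update_self, hG]; rfl)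
    rw [hR₁, mul_sub, Matrix.mul_smul, Matrix.mul_smul, e A h1, e B h2, smul_zero, smul_zero, sub_zero]
  obtain ⟨R₂, hR₂, hR₂0, hkeep, hall, -⟩ := reduce hh h4 hP hQ hR₁0
  obtain ⟨J', ws, r', hr', hws, hJ', hform⟩ := normal_form hh hR₂0 hall
  refine ⟨J', ws, r', hr', ?_, hws, hform ▸ hR₂⟩
  have hsub : insert l J ⊆ J' := fun x hx => by
    have hxn : Nil h x R₂ := hkeep x (hnil x (by
      rcases Finset.mem_insert.1 hx with rfl | hx
      · exact Or.inr ((hKmem x).2 (by rw [Equiv.swap_apply_right]; exact hj))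
      · exact Or.inl hx))
    exact hJ' x ((hall x).resolve_right (not_com_of_nil hh hxn hR₂0))
  have := Finset.card_le_card hsub
  rw [Finset.card_insert_of_notMem hl] at this
  omega

/-- A non-scalar member gives the tensor power of an isotropic projection. -/
theorem exists_top {R₀ : Mn} (hR₀ : P R₀) (hns : ∀ r : F, R₀ ≠ r • (1 : Mn)) :
    ∃ (vs : κ → β → F) (r : F), r ≠ 0 ∧ (∀ l, h (vs l) (vs l) = 0 ∧ vs l ≠ 0) ∧
      P (r • wm 1 fun l => iN h (vs l)) := by
  obtain ⟨J, vs, r, hJ, hr, hvs, hPJ⟩ := exists_start hh (fun _ _ hR hnc => step hh h4 hP hR hnc) hR₀ hns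
  exact top_of hh (fun J vs r hr hR hvs j hj l hl => grow hh h4 hP hr hR hvs hj hl) hJ hr hvs hPJ

end Cfsg.Agent.Classical.TensorPowForm
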