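import Cfsg.Agent.Lib.Classical.TensorPowForm.Algebra

/-!
With a fixed element other than zero and one, a factor is made pure by one isotropic projection on both sides.
-/

set_option autoImplicit false
set_option linter.unusedSectionVars false

namespace Cfsg.Agent.Classical.TensorPowForm

open Matrix Module MaxTv TensorMax TensorPow
open Cfsg.Agent.Classical.TensorHerm (isoSL exists_hyp exists_eich)

variable {F : Type*} [Field F] [Fintype F] {κ β : Type} [Fintype κ] [DecidableEq κ] [Fintype β] [DecidableEq β]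

local notation "Mn" => Matrix (κ → β) (κ → β) F
local notation "Mb" => Matrix β β F

variable {σ : F ≃+* F} {h : (β → F) → (β → F) → F} (hh : Herm σ h)
include hh

/-- A sesquilinear map vanishing on the diagonal at the isotropic vectors is a multiple of the form. -/
theorem sesq_zero_of_iso (hb : 2 ≤ Fintype.card β) {W : Type*} [AddCommGroup W] [Module F W]
    (Φ : (β → F) → (β → F) → W) (hal : ∀ x y w, Φ (x + y) w = Φ x w + Φ y w)
    (har : ∀ x y w, Φ w (x + y) = Φ w x + Φ w y) (hsl : ∀ (a : F) x w, Φ (a • x) w = a • Φ x w)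
    (hsr : ∀ (a : F) x w, Φ x (a • w) = σ a • Φ x w) (hiso : ∀ v, h v v = 0 → Φ v v = 0)
    {x w : β → F} (hxw : h x w = 0) : Φ x w = 0 := by
  obtain ⟨z, u, hz, hu, huz⟩ := exists_hyp hh hb
  have hzu : h z u = 1 := by rw [hh.herm, huz, map_one]
  obtain ⟨τ, hτ, hτs⟩ := hh.exists_skew
  have hστ : σ τ = -τ := eq_neg_of_add_eq_zero_right hτs
  obtain ⟨c, hc⟩ := hh.exists_moved
  -- the value at a hyperbolic pair
  have hsym : ∀ z u : β → F, h z z = 0 → h u u = 0 → h u z = 1 → Φ u z = Φ z u := fun z u hz hu huz => by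
    have hzu : h z u = 1 := by rw [hh.herm, huz, map_one]
    have h1 := hiso (z + τ • u) (by
      simp only [hh.add_left, hh.add_right, hh.smul_left, hh.smul_right, hz, hu, huz, hzu, hστ]; ring)
    simp only [hal, har, hsl, hsr, hiso z hz, hiso u hu, hστ, smul_zero, zero_add, add_zero] at h1
    refine smul_right_injective _ hτ ?_
    linear_combination (norm := module) h1
  -- the orthogonal space
  have hperp : ∀ z u : β → F, h z z = 0 → h u u = 0 → h u z = 1 → ∀ x, h x z = 0 → h x u = 0 →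
      Φ x u = 0 ∧ Φ u x = 0 ∧ (∀ l, l + σ l = -h x x →
        Φ z x + Φ x z + Φ x x + σ l • Φ z u + l • Φ z u + σ l • Φ x u + l • Φ u x = 0) := by
    intro z u hz hu huz x hxz hxu
    have hzu : h z u = 1 := by rw [hh.herm, huz, map_one]
    have key : ∀ x, h x z = 0 → h x u = 0 → ∀ l, l + σ l = -h x x →
        Φ z x + Φ x z + Φ x x + σ l • Φ z u + l • Φ z u + σ l • Φ x u + l • Φ u x = 0 := fun x hxz hxu l hl => by
      have h1 := hiso (z + x + l • u) (by
        simp only [hh.add_left, hh.add_right, hh.smul_left, hh.smul_right, hz, hu, huz, hzu, hxz, hxu,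
          hh.refl _ _ hxz, hh.refl _ _ hxu]
        linear_combination hl)
      simp only [hal, har, hsl, hsr, hiso z hz, hiso u hu, hsym z u hz hu huz, smul_zero, zero_add, add_zero] at h1
      linear_combination (norm := module) h1
    have heq : ∀ x, h x z = 0 → h x u = 0 → Φ u x = Φ x u := fun x hxz hxu => by
      obtain ⟨l, hl⟩ := hh.exists_trace_eq (a := -h x x) (by rw [map_neg, hh.self_fixed])
      have h1 := key x hxz hxu l hl
      have h2 := key x hxz hxu (l + τ) (by rw [map_add, hστ]; linear_combination hl)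
      rw [map_add, hστ] at h2
      refine smul_right_injective _ hτ ?_
      linear_combination (norm := module) h2 - h1
    have h1 := heq x hxz hxu
    have h2 := heq (c • x) (by rw [hh.smul_left, hxz, mul_zero]) (by rw [hh.smul_left, hxu, mul_zero])
    rw [hsl, hsr, h1, ← sub_eq_zero, ← sub_smul, smul_eq_zero] at h2
    have h3 : Φ x u = 0 := h2.resolve_left (sub_ne_zero.2 hc)
    exact ⟨h3, h1.trans h3, key x hxz hxu⟩
  have hperp' : ∀ x, h x z = 0 → h x u = 0 → Φ x u = 0 ∧ Φ u x = 0 ∧ Φ x z = 0 ∧ Φ z x = 0 ∧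
      Φ x x = h x x • Φ z u := fun x hxz hxu => by
    obtain ⟨e1, e2, e5⟩ := hperp z u hz hu huz x hxz hxu
    obtain ⟨e3, e4, -⟩ := hperp u z hu hz hzu x hxu hxz
    refine ⟨e1, e2, e3, e4, ?_⟩
    obtain ⟨l, hl⟩ := hh.exists_trace_eq (a := -h x x) (by rw [map_neg, hh.self_fixed])
    have h5 := e5 l hl
    rw [e1, e2, e3, e4, smul_zero, smul_zero, add_zero, add_zero, zero_add, zero_add, add_assoc, ← add_smul,
      add_comm (σ l), hl, neg_smul, ← sub_eq_add_neg, sub_eq_zero] at h5
    exact h5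
  -- the decomposition
  have hdec : ∀ x, ∃ x', x = h x u • z + h x z • u + x' ∧ h x' z = 0 ∧ h x' u = 0 := fun x =>
    ⟨x - h x u • z - h x z • u, by abel,
      by rw [hh.toSesq.sub_left, hh.toSesq.sub_left, hh.smul_left, hh.smul_left, hz, huz]; ring,
      by rw [hh.toSesq.sub_left, hh.toSesq.sub_left, hh.smul_left, hh.smul_left, hzu, hu]; ring⟩
  obtain ⟨x', ex, hxz, hxu⟩ := hdec x
  obtain ⟨w', ew, hwz, hwu⟩ := hdec w
  obtain ⟨hx1, hx2, hx3, hx4, hxx⟩ := hperp' x' hxz hxu
  obtain ⟨hw1, hw2, hw3, hw4, hww⟩ := hperp' w' hwz hwu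
  have hmid : Φ x' w' = h x' w' • Φ z u := by
    have e : ∀ a : F, σ a • (Φ x' w' - h x' w' • Φ z u) + a • (Φ w' x' - h w' x' • Φ z u) = 0 := fun a => by
      have h1 := (hperp' (x' + a • w') (by rw [hh.add_left, hh.smul_left, hxz, hwz, mul_zero, add_zero])
        (by rw [hh.add_left, hh.smul_left, hxu, hwu, mul_zero, add_zero])).2.2.2.2
      simp only [hal, har, hsl, hsr, hh.add_left, hh.add_right, hh.smul_left, hh.smul_right, hxx, hww] at h1
      linear_combination (norm := module) h1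
    have e1 := e 1
    rw [map_one, one_smul, one_smul] at e1
    have e2 : (σ c - c) • (Φ x' w' - h x' w' • Φ z u) = 0 := by
      linear_combination (norm := module) e c - c • e1
    exact sub_eq_zero.1 ((smul_eq_zero.1 e2).resolve_left (sub_ne_zero.2 hc))
  have hx : h x w = h x u * σ (h w z) + h x z * σ (h w u) + h x' w' := by
    conv_lhs => rw [ex, ew]
    simp only [hh.add_left, hh.add_right, hh.smul_left, hh.smul_right, hz, hu, huz, hzu, hxz, hxu,
      hh.refl _ _ hwz, hh.refl _ _ hwu]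
    ring
  have hΦ : Φ x w = (h x u * σ (h w z) + h x z * σ (h w u) + h x' w') • Φ z u := by
    conv_lhs => rw [ex, ew]
    simp only [hal, har, hsl, hsr, hiso z hz, hiso u hu, hsym z u hz hu huz, hx1, hx3, hw2, hw4, hmid, smul_zero,
      zero_add, add_zero, smul_smul]
    module
  rw [hΦ, ← hx, hxw, zero_smul]

/-- No contraction at isotropic vectors: commuting at the factor. -/
theorem com_of_diag (hb : 2 ≤ Fintype.card β) {l : κ} {R : Mn}
    (H : ∀ v, h v v = 0 → yop l v (fn h v) R = 0) : Com l R := by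
  classical
  obtain ⟨b₀⟩ : Nonempty β := Fintype.card_pos_iff.1 (by omega)
  suffices key : ∀ v φ : β → F, φ ⬝ᵥ v = 0 → yop l v φ R = 0 by
    rw [eq_yop_of_vanish key b₀]
    exact yop_com _ _ _ _
  intro v φ hφ
  obtain ⟨w, rfl⟩ := fn_surjective hh.toSesq φ
  rw [fn_dot hh.toSesq] at hφ
  refine sesq_zero_of_iso hh hb (fun x w => yop l x (fn h w) R) (fun x y w => yop_add_left l x y _ R)
    (fun x y w => by simp only [fn_add hh.toSesq, yop_add_right]) (fun a x w => ?_) (fun a x w => ?_) H hφ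
  · simp only [TensorPow.yop, Finset.smul_sum]
    exact Finset.sum_congr rfl fun b _ => by rw [Matrix.smul_vecMulVec, et_smul, Matrix.mul_smul]
  · simp only [TensorPow.yop, Finset.smul_sum, fn_smul hh.toSesq]
    exact Finset.sum_congr rfl fun b _ => by
      rw [Matrix.vecMulVec_smul, et_smul, Matrix.smul_mul, Matrix.smul_mul]

/-- The root element of an isotropic vector. -/
theorem exists_root_mat {x : β → F} (hx : h x x = 0) {τ : F} (hτs : τ + σ τ = 0) :
    ∃ E : GL β F, E ∈ isoSL h ∧ (E : Mb) = 1 + τ • iN h x ∧ ((E⁻¹ : GL β F) : Mb) = 1 - τ • iN h x := by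
  obtain ⟨E, hE, hEx⟩ := exists_eich hh (u := 0) (l := τ) hx (hh.toSesq.zero_left _)
    (by rw [hh.toSesq.zero_left, neg_zero, hτs])
  have e1 : (E : Mb) = 1 + τ • iN h x := Matrix.ext_iff_mulVec.2 fun y => by
    rw [hEx, hh.toSesq.zero_right, Matrix.add_mulVec, Matrix.one_mulVec, Matrix.smul_mulVec, iN,
      Matrix.vecMulVec_mulVec, fn_dot hh.toSesq, op_smul_eq_smul, smul_smul, zero_smul, smul_zero, add_zero, sub_zero]
  refine ⟨E, hE, e1, Units.inv_eq_of_mul_eq_one_right ?_⟩
  have e2 : iN h x * iN h x = 0 := by rw [iN, vmv_mul, fn_dot hh.toSesq, hx, zero_smul]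
  rw [e1, add_mul, one_mul, mul_sub, mul_one, smul_mul_smul_comm, e2, smul_zero, sub_zero, sub_add_cancel]

variable {P : Matrix (κ → β) (κ → β) F → Prop} (hP : PAlg σ h P)
include hP

/-- One factor is made pure. -/
theorem step_fix (hb : 2 ≤ Fintype.card β) {r : F} (hr : σ r = r) (hr0 : r ≠ 0) (hr1 : r ≠ 1) : Step h P := by
  intro l R hR hnc
  obtain ⟨v, hvv, hv⟩ : ∃ v, h v v = 0 ∧ yop l v (fn h v) R ≠ 0 := by
    by_contra hc
    push Not at hc
    exact hnc (com_of_diag hh hb hc)
  have hv0 : v ≠ 0 := fun e => hv (by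
    rw [e]
    have := yop_add_left l (0 : β → F) 0 (fn h (0 : β → F)) R
    rwa [add_zero, left_eq_add] at this)
  obtain ⟨τ, hτ, hτs⟩ := hh.exists_skew
  have hστ : σ τ = -τ := eq_neg_of_add_eq_zero_right hτs
  obtain ⟨A, hA⟩ : ∃ A, A = et (κ := κ) l (iN h v) := ⟨_, rfl⟩
  have d : ∀ s : F, s + σ s = 0 → P ((1 + s • A) * R * (1 - s • A) - R) := fun s hs => by
    obtain ⟨E, hE, e1, e2⟩ := exists_root_mat hh hvv hs
    have h1 := hP.sub (hP.conj l E hE hR) hR
    rw [e1, e2, et_add, et_smul, et_one, sub_eq_add_neg (1 : Mb), ← neg_smul, et_add, et_smul, et_one, neg_smul,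
      ← sub_eq_add_neg, ← hA] at h1
    exact h1
  have hp : (r * r - r) * (τ * τ) ≠ 0 := mul_ne_zero (fun e => by
    have e' : r * (r - 1) = 0 := by linear_combination e
    exact hr1 (sub_eq_zero.1 ((mul_eq_zero.1 e').resolve_left hr0))) (mul_ne_zero hτ hτ)
  have hpf : σ ((r * r - r) * (τ * τ))⁻¹ = ((r * r - r) * (τ * τ))⁻¹ := by
    rw [map_inv₀, map_mul, map_sub, map_mul, map_mul, hr, hστ, neg_mul_neg]
  have hARA : P (A * R * A) := by
    have h1 := hP.fixed hpf (hP.sub (hP.fixed hr (d τ hτs))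
      (d (r * τ) (by rw [map_mul, hr, ← mul_add, hτs, mul_zero])))
    have e : r • ((1 + τ • A) * R * (1 - τ • A) - R) - ((1 + (r * τ) • A) * R * (1 - (r * τ) • A) - R) =
        ((r * r - r) * (τ * τ)) • (A * R * A) := by
      simp only [add_mul, mul_sub, one_mul, mul_one, Matrix.smul_mul, Matrix.mul_smul]
      module
    rwa [e, smul_smul, inv_mul_cancel₀ hp, one_smul] at h1
  have hform : A * R * A = et l (iN h v) * yop l v (fn h v) R := by rw [hA, iN, et_yop']
  refine ⟨A * R * A, hARA, fun e => hv ?_, ⟨v, hvv, hv0, _, yop_com l _ _ _, hform⟩, fun j _ Q hQ hQR => ?_⟩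
  · exact et_com_zero hv0 (fn_ne_zero hh hv0) (yop_com l _ _ _) (hform ▸ e)
  · rw [hform]
    exact hQ.left _ (hQ.yop _ _ hQR)

end Cfsg.Agent.Classical.TensorPowForm
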