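import Cfsg.Agent.Lib.Classical.TensorPow.Classify
import Cfsg.Agent.Lib.Classical.MaxTensorHermScal

/-!
Tensor powers of a unitary space: the form, its isometries of determinant one, and the splitting off of one factor.
-/

set_option autoImplicit false
set_option linter.unusedSectionVars false

open scoped Kronecker

namespace Cfsg.Agent.Classical.TensorPowForm

open Matrix Module MaxTv TensorMax TensorPow
open Cfsg.Agent.Classical.TensorHerm (isoSL Pre)
open Cfsg.Agent.Classical.TensorRoot (kg kg_apply kg_isKron)

variable {F : Type*} [Field F] [Fintype F] {κ β : Type} [Fintype κ] [DecidableEq κ] [Fintype β] [DecidableEq β]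

local notation "X" => (κ → β)
local notation "V" => ((κ → β) → F)
local notation "Mn" => Matrix (κ → β) (κ → β) F
local notation "Mb" => Matrix β β F

theorem k2_eq_kg {α : Type} [Fintype α] [DecidableEq α] (A : GL α F) (B : GL β F) : k2 A B = kg A B :=
  Units.ext rfl

variable (σ : F ≃+* F) (c : F) (h : (β → F) → (β → F) → F)

/-- The tensor power of a form, times a constant. -/
def tf (x y : (κ → β) → F) : F :=
  c * (x ⬝ᵥ (wm (1 : Equiv.Perm κ) (fun _ => Matrix.of fun a b => h (Pi.single a 1) (Pi.single b 1)) *ᵥ
    fun a => σ (y a)))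

/-- The group of isometries of determinant one. -/
abbrev GT : Subgroup (GL (κ → β) F) := isoSL (tf (κ := κ) σ c h)

/-- The form in the coordinates splitting off a factor. -/
def tfs (i : κ) (x y : (Rst i → β) × β → F) : F := tf σ c h ((spV i).symm x) ((spV i).symm y)

/-- The data of a tensor power of a unitary space. -/
structure TData : Prop where
  hh : Herm σ h
  hc : c ≠ 0
  hσc : σ c = c

variable {σ c h}

theorem ptens_single (a : κ → β) : ptens (fun l => (Pi.single (a l) 1 : β → F)) = Pi.single a 1 := by
  funext b
  by_cases e : b = a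
  · subst e; simp [ptens]
  · obtain ⟨l, hl⟩ := Function.ne_iff.1 e
    rw [Pi.single_eq_of_ne e]
    exact Finset.prod_eq_zero (Finset.mem_univ l) (Pi.single_eq_of_ne hl _)

/-- Linear maps agreeing on pure tensors are equal. -/
theorem ext_ptens {W : Type*} [AddCommGroup W] [Module F W] {L L' : V →ₗ[F] W}
    (hL : ∀ xs : κ → β → F, L (ptens xs) = L' (ptens xs)) : L = L' :=
  (Pi.basisFun F (κ → β)).ext fun a => by rw [Pi.basisFun_apply, ← ptens_single]; exact hL _

/-- The span of the pure tensors with entries in spanning sets. -/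
theorem ptens_mem_of {S : Submodule F V} {P : (β → F) → Prop}
    (hP : ∀ p : Submodule F (β → F), (∀ v, P v → v ∈ p) → p = ⊤)
    (hS : ∀ xs : κ → β → F, (∀ l, P (xs l)) → ptens xs ∈ S) (xs : κ → β → F) : ptens xs ∈ S := by
  suffices key : ∀ (s : Finset κ) (xs : κ → β → F), (∀ l ∉ s, P (xs l)) → ptens xs ∈ S from
    key Finset.univ xs fun l hl => absurd (Finset.mem_univ l) hl
  intro s
  induction s using Finset.induction_on with
  | empty => exact fun xs hxs => hS xs fun l => hxs l (Finset.notMem_empty l)
  | insert a s ha ih =>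
    intro xs hxs
    let L : (β → F) →ₗ[F] V :=
      { toFun := fun v => ptens (Function.update xs a v)
        map_add' := fun v w => funext fun b => by
          simp only [ptens_update, Pi.add_apply, add_mul]
        map_smul' := fun r v => funext fun b => by
          simp only [ptens_update, Pi.smul_apply, smul_eq_mul, RingHom.id_apply, mul_assoc] }
    have htop : S.comap L = ⊤ := hP _ fun v hv => ih _ fun l hl => by
      by_cases e : l = a
      · subst e; rwa [Function.update_self]
      · rw [Function.update_of_ne e]; exact hxs l (by simp [e, hl])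
    have hmem : L (xs a) ∈ S := (htop ▸ Submodule.mem_top : xs a ∈ S.comap L)
    simpa [L] using hmem

theorem apply_gram (hh : Herm σ h) (x y : β → F) :
    x ⬝ᵥ ((Matrix.of fun a b => h (Pi.single a 1) (Pi.single b 1) : Mb) *ᵥ fun a => σ (y a)) = h x y := by
  have h1 : ∀ a, h (Pi.single a 1) y = ∑ b, h (Pi.single a 1) (Pi.single b 1) * σ (y b) := fun a => by
    rw [hh.herm (Pi.single a 1) y, ← hh.toSesq.lin_apply]
    conv_lhs => rw [← Finset.univ_sum_single y, map_sum, map_sum]
    refine Finset.sum_congr rfl fun j _ => ?_
    rw [show (Pi.single j (y j) : β → F) = y j • Pi.single j 1 by rw [← Pi.single_smul, smul_eq_mul, mul_one],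
      map_smul, smul_eq_mul, map_mul, hh.toSesq.lin_apply, ← hh.herm, mul_comm]
  rw [← hh.toSesq.lin_apply y x]
  conv_rhs => rw [← Finset.univ_sum_single x, map_sum]
  refine Finset.sum_congr rfl fun a _ => ?_
  rw [show (Pi.single a (x a) : β → F) = x a • Pi.single a 1 by rw [← Pi.single_smul, smul_eq_mul, mul_one],
    map_smul, smul_eq_mul, hh.toSesq.lin_apply, h1]
  rfl

variable (hT : TData σ c h)
include hT

theorem TData.tf_ptens (xs ys : κ → β → F) : tf σ c h (ptens xs) (ptens ys) = c * ∏ l, h (xs l) (ys l) := by
  have e : (fun a => σ (ptens ys a)) = ptens (fun l b => σ (ys l b)) := funext fun a => map_prod σ _ _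
  rw [tf, e, wm_mulVec, dot_ptens]
  simp only [Equiv.Perm.coe_one, id_eq, apply_gram hT.hh]

theorem TData.herm : Herm σ (tf (κ := κ) σ c h) := by
  have hh := hT.hh
  have hG : (Matrix.of fun a b => h (Pi.single a 1) (Pi.single b 1) : Mb).det ≠ 0 := fun hd => by
    obtain ⟨v, hv, hv0⟩ := Matrix.exists_mulVec_eq_zero_iff.2 hd
    refine hv (funext fun a => σ.symm.injective ?_)
    have h1 : (fun a => σ.symm (v a)) = 0 := hh.eq_zero _ fun x => by
      rw [← apply_gram hh]
      simp only [RingEquiv.apply_symm_apply]
      rw [hv0, dotProduct_zero]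
    simpa using congrFun h1 a
  let G : GL β F := Matrix.GeneralLinearGroup.mkOfDetNeZero _ hG
  have herm : ∀ x y : V, tf σ c h x y = σ (tf σ c h y x) := fun x y => by
    simp only [tf, map_mul, hT.hσc, dotProduct, Matrix.mulVec, Finset.mul_sum, map_sum]
    rw [Finset.sum_comm]
    refine Finset.sum_congr rfl fun a _ => Finset.sum_congr rfl fun b _ => ?_
    rw [hh.invol]
    simp only [wm, Matrix.of_apply, Equiv.Perm.coe_one, id_eq, map_prod]
    rw [Finset.prod_congr rfl fun l _ => (hh.herm (Pi.single (b l) 1) (Pi.single (a l) 1))]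
    ring
  refine
    { add_left := fun x y v => by simp only [tf, add_dotProduct, mul_add]
      smul_left := fun r x v => by simp only [tf, smul_dotProduct, smul_eq_mul]; ring
      add_right := fun v x y => by
        simp only [tf, Pi.add_apply, map_add]
        rw [← Pi.add_def, Matrix.mulVec_add, dotProduct_add, mul_add]
      smul_right := fun r v x => by
        simp only [tf, Pi.smul_apply, smul_eq_mul, map_mul]
        rw [show (fun a => σ r * σ (x a)) = σ r • (fun a => σ (x a)) from rfl, Matrix.mulVec_smul, dotProduct_smul,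
          smul_eq_mul]
        ring
      eq_zero := fun w hw => ?_
      refl := fun v w e => by rw [herm, e, map_zero]
      invol := hh.invol
      ne_refl := hh.ne_refl
      herm := herm }
  have h1 : (wgl (1 : Equiv.Perm κ) (fun _ => G) : Mn) *ᵥ (fun a => σ (w a)) = 0 := funext fun a => by
    have h2 := hw (Pi.single a 1)
    rw [tf, single_one_dotProduct] at h2
    exact (mul_eq_zero.1 h2).resolve_left hT.hc
  funext a
  have h3 : (fun a => σ (w a)) = 0 := gl_mulVec_injective _ (h1.trans (Matrix.mulVec_zero _).symm)
  exact σ.injective (by simpa using congrFun h3 a)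

/-- The form is the product of the form of the other factors and the form of the factor. -/
theorem TData.tfs_tmul (i : κ) (x x' : (Rst i → β) → F) (y y' : β → F) :
    tfs σ c h i (tmul x y) (tmul x' y') = tf σ c h x x' * h y y' := by
  have hV := hT.herm (κ := κ)
  have hR := hT.herm (κ := Rst i)
  have hbase : ∀ (a a' : Rst i → β → F),
      tfs σ c h i (tmul (ptens a) y) (tmul (ptens a') y') = tf σ c h (ptens a) (ptens a') * h y y' := fun a a' => by
    have e : ∀ (a : Rst i → β → F) (y : β → F),
        (spV i).symm (tmul (ptens a) y) = ptens (fun l : κ => if hl : l = i then y else a ⟨l, hl⟩) := fun a y => by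
      rw [LinearEquiv.symm_apply_eq, spV_ptens, dif_pos rfl]
      congr 2
      funext j
      rw [dif_neg j.2]
    rw [tfs, e, e, hT.tf_ptens, hT.tf_ptens, Fintype.prod_eq_mul_prod_subtype_ne _ i, dif_pos rfl, dif_pos rfl,
      Finset.prod_congr rfl fun (j : Rst i) _ => by rw [dif_neg j.2, dif_neg j.2]]
    ring
  -- extend in the first argument, then in the second
  have h1 : ∀ (a' : Rst i → β → F) (x : (Rst i → β) → F),
      tfs σ c h i (tmul x y) (tmul (ptens a') y') = tf σ c h x (ptens a') * h y y' := fun a' x => by
    have := LinearMap.congr_fun (ext_ptens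
      (L := (hV.toSesq.lin ((spV i).symm (tmul (ptens a') y'))).comp ((spV i).symm.toLinearMap.comp (fac y)))
      (L' := h y y' • hR.toSesq.lin (ptens a')) fun a => by
        simp only [LinearMap.comp_apply, LinearEquiv.coe_coe, fac_apply, hV.toSesq.lin_apply, LinearMap.smul_apply,
          hR.toSesq.lin_apply, smul_eq_mul]
        rw [mul_comm]; exact hbase a a') x
    simp only [LinearMap.comp_apply, LinearEquiv.coe_coe, fac_apply, hV.toSesq.lin_apply, LinearMap.smul_apply,
      hR.toSesq.lin_apply, smul_eq_mul] at this
    rw [tfs, this, mul_comm]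
  have h2 := LinearMap.congr_fun (ext_ptens
    (L := (hV.toSesq.lin ((spV i).symm (tmul x y))).comp ((spV i).symm.toLinearMap.comp (fac y')))
    (L' := σ (h y y') • hR.toSesq.lin x) fun a' => by
      simp only [LinearMap.comp_apply, LinearEquiv.coe_coe, fac_apply, hV.toSesq.lin_apply, LinearMap.smul_apply,
        hR.toSesq.lin_apply, smul_eq_mul]
      rw [hV.herm, show tf σ c h ((spV i).symm (tmul x y)) ((spV i).symm (tmul (ptens a') y')) =
        tf σ c h x (ptens a') * h y y' from h1 a' x, map_mul, ← hR.herm, mul_comm]) x'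
  simp only [LinearMap.comp_apply, LinearEquiv.coe_coe, fac_apply, hV.toSesq.lin_apply, LinearMap.smul_apply,
    hR.toSesq.lin_apply, smul_eq_mul] at h2
  rw [tfs, hV.herm, h2, map_mul, hT.hh.invol, ← hR.herm, mul_comm]

theorem TData.herm_tfs (i : κ) : Herm σ (tfs σ c h i) := by
  have hV := hT.herm (κ := κ)
  exact
    { add_left := fun x y v => by simp only [tfs, map_add, hV.add_left]
      smul_left := fun r x v => by simp only [tfs, map_smul, hV.smul_left]
      add_right := fun v x y => by simp only [tfs, map_add, hV.add_right]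
      smul_right := fun r v x => by simp only [tfs, map_smul, hV.smul_right]
      eq_zero := fun w hw => (spV i).symm.injective ((hV.eq_zero _ fun x => by
        simpa [tfs] using hw (spV i x)).trans (map_zero _).symm)
      refl := fun v w e => hV.refl _ _ e
      invol := hV.invol
      ne_refl := hV.ne_refl
      herm := fun v w => hV.herm _ _ }

theorem TData.tfs_sp (i : κ) {g : GL X F} :
    sp i g ∈ isoSL (tfs σ c h i) ↔ g ∈ GT σ c h := by
  rw [TensorHerm.mem_isoSL, TensorHerm.mem_isoSL, sp_mem_sl]
  have e : ∀ x, (spV i).symm ((sp i g : Matrix _ _ F) *ᵥ x) = (g : Mn) *ᵥ (spV i).symm x := fun x => by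
    rw [LinearEquiv.symm_apply_eq, ← sp_mulVec, LinearEquiv.apply_symm_apply]
  refine and_congr ⟨fun hg x y => ?_, fun hg x y => ?_⟩ Iff.rfl
  · have := hg (spV i x) (spV i y)
    rwa [tfs, tfs, e, e, LinearEquiv.symm_apply_apply, LinearEquiv.symm_apply_apply] at this
  · rw [tfs, tfs, e, e, hg]

end Cfsg.Agent.Classical.TensorPowForm
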