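import Cfsg.Agent.Lib.Classical.MaxTensorHermScal

/-!
In dimension at least four the twisted root elements have scalar coefficients when the root elements have.
-/

set_option autoImplicit false
set_option linter.unusedSectionVars false

namespace Cfsg.Agent.Classical.TensorPowForm

open Matrix Module MaxTv TensorMax Overfield TensorHerm
open scoped Kronecker
open Cfsg.Agent.Classical.TensorRoot (kg kg_apply kg_isKron)

variable {F : Type*} [Field F] [Fintype F] {α β : Type} [Fintype α] [DecidableEq α] [Fintype β] [DecidableEq β]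

local notation "V" => (α × β → F)
local notation "Mn" => Matrix (α × β) (α × β) F
local notation "Ma" => Matrix α α F
local notation "Mb" => Matrix β β F
local notation "Ea" => ((α → F) →ₗ[F] (α → F))

variable {σ : F ≃+* F} {fA : (α → F) → (α → F) → F} {fB : (β → F) → (β → F) → F}
  {f : (α × β → F) → (α × β → F) → F} {M : Subgroup (GL (α × β) F)}

theorem conjL_kg_root (hB : Herm σ fB) (D : Ea) {E : GL β F}
    (hE : ∀ x y, fB ((E : Mb) *ᵥ x) ((E : Mb) *ᵥ y) = fB x y) (v : β → F) :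
    conjL (kg (1 : GL α F) E) (rootMap v (fn fB v) D) = rootMap ((E : Mb) *ᵥ v) (fn fB ((E : Mb) *ᵥ v)) D := by
  refine LinearMap.ext fun t => ?_
  obtain ⟨s, rfl⟩ : ∃ s, (kg (1 : GL α F) E : Mn) *ᵥ s = t := ⟨_, mulVec_inv_cancel _ t⟩
  have hsl : slice (fn fB ((E : Mb) *ᵥ v)) ((kg (1 : GL α F) E : Mn) *ᵥ s) = slice (fn fB v) s := by
    conv_lhs => rw [sum_tmul_basis s]
    conv_rhs => rw [sum_tmul_basis s]
    simp only [Matrix.mulVec_sum, Matrix.mulVec_smul, map_sum, map_smul, kg_apply, slice_tmul,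
      fn_dot hB.toSesq, hE, Units.val_one, Matrix.one_mulVec]
  rw [conjL_apply, inv_mulVec_cancel, rootMap_apply, rootMap_apply, kg_apply, hsl, Units.val_one, Matrix.one_mulVec]

theorem rootMap_comp_zero (hB : Herm σ fB) {v w : β → F} (hwv : fB w v = 0) (D D' : Ea) (t : V) :
    rootMap v (fn fB v) D (rootMap w (fn fB w) D' t) = 0 := by
  rw [rootMap_apply, rootMap_apply, slice_tmul, fn_dot hB.toSesq, hwv, zero_smul, map_zero, tmul_zero_left]

/-- The twisted root elements have scalar coefficients. -/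
theorem scal2_of (hO : Pre σ fA fB f M) (h4 : 4 ≤ Fintype.card β) (hS : Scal fB M) : Scal2 fB f M := by
  intro z hz hz0 D g hg ⟨_, A, B, hB, hm⟩
  have hs := hO.hB
  set K := kg A B with hK
  set M' : Subgroup (GL (α × β) F) := M.comap (MulAut.conj K).toMonoidHom with hM'
  have hM'mem : ∀ x, x ∈ M' ↔ K * x * K⁻¹ ∈ M := fun x => Iff.rfl
  have hEM : ∀ E ∈ isoSL fB, kg (1 : GL α F) E ∈ M' := fun E hE => by
    rw [hM'mem, hK, kg_inv', kg_mul_kg, kg_mul_kg, mul_one, mul_inv_cancel]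
    refine hO.kB ⟨fun y y' => ?_, (MonoidHom.normal_ker _).conj_mem E hE.2 B⟩
    obtain ⟨y, rfl⟩ : ∃ x, (B : Mb) *ᵥ x = y := ⟨_, mulVec_inv_cancel _ y⟩
    obtain ⟨y', rfl⟩ : ∃ x, (B : Mb) *ᵥ x = y' := ⟨_, mulVec_inv_cancel _ y'⟩
    simp only [Units.val_mul, ← Matrix.mulVec_mulVec, inv_mulVec_cancel, hB, hE.1]
  -- an isotropic vector orthogonal to `z`, in its orbit
  obtain ⟨u, b₀, w₀, -, huz, hb₀, -, hw₀b, hb₀z, -, hb₀u, -⟩ := exists_flag hs h4 hz hz0
  have hb₀0 : b₀ ≠ 0 := fun e => one_ne_zero (by rw [← hw₀b, e, hs.toSesq.zero_right])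
  obtain ⟨E, hE, d, hd, hEz⟩ := exists_move hs hz hz0 hb₀ hb₀0
  obtain ⟨b, hbdef⟩ : ∃ b, b = d • b₀ := ⟨_, rfl⟩
  rw [← hbdef] at hEz
  have hbb : fB b b = 0 := by rw [hbdef, hs.smul_left, hs.smul_right, hb₀, mul_zero, mul_zero]
  have hbz : fB b z = 0 := by rw [hbdef, hs.smul_left, hb₀z, mul_zero]
  have hzb : fB z b = 0 := hs.refl _ _ hbz
  -- the difference at `z` and `b`
  have hT : In M' (rootMap z (fn fB z) D - rootMap b (fn fB b) D) := by
    refine ⟨g * kg 1 E * (kg 1 E * g)⁻¹, (hM'mem _).2 (hO.comm_mem hB hm hE), fun t => ?_⟩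
    obtain ⟨s, rfl⟩ : ∃ s, ((kg (1 : GL α F) E * g : GL (α × β) F) : Mn) *ᵥ s = t := ⟨_, mulVec_inv_cancel _ t⟩
    have hc : ∀ s, (kg (1 : GL α F) E : Mn) *ᵥ rootMap z (fn fB z) D s =
        rootMap b (fn fB b) D ((kg (1 : GL α F) E : Mn) *ᵥ s) := fun s => by
      have := LinearMap.congr_fun (conjL_kg_root hs D hE.1 z) ((kg (1 : GL α F) E : Mn) *ᵥ s)
      rwa [conjL_apply, inv_mulVec_cancel, hEz] at this
    rw [Matrix.mulVec_mulVec, ← Units.val_mul, inv_mul_cancel_right]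
    simp only [Units.val_mul, ← Matrix.mulVec_mulVec, hg, Matrix.mulVec_add, hc, LinearMap.sub_apply, map_add,
      rootMap_comp_zero hs hbz, rootMap_sq (show fn fB b ⬝ᵥ b = 0 by rw [fn_dot hs.toSesq, hbb])]
    abel
  -- moving `z` by multiples of `b`
  obtain ⟨w, hwb, hzw⟩ : ∃ w, fB w b = 0 ∧ fB z w = 1 := by
    refine ⟨u, ?_, by rw [hs.herm, huz, map_one]⟩
    rw [hbdef, hs.smul_right, hs.refl _ _ hb₀u, mul_zero]
  have hS' : ∀ ν : F, In M' (rootMap (z + ν • b) (fn fB (z + ν • b)) D - rootMap z (fn fB z) D) := fun ν => by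
    obtain ⟨l, hl⟩ := hs.exists_trace_eq (a := -fB ((-σ ν) • w) ((-σ ν) • w)) (by rw [map_neg, hs.self_fixed])
    obtain ⟨E', hE', hEx⟩ := exists_eich hs hbb (u := (-σ ν) • w) (by rw [hs.smul_left, hwb, mul_zero]) hl
    have hE'z : (E' : Mb) *ᵥ z = z + ν • b := by
      rw [hEx, hzb, hs.smul_right, hzw, map_neg, hs.invol]
      simp
    have hE'b : (E' : Mb) *ᵥ b = b := by
      rw [hEx, hbb, hs.smul_right, hs.refl _ _ hwb]
      simp
    have hzz' : fB (z + ν • b) b = 0 := by rw [hs.add_left, hs.smul_left, hzb, hbb, mul_zero, add_zero]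
    have h2 := hT.conj (hEM E' hE')
    have hmap : conjL (kg (1 : GL α F) E') (rootMap z (fn fB z) D - rootMap b (fn fB b) D) =
        rootMap (z + ν • b) (fn fB (z + ν • b)) D - rootMap b (fn fB b) D := by
      refine LinearMap.ext fun t => ?_
      rw [LinearMap.sub_apply, ← hE'z, ← conjL_kg_root hs D hE'.1 z]
      conv_rhs => arg 2; rw [← hE'b, ← conjL_kg_root hs D hE'.1 b]
      simp only [conjL_apply, LinearMap.sub_apply, Matrix.mulVec_sub]
    rw [hmap] at h2
    have hzv : ∀ v ∈ ({z, b, z + ν • b} : Set (β → F)), ∀ v' ∈ ({z, b, z + ν • b} : Set (β → F)), fB v v' = 0 := by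
      rintro v (rfl | rfl | rfl) v' (rfl | rfl | rfl) <;>
        simp [hs.add_left, hs.add_right, hs.smul_left, hs.smul_right, hz, hbb, hzb, hbz]
    have h3 := h2.sub hT (fun t => ?_) fun t => ?_
    · convert h3 using 1
      exact LinearMap.ext fun t => by simp only [LinearMap.sub_apply]; abel
    all_goals
      simp only [LinearMap.sub_apply, map_sub]
      rw [rootMap_comp_zero hs (hzv _ (by simp) _ (by simp)), rootMap_comp_zero hs (hzv _ (by simp) _ (by simp)),
        rootMap_comp_zero hs (hzv _ (by simp) _ (by simp)), rootMap_comp_zero hs (hzv _ (by simp) _ (by simp))]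
      simp
  -- polarisation
  obtain ⟨z₀, hz₀⟩ := hs.exists_trace
  obtain ⟨s, hsdef⟩ : ∃ s, s = z₀ + σ z₀ := ⟨_, rfl⟩
  have hsum : rootMap (z + (1 + z₀) • b) (fn fB (z + (1 + z₀) • b)) D - rootMap z (fn fB z) D -
      (rootMap (z + (1 : F) • b) (fn fB (z + (1 : F) • b)) D - rootMap z (fn fB z) D) -
      (rootMap (z + z₀ • b) (fn fB (z + z₀ • b)) D - rootMap z (fn fB z) D) = rootMap b (fn fB b) (s • D) := by
    refine LinearMap.ext fun t => ?_
    simp only [LinearMap.sub_apply, rootMap_apply, LinearMap.smul_apply, fn_add hs.toSesq, fn_smul hs.toSesq,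
      slice_add, slice_smul, map_add, map_smul, map_one, tmul_add_left, tmul_add_right, tmul_smul_left,
      tmul_smul_right, smul_add, smul_smul, one_smul, one_mul, mul_one, hsdef]
    module
  have hzero : ∀ ν ν' : F, ∀ t, (rootMap (z + ν • b) (fn fB (z + ν • b)) D - rootMap z (fn fB z) D)
      ((rootMap (z + ν' • b) (fn fB (z + ν' • b)) D - rootMap z (fn fB z) D) t) = 0 := fun ν ν' t => by
    have e : ∀ x y : F, fB (z + x • b) (z + y • b) = 0 := fun x y => by
      simp [hs.add_left, hs.add_right, hs.smul_left, hs.smul_right, hz, hbb, hzb, hbz]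
    have e1 : ∀ x : F, fB (z + x • b) z = 0 ∧ fB z (z + x • b) = 0 := fun x => by
      constructor <;> simp [hs.add_left, hs.add_right, hs.smul_left, hs.smul_right, hz, hzb, hbz]
    simp only [LinearMap.sub_apply, map_sub, rootMap_comp_zero hs (e _ _), rootMap_comp_zero hs (e1 _).1,
      rootMap_comp_zero hs (e1 _).2, rootMap_comp_zero hs hz, sub_zero]
  have hb' : In M' (rootMap b (fn fB b) (s • D)) := by
    rw [← hsum]
    refine (((hS' (1 + z₀)).sub (hS' 1) (hzero _ _) (hzero _ _))).sub (hS' z₀) (fun t => ?_) (hzero _ _)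
    rw [LinearMap.sub_apply, hzero, hzero, sub_zero]
  obtain ⟨k, hk, hkx⟩ := hb'
  obtain ⟨μ, hμ⟩ := hO.scal_conj hS hB ((hM'mem k).1 hk) hbb (fun e => hb₀0 ((smul_eq_zero.1 (hbdef ▸ e)).resolve_left hd)) hkx
  have hs0 : s ≠ 0 := hsdef ▸ hz₀
  refine ⟨μ / s, fun x => ?_⟩
  have h1 := hμ x
  rw [LinearMap.smul_apply] at h1
  rw [div_eq_inv_mul, mul_smul, ← h1, smul_smul, inv_mul_cancel₀ hs0, one_smul]

end Cfsg.Agent.Classical.TensorPowForm
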