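import Cfsg.Agent.Lib.Classical.TensorPow.Ctx
import Cfsg.Agent.Lib.Classical.TensorPowForm.Basic
import Cfsg.Agent.Lib.Classical.TensorPowForm.Twist

/-!
An overgroup of the stabiliser of a tensor power of a unitary space, seen at each factor.
-/

set_option autoImplicit false
set_option linter.unusedSectionVars false

open scoped Kronecker

namespace Cfsg.Agent.Classical.TensorPowForm

open Matrix Module MaxTv TensorMax TensorPow Overfield
open Cfsg.Agent.Classical.TensorHerm (isoSL Pre Scal Scal2 exists_hyp exists_partner sl)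
open Cfsg.Agent.Classical.TensorRoot (kg kg_apply kg_isKron)

variable {F : Type*} [Field F] [Fintype F] {κ β : Type} [Fintype κ] [DecidableEq κ] [Fintype β] [DecidableEq β]

local notation "X" => (κ → β)
local notation "V" => ((κ → β) → F)
local notation "Mn" => Matrix (κ → β) (κ → β) F
local notation "Mb" => Matrix β β F

/-- An overgroup of the stabiliser in the isometries of determinant one. -/
structure Cx (σ : F ≃+* F) (c : F) (h : (β → F) → (β → F) → F) (M : Subgroup (GL (κ → β) F)) : Prop where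
  data : TData σ c h
  le : M ≤ GT σ c h
  mem : Wr F κ β ⊓ GT σ c h ≤ M
  hb : 3 ≤ Fintype.card β
  ht : 2 ≤ Fintype.card κ

variable {σ : F ≃+* F} {c : F} {h : (β → F) → (β → F) → F} {M : Subgroup (GL (κ → β) F)}

theorem TData.pe_mem_GT (hT : TData σ c h) (i : κ) {B : GL β F} (hB : ∀ y y', h ((B : Mb) *ᵥ y) ((B : Mb) *ᵥ y') = h y y')
    (hd : (B : Mb).det ^ Fintype.card (Rst i → β) = 1) : pe i B ∈ GT σ c h := by
  rw [← hT.tfs_sp i, sp_pe, k2_eq_kg]
  refine ⟨TensorHerm.iso_kg (hT.herm_tfs i) (hT.tfs_tmul i) (one_mul 1) (fun x x' => by simp)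
    (fun y y' => by rw [hB, one_mul]), ?_⟩
  rw [← k2_eq_kg, TensorPow.mem_sl_iff, k2_det, Units.val_one, Matrix.det_one, one_pow, one_mul, hd]

theorem TData.card_rst_two (hb : 2 ≤ Fintype.card β) {i : κ} (ht : 2 ≤ Fintype.card κ) :
    2 ≤ Fintype.card (Rst i → β) := by
  rw [card_rst]
  calc 2 ≤ Fintype.card β := hb
    _ = Fintype.card β ^ 1 := (pow_one _).symm
    _ ≤ _ := Nat.pow_le_pow_right (by omega) (by omega)

theorem det_of_isoSL {B : GL β F} (hB : B ∈ isoSL h) : (B : Mb).det = 1 :=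
  congrArg Units.val (MonoidHom.mem_ker.1 hB.2)

namespace Cx

variable (hM : Cx σ c h M)
include hM

theorem pe_mem' (i : κ) {B : GL β F} (hB : ∀ y y', h ((B : Mb) *ᵥ y) ((B : Mb) *ᵥ y') = h y y')
    (hd : (B : Mb).det ^ Fintype.card (Rst i → β) = 1) : pe i B ∈ M :=
  hM.mem ⟨TensorPow.pe_mem i B, hM.data.pe_mem_GT i hB hd⟩

theorem pe_mem (i : κ) {B : GL β F} (hB : B ∈ isoSL h) : pe i B ∈ M :=
  hM.pe_mem' i hB.1 (by rw [det_of_isoSL hB, one_pow])

/-- The group seen at a factor. -/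
theorem pre (i : κ) : Pre σ (tf (κ := Rst i) σ c h) h (tfs σ c h i) (Mi M i) where
  hA := hM.data.herm
  hB := hM.data.hh
  hV := hM.data.herm_tfs i
  ten := hM.data.tfs_tmul i
  le := by
    rintro _ ⟨g, hg, rfl⟩
    exact (hM.data.tfs_sp i).2 (hM.le hg)
  kB {B} hB := by
    rw [← k2_eq_kg, ← sp_pe]
    exact mem_Mi.2 (hM.pe_mem i hB)
  ha := TData.card_rst_two (by have := hM.hb; omega) hM.ht
  hb := by have := hM.hb; omega

theorem kgA_mem {i : κ} {j : Rst i} {B : GL β F} (hB : B ∈ isoSL h) :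
    kg (pe j B) (1 : GL β F) ∈ Mi M i := by
  rw [← k2_eq_kg, ← sp_pe_ne j.2]
  exact mem_Mi.2 (hM.pe_mem j.1 hB)

theorem scal2 (h4 : 4 ≤ Fintype.card β) {i : κ} (hS : Scal h (Mi M i)) : Scal2 h (tfs σ c h i) (Mi M i) :=
  scal2_of (hM.pre i) h4 hS

end Cx

end Cfsg.Agent.Classical.TensorPowForm
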