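import Cfsg.Agent.Lib.Classical.TensorPowForm.Fusion
import Cfsg.Agent.Lib.Classical.TensorPow.Dih

/-!
Characteristic two: a proper overgroup whose root elements have scalar coefficients is in the stabiliser.
-/

set_option autoImplicit false
set_option linter.unusedSectionVars false

namespace Cfsg.Agent.Classical.TensorPowForm

open Matrix Module MaxTv TensorMax TensorPow
open Cfsg.Agent.Classical.TensorHerm (isoSL exists_hyp exists_flag)

section group

variable {G : Type*} [Group G] [Finite G]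

/-- The dihedral group of two involutions. -/
theorem dih_split {d u : G} (hd : d * d = 1) (hu : u * u = 1) :
    (∃ j : ℕ, (d * u) ^ j * d * ((d * u) ^ j)⁻¹ = u) ∨
    ∃ z : G, z * z = 1 ∧ z ≠ 1 ∧ z * d = d * z ∧ z * u = u * z ∧ (∃ l : ℕ, z = (d * u) ^ l) ∧
      ((∃ j : ℕ, (d * u) ^ j * d * ((d * u) ^ j)⁻¹ = z * u) ∨
        ∃ j : ℕ, (d * u) ^ j * d * ((d * u) ^ j)⁻¹ = z * d ∧ (d * u) ^ j * u * ((d * u) ^ j)⁻¹ = z * u) := by
  obtain ⟨w, hw⟩ : ∃ w, w = d * u := ⟨_, rfl⟩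
  rw [← hw]
  have hpos : 0 < orderOf w := orderOf_pos w
  have hconj : ∀ j : ℕ, w ^ j * d * (w ^ j)⁻¹ = w ^ (2 * j) * d := fun j => hw ▸ conj_pow_invol hd hu j
  have hu' : u = d * w := by rw [hw, ← mul_assoc, hd, one_mul]
  have hwu : w * u = d := by rw [hw, mul_assoc, hu, mul_one]
  rcases Nat.even_or_odd' (orderOf w) with ⟨n, hn | hn⟩
  · have hzz : w ^ n * w ^ n = 1 := by rw [← pow_add, ← two_mul, ← hn, pow_orderOf_eq_one]
    have hzd : w ^ n * d = d * w ^ n := by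
      have h1 := hconj n
      rw [show 2 * n = n + n by omega, pow_add, hzz, one_mul, mul_inv_eq_iff_eq_mul] at h1
      exact h1
    have hzw : w ^ n * w = w * w ^ n := by rw [← pow_succ, ← pow_succ']
    have hzu : w ^ n * u = u * w ^ n := by rw [hu', ← mul_assoc, hzd, mul_assoc, hzw, ← mul_assoc]
    refine Or.inr ⟨w ^ n, hzz, pow_ne_one_of_lt_orderOf (by omega) (by omega), hzd, hzu, ⟨n, rfl⟩, ?_⟩
    rcases Nat.even_or_odd' n with ⟨j, hj | hj⟩
    · refine Or.inr ⟨j, by rw [hconj, ← hj], ?_⟩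
      calc w ^ j * u * (w ^ j)⁻¹ = w ^ j * d * (w ^ j)⁻¹ * w := by
            rw [hu', show w ^ j * (d * w) * (w ^ j)⁻¹ = w ^ j * d * (w * (w ^ j)⁻¹) by group,
              (((Commute.refl w).pow_right j).inv_right).eq]
            group
        _ = w ^ n * u := by rw [hconj, ← hj, mul_assoc, ← hu']
    · refine Or.inl ⟨j, ?_⟩
      rw [hconj, ← hwu, ← mul_assoc, ← pow_succ, ← hj]
  · refine Or.inl ⟨n, ?_⟩
    have e : w ^ (2 * n) * w = 1 := by rw [← pow_succ, ← hn, pow_orderOf_eq_one]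
    rw [hconj, eq_inv_of_mul_eq_one_left e, hw, _root_.mul_inv_rev, inv_eq_of_mul_eq_one_right hd,
      inv_eq_of_mul_eq_one_right hu, mul_assoc, hd, mul_one]

end group

variable {F : Type*} [Field F] [Fintype F] {κ β : Type} [Fintype κ] [DecidableEq κ] [Fintype β] [DecidableEq β]

local notation "X" => (κ → β)
local notation "Mn" => Matrix (κ → β) (κ → β) F
local notation "Mb" => Matrix β β F

variable {σ : F ≃+* F} {c : F} {h : (β → F) → (β → F) → F} {M : Subgroup (GL (κ → β) F)}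

/-- An involution at a factor. -/
def IsInv (M : Subgroup (GL (κ → β) F)) (i : κ) (T : GL (κ → β) F) : Prop :=
  T ∈ M ∧ T * T = 1 ∧ T ≠ 1 ∧ ∃ B : GL β F, T = pe i B

/-- A root element at a factor. -/
def IsRoot (h : (β → F) → (β → F) → F) (τ : F) (i : κ) (v : β → F) (T : GL (κ → β) F) : Prop :=
  ∃ B : GL β F, (B : Matrix β β F) = 1 + vecMulVec v (τ • fn h v) ∧ T = pe i B

theorem IsInv.mem_wr {i : κ} {T : GL X F} (hT : IsInv M i T) : T ∈ Wr F κ β := by
  obtain ⟨-, -, -, B, rfl⟩ := hT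
  exact TensorPow.pe_mem i B

theorem IsInv.sq [Nonempty β] {i : κ} {B : GL β F} (hT : IsInv M i (pe i B)) : B * B = 1 :=
  pe_injective i (by rw [map_mul, map_one]; exact hT.2.1)

theorem IsInv.nonscalar [Nonempty β] (h2 : (2 : F) = 0) {i : κ} {B : GL β F} (hT : IsInv M i (pe i B)) (r : F) :
    (B : Mb) ≠ r • 1 := by
  intro e
  obtain ⟨b⟩ := ‹Nonempty β›
  have h1 : (r * r) • (1 : Mb) = 1 := by
    have h0 := congrArg Units.val hT.sq
    rwa [Units.val_mul, e, Matrix.smul_mul, Matrix.one_mul, smul_smul, Units.val_one] at h0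
  have hr : r * r = 1 := by simpa using congrFun (congrFun h1 b) b
  have hr1 : r = 1 := by
    rcases mul_self_eq_one_iff.1 hr with e1 | e1
    · exact e1
    · rw [e1]; linear_combination -h2
  refine hT.2.2.1 ?_
  rw [show B = 1 from Units.ext (by rw [e, hr1, one_smul, Units.val_one]), map_one]

theorem IsInv.comm {i j : κ} {T R : GL X F} (hT : IsInv M i T) (hR : IsInv M j R) (hij : i ≠ j) :
    T * R = R * T := by
  obtain ⟨-, -, -, A, rfl⟩ := hT
  obtain ⟨-, -, -, B, rfl⟩ := hR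
  exact pe_comm hij A B

theorem IsInv.slot_unique [Nontrivial β] (h2 : (2 : F) = 0) {i j : κ} {T : GL X F} (hT : IsInv M i T)
    (hT' : IsInv M j T) : i = j := by
  obtain ⟨-, -, -, A, hA⟩ := id hT
  obtain ⟨-, -, -, B, hB⟩ := id hT'
  exact (pe_eq (IsInv.nonscalar h2 (hA ▸ hT)) (hA.symm.trans hB)).1

theorem IsInv.mul_same {i : κ} {T R : GL X F} (hT : IsInv M i T) (hR : IsInv M i R) (hne : T * R ≠ 1)
    (hsq : T * R * (T * R) = 1) : IsInv M i (T * R) := by
  obtain ⟨hTM, -, -, A, rfl⟩ := hT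
  obtain ⟨hRM, -, -, B, rfl⟩ := hR
  exact ⟨mul_mem hTM hRM, hsq, hne, A * B, (map_mul _ _ _).symm⟩

/-- Conjugation by an element of the stabiliser permutes the factors. -/
theorem exists_slot_perm {k : GL X F} (hkM : k ∈ M) (hk : k ∈ Wr F κ β) :
    ∃ π : Equiv.Perm κ, ∀ i T, IsInv M i T → IsInv M (π i) (k * T * k⁻¹) := by
  obtain ⟨π, gs, rfl⟩ := hk
  refine ⟨π⁻¹, fun i T hT => ⟨mul_mem (mul_mem hkM hT.1) (inv_mem hkM), ?_, fun e => hT.2.2.1 ?_, ?_⟩⟩
  · rw [show wgl π gs * T * (wgl π gs)⁻¹ * (wgl π gs * T * (wgl π gs)⁻¹) = wgl π gs * (T * T) * (wgl π gs)⁻¹ by group,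
      hT.2.1, mul_one, mul_inv_cancel]
  · exact conj_eq_one_iff.1 e
  · obtain ⟨-, -, -, B, rfl⟩ := hT
    exact ⟨_, conj_pe π gs i B⟩

theorem pe_mul_pe_val {i j : κ} (A B : GL β F) :
    pe i A * pe j B = wgl 1 (fun l => Function.update (1 : κ → GL β F) i A l * Function.update (1 : κ → GL β F) j B l) := by
  show wgl 1 _ * wgl 1 _ = _
  rw [wgl_mul, mul_one]
  congr 1

/-- A product of involutions at two factors determines them. -/
theorem two_slot [Nontrivial β] (h2 : (2 : F) = 0) {a b i j : κ} {A B S R : GL X F} (hA : IsInv M a A)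
    (hB : IsInv M b B) (hab : a ≠ b) (hS : IsInv M i S) (hR : IsInv M j R) (hij : i ≠ j) (he : A * B = S * R) :
    A = S ∨ A = R := by
  obtain ⟨-, -, -, A', rfl⟩ := id hA
  obtain ⟨-, -, -, B', rfl⟩ := id hB
  obtain ⟨-, -, -, S', rfl⟩ := id hS
  obtain ⟨-, -, -, R', rfl⟩ := id hR
  rw [pe_mul_pe_val, pe_mul_pe_val] at he
  obtain ⟨r, hr, hl⟩ := (wgl_unique he).2 a
  simp only [Function.update_self, Function.update_of_ne hab, Pi.one_apply, mul_one] at hl
  have key : ∀ C : GL β F, C * C = 1 → (C : Mb) = r • (A' : Mb) → C = A' := fun C hC e => by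
    obtain ⟨x⟩ : Nonempty β := inferInstance
    have h1 : (r * r) • (1 : Mb) = 1 := by
      calc (r * r) • (1 : Mb) = (r * r) • ((A' : Mb) * (A' : Mb)) := by rw [← Units.val_mul, hA.sq, Units.val_one]
        _ = ((C * C : GL β F) : Mb) := by rw [Units.val_mul, e, Matrix.smul_mul, Matrix.mul_smul, smul_smul]
        _ = 1 := by rw [hC, Units.val_one]
    have hrr : r * r = 1 := by simpa using congrFun (congrFun h1 x) x
    refine Units.ext ?_
    rcases mul_self_eq_one_iff.1 hrr with e1 | e1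
    · rw [e, e1, one_smul]
    · rw [e, e1, show (-1 : F) = 1 by linear_combination -h2, one_smul]
  by_cases hai : a = i
  · subst hai
    simp only [Function.update_self, Function.update_of_ne hij, Pi.one_apply, mul_one] at hl
    exact Or.inl (by rw [key S' hS.sq hl])
  by_cases haj : a = j
  · subst haj
    simp only [Function.update_self, Function.update_of_ne (Ne.symm hij), Pi.one_apply, one_mul] at hl
    exact Or.inr (by rw [key R' hR.sq hl])
  · simp only [Function.update_of_ne hai, Function.update_of_ne haj, Pi.one_apply, mul_one, Units.val_one] at hl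
    refine absurd ?_ (hA.nonscalar h2 r⁻¹)
    rw [hl, smul_smul, inv_mul_cancel₀ hr, one_smul]

/-- A product of involutions at two factors is not at one factor. -/
theorem one_slot [Nontrivial β] (h2 : (2 : F) = 0) {a i j : κ} {A S R : GL X F} (hA : IsInv M a A)
    (hS : IsInv M i S) (hR : IsInv M j R) (hij : i ≠ j) : A ≠ S * R := by
  obtain ⟨-, -, -, A', rfl⟩ := id hA
  obtain ⟨-, -, -, S', rfl⟩ := id hS
  obtain ⟨-, -, -, R', rfl⟩ := id hR
  intro he
  rw [pe_mul_pe_val] at he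
  have key := (wgl_unique (τ := (1 : Equiv.Perm κ)) (hs := fun l => Function.update (1 : κ → GL β F) i S' l *
    Function.update (1 : κ → GL β F) j R' l) (σ := 1) (gs := Function.update (1 : κ → GL β F) a A') he).2
  by_cases hai : a = i
  · subst hai
    obtain ⟨r, -, hl⟩ := key j
    simp only [Function.update_self, Function.update_of_ne (Ne.symm hij), Pi.one_apply, one_mul, Units.val_one]
      at hl
    exact hR.nonscalar h2 r hl
  · obtain ⟨r, -, hl⟩ := key i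
    simp only [Function.update_self, Function.update_of_ne hij, Function.update_of_ne (Ne.symm hai), Pi.one_apply,
      mul_one, Units.val_one] at hl
    exact hS.nonscalar h2 r hl

theorem IsRoot.mul_orth (hh : Herm σ h) {τ : F} {i : κ} {v b : β → F} {T T' : GL X F} (hT : IsRoot h τ i v T)
    (hT' : IsRoot h τ i b T') (hvb : h v b = 0) :
    ∃ U : GL β F, T * T' = pe i U ∧ T' * T = T * T' ∧
      (U : Mb) = 1 + vecMulVec v (τ • fn h v) + vecMulVec b (τ • fn h b) := by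
  obtain ⟨B, hB, rfl⟩ := hT
  obtain ⟨B', hB', rfl⟩ := hT'
  have hbv := hh.refl _ _ hvb
  have e1 : vecMulVec v (τ • fn h v) * vecMulVec b (τ • fn h b) = 0 := by
    rw [vmv_mul, smul_dotProduct, fn_dot hh.toSesq, hbv, smul_zero, zero_smul]
  have e2 : vecMulVec b (τ • fn h b) * vecMulVec v (τ • fn h v) = 0 := by
    rw [vmv_mul, smul_dotProduct, fn_dot hh.toSesq, hvb, smul_zero, zero_smul]
  refine ⟨B * B', (map_mul _ _ _).symm, ?_, ?_⟩
  · rw [← map_mul, ← map_mul]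
    congr 1
    refine Units.ext ?_
    rw [Units.val_mul, Units.val_mul, hB, hB', add_mul, add_mul, mul_add, mul_add, mul_add, mul_add, e1, e2]
    simp only [one_mul, mul_one, add_zero]
    abel
  · rw [Units.val_mul, hB, hB', add_mul, mul_add, mul_add, e1]
    simp only [one_mul, mul_one, add_zero]
    abel

namespace Px

variable (hM : Px σ c h M) (h2 : (2 : F) = 0)
include hM h2

/-- Centralisers of involutions at the factors. -/
theorem cent_inv {i : κ} {T : GL X F} (hT : IsInv M i T) {m : GL X F} (hm : m ∈ M) (hc : m * T = T * m) :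
    m ∈ Wr F κ β := by
  obtain ⟨hTM, hTT, hT1, B, rfl⟩ := hT
  obtain ⟨y, hy, hye⟩ := (hM.pre i).invol_mem (hM.scal2' i) (hM.tgt i) h2 (T := (B : Mb)) (mem_Mi.2 hTM)
    (fun e => hT1 ((sp i).injective (e.trans (map_one _).symm))) (by rw [← map_mul, hTT, map_one])
    (fun x y => by rw [sp_pe, k2_mulVec, Units.val_one, Matrix.one_mulVec]) (mem_Mi.2 hm)
    (by rw [← map_mul, hc, map_mul])
  exact (sp i).injective hye ▸ hy

variable {τ : F} (hτ : τ ≠ 0) (hτs : τ + σ τ = 0)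
include hτ hτs

theorem exists_isRoot (i : κ) {v : β → F} (hv : h v v = 0) : ∃ T, IsRoot h τ i v T := by
  obtain ⟨B, -, -, hB⟩ := exists_herm_tv hM.data.hh hv hτs
  exact ⟨_, B, hB, rfl⟩

theorem root_inv {i : κ} {v : β → F} {T : GL X F} (hv : h v v = 0) (hv0 : v ≠ 0) (hT : IsRoot h τ i v T) :
    IsInv M i T := by
  have hh := hM.data.hh
  haveI : Nonempty β := Fintype.card_pos_iff.1 (by have := hM.hb; omega)
  obtain ⟨B, hB, rfl⟩ := hT
  obtain ⟨B₀, hB₀, hφv, hB₀m⟩ := exists_herm_tv hh hv hτs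
  obtain rfl : B = B₀ := Units.ext (hB.trans hB₀m.symm)
  refine ⟨hM.pe_mem i hB₀, ?_, fun e => ?_, B, rfl⟩
  · rw [← map_mul, ← map_one (pe (F := F) (β := β) i)]
    congr 1
    refine Units.ext ?_
    rw [Units.val_mul, hB, add_mul, mul_add, mul_add, vmv_mul, hφv, zero_smul, one_mul, mul_one, one_mul, add_zero,
      add_assoc, ← two_smul F (vecMulVec v (τ • fn h v)), h2, zero_smul, add_zero, Units.val_one]
  · have hB1 : B = 1 := pe_injective i (e.trans (map_one _).symm)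
    rw [hB1, Units.val_one] at hB
    exact vmv_ne_zero hv0 (herm_tv_ne hh hv0 hτ) (add_eq_left.1 hB.symm)

theorem root_fusion {i : κ} {v : β → F} {T g : GL X F} (hv : h v v = 0) (hv0 : v ≠ 0) (hT : IsRoot h τ i v T)
    (hg : g ∈ M) (hgW : g * T * g⁻¹ ∈ Wr F κ β) : g ∈ Wr F κ β := by
  have hh := hM.data.hh
  have hTM := (hM.root_inv h2 hτ hτs hv hv0 hT).1
  obtain ⟨B, hB, rfl⟩ := hT
  exact hM.fusion hg hv hv0 (herm_tv_ne hh hv0 hτ)
    (by rw [smul_dotProduct, fn_dot hh.toSesq, hv, smul_zero]) hB hTM hgW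

theorem pair_inv {i : κ} {v b : β → F} {T T' : GL X F} (hv : h v v = 0) (hv0 : v ≠ 0) (hb : h b b = 0)
    (hb0 : b ≠ 0) (hvb : h v b = 0) (hind : ∀ r : F, b ≠ r • v) (hT : IsRoot h τ i v T)
    (hT' : IsRoot h τ i b T') :
    IsInv M i (T * T') ∧ ∀ (l : κ) (z : β → F) (Z k : GL X F), h z z = 0 → z ≠ 0 → IsRoot h τ l z Z → k ∈ M →
      k * Z * k⁻¹ ≠ T * T' := by
  classical
  have hh := hM.data.hh
  haveI : Nontrivial β := Fintype.one_lt_card_iff_nontrivial.1 (by have := hM.hb; omega)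
  obtain ⟨U, hU, hcomm, hUm⟩ := hT.mul_orth hh hT' hvb
  have hi := hM.root_inv h2 hτ hτs hv hv0 hT
  have hi' := hM.root_inv h2 hτ hτs hb hb0 hT'
  -- vectors dual to the two
  have dual : ∀ {a a' : β → F}, a ≠ 0 → a' ≠ 0 → (∀ r : F, a ≠ r • a') → ∃ x, h x a = 1 ∧ h x a' = 0 := by
    intro a a' ha ha' hind'
    obtain ⟨x, hx1, hx0⟩ := exists_dot_one (u := fn h a) (S := F ∙ fn h a') fun hm => by
      obtain ⟨r, hr⟩ := Submodule.mem_span_singleton.1 hm
      refine hind' (σ r) (fn_injective hh.toSesq ?_)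
      rw [fn_smul hh.toSesq, hh.invol, hr]
    exact ⟨x, by rw [← fn_dot hh.toSesq, dotProduct_comm, hx1], by
      rw [← fn_dot hh.toSesq, dotProduct_comm]; exact hx0 _ (Submodule.mem_span_singleton_self _)⟩
  have hind2 : ∀ r : F, v ≠ r • b := fun r e => by
    rcases eq_or_ne r 0 with rfl | hr
    · exact hv0 (by rw [e, zero_smul])
    · exact hind r⁻¹ (by rw [e, smul_smul, inv_mul_cancel₀ hr, one_smul])
  obtain ⟨x, hx1, hx0⟩ := dual hv0 hb0 hind2
  obtain ⟨y, hy1, hy0⟩ := dual hb0 hv0 hind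
  have hUx : (U : Mb) *ᵥ x = x + τ • v := by
    rw [hUm, Matrix.add_mulVec, Matrix.add_mulVec, Matrix.one_mulVec, Matrix.vecMulVec_mulVec,
      Matrix.vecMulVec_mulVec, op_smul_eq_smul, op_smul_eq_smul, smul_dotProduct, smul_dotProduct,
      fn_dot hh.toSesq, fn_dot hh.toSesq, hx1, hx0, smul_zero, zero_smul, add_zero, smul_eq_mul, mul_one]
  have hUy : (U : Mb) *ᵥ y = y + τ • b := by
    rw [hUm, Matrix.add_mulVec, Matrix.add_mulVec, Matrix.one_mulVec, Matrix.vecMulVec_mulVec,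
      Matrix.vecMulVec_mulVec, op_smul_eq_smul, op_smul_eq_smul, smul_dotProduct, smul_dotProduct,
      fn_dot hh.toSesq, fn_dot hh.toSesq, hy1, hy0, smul_zero, zero_smul, add_zero, smul_eq_mul, mul_one]
  have hsq : T * T' * (T * T') = 1 := by
    rw [mul_assoc, ← mul_assoc T' T T', hcomm, mul_assoc T T' T', hi'.2.1, mul_one, hi.2.1]
  have hne : T * T' ≠ 1 := fun e => by
    have hU1 : U = 1 := pe_injective i (hU.symm.trans (e.trans (map_one _).symm))
    rw [hU1, Units.val_one, Matrix.one_mulVec, left_eq_add] at hUx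
    exact smul_ne_zero hτ hv0 hUx
  refine ⟨⟨mul_mem hi.1 hi'.1, hsq, hne, U, hU⟩, fun l z Z k hz hz0 hZ hk he => ?_⟩
  have hkW : k ∈ Wr F κ β := hM.root_fusion h2 hτ hτs hz hz0 hZ hk (by rw [he, hU]; exact TensorPow.pe_mem i U)
  obtain ⟨π, gs, rfl⟩ := hkW
  obtain ⟨A, hA, rfl⟩ := hZ
  rw [conj_pe, hU] at he
  have hi2 : IsInv M i (pe i U) := hU ▸ ⟨mul_mem hi.1 hi'.1, hsq, hne, U, hU⟩
  obtain ⟨-, hUA⟩ := pe_eq (hi2.nonscalar h2) he.symm
  obtain ⟨g, hg⟩ : ∃ g, g = gs (π⁻¹ l) := ⟨_, rfl⟩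
  rw [← hg] at hUA
  have hline : ∀ t : β → F, ∃ r : F, (U : Mb) *ᵥ t - t = r • (g : Mb) *ᵥ z := fun t => by
    refine ⟨(τ • fn h z) ⬝ᵥ (((g⁻¹ : GL β F) : Mb) *ᵥ t), ?_⟩
    rw [hUA, Units.val_mul, Units.val_mul, ← Matrix.mulVec_mulVec, ← Matrix.mulVec_mulVec, hA, Matrix.add_mulVec,
      Matrix.one_mulVec, Matrix.vecMulVec_mulVec, op_smul_eq_smul, Matrix.mulVec_add, mulVec_inv_cancel,
      Matrix.mulVec_smul, add_sub_cancel_left]
  obtain ⟨r₁, hr₁⟩ := hline x
  obtain ⟨r₂, hr₂⟩ := hline y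
  rw [hUx, add_sub_cancel_left] at hr₁
  rw [hUy, add_sub_cancel_left] at hr₂
  have hr₁0 : r₁ ≠ 0 := fun e => smul_ne_zero hτ hv0 (by rw [hr₁, e, zero_smul])
  refine hind (r₂ / r₁) (smul_right_injective _ hτ ?_)
  show τ • b = τ • (r₂ / r₁) • v
  rw [smul_comm, hr₁, hr₂, smul_smul, div_mul_cancel₀ _ hr₁0]

/-- Centralisers of products of a root element and an involution at another factor. -/
theorem cent_two (h4 : 4 ≤ Fintype.card β) {i j : κ} (hij : i ≠ j) {v : β → F} (hv : h v v = 0) (hv0 : v ≠ 0) {s r : GL X F}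
    (hs : IsRoot h τ i v s) (hr : IsInv M j r) {m : GL X F} (hm : m ∈ M) (hc : m * (s * r) = s * r * m) :
    m ∈ Wr F κ β := by
  classical
  by_contra hno
  have hh := hM.data.hh
  haveI : Nontrivial β := Fintype.one_lt_card_iff_nontrivial.1 (by have := hM.hb; omega)
  obtain ⟨-, b, e, -, -, hbb, -, heb, hbv, hev, -, -⟩ := exists_flag hh h4 hv hv0
  have hb0 : b ≠ 0 := fun e0 => one_ne_zero (by rw [← heb, e0, hh.toSesq.zero_right])
  have hind : ∀ a : F, b ≠ a • v := fun a e0 => one_ne_zero (by rw [← heb, e0, hh.smul_right, hev, mul_zero])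
  have hvb := hh.refl _ _ hbv
  obtain ⟨s₂, hs₂⟩ := hM.exists_isRoot h2 hτ hτs i hbb
  have hsi := hM.root_inv h2 hτ hτs hv hv0 hs
  have hs₂i := hM.root_inv h2 hτ hτs hbb hb0 hs₂
  obtain ⟨hu, hunot⟩ := hM.pair_inv h2 hτ hτs hv hv0 hbb hb0 hvb hind hs hs₂
  obtain ⟨-, -, hcss, -⟩ := hs.mul_orth hh hs₂ hvb
  obtain ⟨ι, hι⟩ : ∃ ι, ι = s * r := ⟨_, rfl⟩
  rw [← hι] at hc
  have hsr := hsi.comm hr hij
  have hιs : ι * s = s * ι := by rw [hι, mul_assoc, ← hsr, ← mul_assoc]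
  have hιs₂ : ι * s₂ = s₂ * ι := by
    rw [hι, mul_assoc, ← hs₂i.comm hr hij, ← mul_assoc, ← hcss, mul_assoc]
  have hιι : ι * ι = 1 := by
    rw [hι, mul_assoc, ← mul_assoc r s r, ← hsr, mul_assoc s r r, hr.2.1, mul_one, hsi.2.1]
  obtain ⟨d, hd⟩ : ∃ d, d = m * s * m⁻¹ := ⟨_, rfl⟩
  have hdM : d ∈ M := hd ▸ mul_mem (mul_mem hm hsi.1) (inv_mem hm)
  have hdd : d * d = 1 := by
    rw [hd, show m * s * m⁻¹ * (m * s * m⁻¹) = m * (s * s) * m⁻¹ by group, hsi.2.1, mul_one, mul_inv_cancel]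
  have hdW : d ∉ Wr F κ β := fun hdW => hno (hM.root_fusion h2 hτ hτs hv hv0 hs hm (hd ▸ hdW))
  have hdι : Commute d ι := hd ▸ ((Commute.mul_left hc hιs.symm).mul_left (Commute.inv_left hc))
  have huι : Commute (s * s₂) ι := Commute.mul_left hιs.symm hιs₂.symm
  have hwι : ∀ n : ℕ, Commute ((d * (s * s₂)) ^ n) ι := fun n => (hdι.mul_left huι).pow_left n
  have hwM : ∀ n : ℕ, (d * (s * s₂)) ^ n ∈ M := fun n => pow_mem (mul_mem hdM hu.1) n
  -- conjugates of `s` by elements centralising the product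
  have key : ∀ k ∈ M, Commute k ι → k * s * k⁻¹ ∈ Wr F κ β → k * s * k⁻¹ = s ∨ k * s * k⁻¹ = r := by
    intro k hk hkι hkW
    obtain ⟨π, hπ⟩ := exists_slot_perm hk (hM.root_fusion h2 hτ hτs hv hv0 hs hk hkW)
    refine two_slot h2 (hπ i s hsi) (hπ j r hr) (fun e => hij (π.injective e)) hsi hr hij ?_
    rw [show k * s * k⁻¹ * (k * r * k⁻¹) = k * (s * r) * k⁻¹ by group, ← hι, hkι.eq, mul_inv_cancel_right]
  rcases dih_split hdd hu.2.1 with ⟨n, hn⟩ | ⟨z, hzz, hz1, hzd, hzu, ⟨l, hl⟩, hcase⟩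
  · refine hunot i v s _ hv hv0 hs (mul_mem (hwM n) hm) (Eq.trans ?_ hn)
    rw [hd]; group
  have hzM : z ∈ M := hl ▸ hwM l
  have hzW : z ∈ Wr F κ β := hM.cent_inv h2 hu hzM hzu
  rcases hcase with ⟨n, hn⟩ | ⟨n, hn, hn'⟩
  · obtain ⟨k, hk⟩ : ∃ k, k = (d * (s * s₂)) ^ n * m := ⟨_, rfl⟩
    have hks : k * s * k⁻¹ = z * (s * s₂) := by
      rw [← hn, hk, hd]; group
    have hzι : Commute z ι := hl ▸ hwι l
    refine hdW (hM.cent_inv h2 hs₂i hdM ?_)
    rcases key k (hk ▸ mul_mem (hwM n) hm) (hk ▸ (hwι n).mul_left hc)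
        (by rw [hks]; exact mul_mem hzW hu.mem_wr) with e | e
    · have hz : z = s₂ := by
        have h1 : z * (s * s₂) = s := hks.symm.trans e
        calc z = z * ((s * s₂) * (s * s₂)) := by rw [hu.2.1, mul_one]
          _ = s * (s * s₂) := by rw [← mul_assoc, h1]
          _ = s₂ := by rw [← mul_assoc, hsi.2.1, one_mul]
      rw [← hz, hzd]
    · have hz : z = ι * s₂ := by
        have h1 : z * (s * s₂) = r := hks.symm.trans e
        calc z = z * ((s * s₂) * (s * s₂)) := by rw [hu.2.1, mul_one]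
          _ = r * (s * s₂) := by rw [← mul_assoc, h1]
          _ = ι * s₂ := by rw [← mul_assoc, ← hsr, ← hι]
      have hs₂z : s₂ = ι * z := by rw [hz, ← mul_assoc, hιι, one_mul]
      rw [hs₂z]
      exact hdι.mul_right (show Commute d z from hzd.symm)
  · -- `z * d` is conjugate to `d`
    obtain ⟨k, hk⟩ : ∃ k, k = m⁻¹ * (d * (s * s₂)) ^ n * m := ⟨_, rfl⟩
    have hks : k * s * k⁻¹ = m⁻¹ * z * m * s := by
      calc k * s * k⁻¹ = m⁻¹ * ((d * (s * s₂)) ^ n * (m * s * m⁻¹) * ((d * (s * s₂)) ^ n)⁻¹) * m := by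
            rw [hk]; group
        _ = m⁻¹ * (z * (m * s * m⁻¹)) * m := by rw [← hd, hn]
        _ = m⁻¹ * z * m * s := by group
    have hkM : k ∈ M := hk ▸ mul_mem (mul_mem (inv_mem hm) (hwM n)) hm
    have hzs : Commute (m⁻¹ * z * m) s := by
      show m⁻¹ * z * m * s = s * (m⁻¹ * z * m)
      calc m⁻¹ * z * m * s = m⁻¹ * (z * d) * m := by rw [hd]; group
        _ = m⁻¹ * (d * z) * m := by rw [hzd]
        _ = s * (m⁻¹ * z * m) := by rw [hd]; group
    have hksW : k * s * k⁻¹ ∈ Wr F κ β := by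
      refine hM.cent_inv h2 hsi (mul_mem (mul_mem hkM hsi.1) (inv_mem hkM)) ?_
      rw [hks]
      exact (hzs.mul_left (Commute.refl s)).eq
    rcases key k hkM (hk ▸ ((Commute.inv_left hc).mul_left (hwι n)).mul_left hc) hksW with e | e
    · refine hz1 ?_
      have h1 : m⁻¹ * z * m = 1 := by
        have := hks.symm.trans e
        rwa [mul_eq_right] at this
      calc z = m * (m⁻¹ * z * m) * m⁻¹ := by group
        _ = 1 := by rw [h1, mul_one, mul_inv_cancel]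
    · have hz : z = ι := by
        have h1 : m⁻¹ * z * m = ι := by
          calc m⁻¹ * z * m = m⁻¹ * z * m * s * s := by rw [mul_assoc _ s s, hsi.2.1, mul_one]
            _ = r * s := by rw [hks.symm.trans e]
            _ = ι := by rw [← hsr, hι]
        calc z = m * (m⁻¹ * z * m) * m⁻¹ := by group
          _ = ι := by rw [h1, show Commute m ι from hc, mul_inv_cancel_right]
      obtain ⟨w, hw⟩ : ∃ w, w = (d * (s * s₂)) ^ n := ⟨_, rfl⟩
      rw [← hw, hz] at hn'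
      have hwι' : Commute w ι := hw ▸ hwι n
      have hwM' : w ∈ M := hw ▸ hwM n
      have hsu : Commute s (s * s₂) := (Commute.refl s).mul_right hcss.symm
      -- the conjugate of `s` commutes with `s * s₂`
      have h1 : Commute (w * s * w⁻¹) ι := (hwι'.mul_left hιs.symm).mul_left hwι'.inv_left
      have h2' : Commute (w * s * w⁻¹) (ι * (s * s₂)) := by
        rw [← hn']
        show w * s * w⁻¹ * (w * (s * s₂) * w⁻¹) = w * (s * s₂) * w⁻¹ * (w * s * w⁻¹)
        calc w * s * w⁻¹ * (w * (s * s₂) * w⁻¹) = w * (s * (s * s₂)) * w⁻¹ := by group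
          _ = w * (s * s₂ * s) * w⁻¹ := by rw [hsu.eq]
          _ = w * (s * s₂) * w⁻¹ * (w * s * w⁻¹) := by group
      have h3 : Commute (w * s * w⁻¹) (s * s₂) := by
        have := h1.mul_right h2'
        rwa [← mul_assoc, hιι, one_mul] at this
      have hwW : w ∈ Wr F κ β := hM.root_fusion h2 hτ hτs hv hv0 hs hwM'
        (hM.cent_inv h2 hu (mul_mem (mul_mem hwM' hsi.1) (inv_mem hwM')) h3.eq)
      obtain ⟨π, hπ⟩ := exists_slot_perm hwM' hwW
      refine one_slot h2 (hπ i _ hu) hr hs₂i (Ne.symm hij) ?_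
      rw [hn', hι, hsr, mul_assoc, ← mul_assoc s s s₂, hsi.2.1, one_mul]

/-- A conjugate of a product of two orthogonal root elements. -/
theorem pair_conj (h4 : 4 ≤ Fintype.card β) {g : GL X F} (hg : g ∈ M) (hgW : g ∉ Wr F κ β) {i : κ} {v b : β → F} {T T' : GL X F}
    (hv : h v v = 0) (hv0 : v ≠ 0) (hb : h b b = 0) (hb0 : b ≠ 0) (hvb : h v b = 0) (hind : ∀ r : F, b ≠ r • v)
    (hT : IsRoot h τ i v T) (hT' : IsRoot h τ i b T') : g⁻¹ * (T * T') * g ∈ Wr F κ β := by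
  classical
  haveI : Nontrivial β := Fintype.one_lt_card_iff_nontrivial.1 (by have := hM.hb; omega)
  obtain ⟨hu, hunot⟩ := hM.pair_inv h2 hτ hτs hv hv0 hb hb0 hvb hind hT hT'
  have hTi := hM.root_inv h2 hτ hτs hv hv0 hT
  obtain ⟨u, hu'⟩ : ∃ u, u = T * T' := ⟨_, rfl⟩
  rw [← hu'] at hu hunot ⊢
  obtain ⟨d, hd⟩ : ∃ d, d = g * T * g⁻¹ := ⟨_, rfl⟩
  have hdM : d ∈ M := hd ▸ mul_mem (mul_mem hg hTi.1) (inv_mem hg)
  have hdd : d * d = 1 := by
    rw [hd, show g * T * g⁻¹ * (g * T * g⁻¹) = g * (T * T) * g⁻¹ by group, hTi.2.1, mul_one, mul_inv_cancel]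
  have hdW : d ∉ Wr F κ β := fun hdW => hgW (hM.root_fusion h2 hτ hτs hv hv0 hT hg (hd ▸ hdW))
  have hwM : ∀ n : ℕ, (d * u) ^ n ∈ M := fun n => pow_mem (mul_mem hdM hu.1) n
  rcases dih_split hdd hu.2.1 with ⟨n, hn⟩ | ⟨z, hzz, hz1, hzd, hzu, ⟨l, hl⟩, hcase⟩
  · refine absurd (Eq.trans ?_ hn) (hunot i v T ((d * u) ^ n * g) hv hv0 hT (mul_mem (hwM n) hg))
    rw [hd]; group
  have hzM : z ∈ M := hl ▸ hwM l
  have hzW : z ∈ Wr F κ β := hM.cent_inv h2 hu hzM hzu
  rcases hcase with ⟨n, hn⟩ | ⟨n, hn, -⟩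
  · exfalso
    obtain ⟨k, hk⟩ : ∃ k, k = (d * u) ^ n * g := ⟨_, rfl⟩
    have hkM : k ∈ M := hk ▸ mul_mem (hwM n) hg
    have hkT : k * T * k⁻¹ = z * u := by rw [← hn, hk, hd]; group
    have hkW : k ∈ Wr F κ β :=
      hM.root_fusion h2 hτ hτs hv hv0 hT hkM (by rw [hkT]; exact mul_mem hzW hu.mem_wr)
    obtain ⟨π, hπ⟩ := exists_slot_perm hkM hkW
    have hT1 := hπ i T hTi
    have hzeq : z = k * T * k⁻¹ * u := by rw [hkT, mul_assoc, hu.2.1, mul_one]
    rcases eq_or_ne (π i) i with e | e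
    · rw [e] at hT1
      refine hdW (hM.cent_inv h2 (T := z) (i := i) ?_ hdM hzd.symm)
      rw [hzeq]
      exact hT1.mul_same hu (hzeq ▸ hz1) (hzeq ▸ hzz)
    · obtain ⟨π', hπ'⟩ := exists_slot_perm (inv_mem hkM) (inv_mem hkW)
      have hT0 := hπ' _ _ hT1
      rw [show k⁻¹ * (k * T * k⁻¹) * k⁻¹⁻¹ = T by group] at hT0
      have hR := hπ' i u hu
      rw [inv_inv] at hR
      have hne : i ≠ π' i := fun e' => e (π'.injective ((IsInv.slot_unique h2 hT0 hTi).trans e'))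
      refine hdW ?_
      have h1 := hM.cent_two h2 hτ hτs h4 hne hv hv0 hT hR
        (mul_mem (mul_mem (inv_mem hkM) hdM) hkM) ?_
      · have := mul_mem (mul_mem hkW h1) (inv_mem hkW)
        rwa [show k * (k⁻¹ * d * k) * k⁻¹ = d by group] at this
      · have e2 : T * (k⁻¹ * u * k) = k⁻¹ * z * k := by rw [hzeq]; group
        rw [e2]
        calc k⁻¹ * d * k * (k⁻¹ * z * k) = k⁻¹ * (d * z) * k := by group
          _ = k⁻¹ * (z * d) * k := by rw [hzd]
          _ = k⁻¹ * z * k * (k⁻¹ * d * k) := by group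
  · obtain ⟨k, hk⟩ : ∃ k, k = g⁻¹ * (d * u) ^ n * g := ⟨_, rfl⟩
    have hkM : k ∈ M := hk ▸ mul_mem (mul_mem (inv_mem hg) (hwM n)) hg
    obtain ⟨y, hy⟩ : ∃ y, y = g⁻¹ * z * g := ⟨_, rfl⟩
    have hyT : Commute y T := by
      show y * T = T * y
      calc y * T = g⁻¹ * (z * d) * g := by rw [hy, hd]; group
        _ = g⁻¹ * (d * z) * g := by rw [hzd]
        _ = T * y := by rw [hy, hd]; group
    have hkT : k * T * k⁻¹ = y * T := by
      calc k * T * k⁻¹ = g⁻¹ * ((d * u) ^ n * (g * T * g⁻¹) * ((d * u) ^ n)⁻¹) * g := by rw [hk]; group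
        _ = g⁻¹ * (z * (g * T * g⁻¹)) * g := by rw [← hd, hn]
        _ = y * T := by rw [hy]; group
    have hkTM : k * T * k⁻¹ ∈ M := mul_mem (mul_mem hkM hTi.1) (inv_mem hkM)
    have hkW : k ∈ Wr F κ β := hM.root_fusion h2 hτ hτs hv hv0 hT hkM
      (hM.cent_inv h2 hTi hkTM (by rw [hkT]; exact (hyT.mul_left (Commute.refl T)).eq))
    obtain ⟨π, hπ⟩ := exists_slot_perm hkM hkW
    have hT1 := hπ i T hTi
    have hyeq : y = k * T * k⁻¹ * T := by rw [hkT, mul_assoc, hTi.2.1, mul_one]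
    have hyy : y * y = 1 := by
      rw [hy, show g⁻¹ * z * g * (g⁻¹ * z * g) = g⁻¹ * (z * z) * g by group, hzz, mul_one, inv_mul_cancel]
    have hy1 : y ≠ 1 := fun e => hz1 (by
      calc z = g * y * g⁻¹ := by rw [hy]; group
        _ = 1 := by rw [e, mul_one, mul_inv_cancel])
    have hxM : g⁻¹ * u * g ∈ M := mul_mem (mul_mem (inv_mem hg) hu.1) hg
    have hxy : g⁻¹ * u * g * y = y * (g⁻¹ * u * g) := by
      calc g⁻¹ * u * g * y = g⁻¹ * (u * z) * g := by rw [hy]; group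
        _ = g⁻¹ * (z * u) * g := by rw [hzu]
        _ = y * (g⁻¹ * u * g) := by rw [hy]; group
    rcases eq_or_ne (π i) i with e | e
    · rw [e] at hT1
      refine hM.cent_inv h2 (T := y) (i := i) ?_ hxM hxy
      rw [hyeq]
      exact hT1.mul_same hTi (hyeq ▸ hy1) (hyeq ▸ hyy)
    · refine hM.cent_two h2 hτ hτs h4 (Ne.symm e) hv hv0 hT hT1 hxM ?_
      rwa [← hT1.comm hTi e, ← hyeq]

omit hτ hτs in
/-- Characteristic two: the overgroup is in the stabiliser. -/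
theorem le_of_even (h4 : 4 ≤ Fintype.card β) : M ≤ Wr F κ β := by
  classical
  intro g hg
  by_contra hgW
  have hh := hM.data.hh
  obtain ⟨τ, hτ, hτs⟩ := hh.exists_skew
  obtain ⟨i⟩ : Nonempty κ := Fintype.card_pos_iff.1 (by have := hM.ht; omega)
  obtain ⟨z, u, hzz, -, huz⟩ := exists_hyp hh (by have := hM.hb; omega)
  have hz0 : z ≠ 0 := fun e => one_ne_zero (by rw [← huz, e, hh.toSesq.zero_right])
  obtain ⟨-, b, e, -, -, hbb, -, heb, hbz, hez, -, -⟩ := exists_flag hh h4 hzz hz0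
  have hzb := hh.refl _ _ hbz
  have hne : ∀ r : F, b ≠ r • z := fun r e0 => one_ne_zero (by rw [← heb, e0, hh.smul_right, hez, mul_zero])
  obtain ⟨ν, hν⟩ := hh.exists_trace_eq (a := 1) (map_one σ)
  have hν0 : ν + σ ν + 1 = 0 := by linear_combination hν + h2
  obtain ⟨a₁, ha₁⟩ : ∃ a, a = z + (ν + 1) • b := ⟨_, rfl⟩
  obtain ⟨a₂, ha₂⟩ : ∃ a, a = z + ν • b := ⟨_, rfl⟩
  have horth : ∀ x y : F, h (z + x • b) (z + y • b) = 0 := fun x y => by
    simp [hh.add_left, hh.add_right, hh.smul_left, hh.smul_right, hzz, hbb, hzb, hbz]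
  have hne' : ∀ x : F, z + x • b ≠ 0 := fun x e0 => by
    have h1 := congrArg (fun t => h e t) e0
    simp only [hh.add_right, hh.smul_right, hez, heb, zero_add, mul_one, hh.toSesq.zero_right] at h1
    rw [(σ.map_eq_zero_iff).1 h1, zero_smul, add_zero] at e0
    exact hz0 e0
  have hind : ∀ r : F, a₂ ≠ r • a₁ := fun r e0 => by
    rw [ha₁, ha₂] at e0
    have h1 := congrArg (fun t => h u t) e0
    have h2' := congrArg (fun t => h e t) e0
    simp only [hh.add_right, hh.smul_right, hez, heb, huz, zero_add, mul_one, map_add, map_one] at h1 h2'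
    have hr : σ r = 1 := by linear_combination -h1 + h u b * h2'
    rw [hr] at h2'
    exact one_ne_zero (by linear_combination -h2')
  obtain ⟨Tz, hTz⟩ := hM.exists_isRoot h2 hτ hτs i hzz
  obtain ⟨Tb, hTb⟩ := hM.exists_isRoot h2 hτ hτs i hbb
  obtain ⟨T₁, hT₁⟩ := hM.exists_isRoot h2 hτ hτs i (v := a₁) (ha₁ ▸ horth _ _)
  obtain ⟨T₂, hT₂⟩ := hM.exists_isRoot h2 hτ hτs i (v := a₂) (ha₂ ▸ horth _ _)
  have hs : h (z + b) (z + b) = 0 := by simpa using horth 1 1
  obtain ⟨T, hT⟩ := hM.exists_isRoot h2 hτ hτs i hs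
  have hb0 : b ≠ 0 := fun e0 => hne 0 (by rw [e0, zero_smul])
  have hA := hM.pair_conj h2 hτ hτs h4 hg hgW hzz hz0 hbb hb0 hzb hne hTz hTb
  have hB := hM.pair_conj h2 hτ hτs h4 hg hgW (ha₁ ▸ horth _ _) (ha₁ ▸ hne' _) (ha₂ ▸ horth _ _) (ha₂ ▸ hne' _)
    (ha₁ ▸ ha₂ ▸ horth _ _) hind hT₁ hT₂
  have hprod : Tz * Tb * (T₁ * T₂) = T := by
    obtain ⟨U, hU, -, hUm⟩ := hTz.mul_orth hh hTb hzb
    obtain ⟨U', hU', -, hU'm⟩ := hT₁.mul_orth hh hT₂ (by rw [ha₁, ha₂]; exact horth _ _)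
    obtain ⟨B, hB, rfl⟩ := hT
    rw [hU, hU', ← map_mul]
    congr 1
    refine Units.ext (Matrix.ext_iff_mulVec.2 fun t => ?_)
    rw [Units.val_mul, ← Matrix.mulVec_mulVec, hUm, hU'm, hB]
    simp only [Matrix.add_mulVec, Matrix.one_mulVec, Matrix.mulVec_add, Matrix.vecMulVec_mulVec, op_smul_eq_smul,
      smul_dotProduct, fn_dot hh.toSesq, smul_eq_mul, ha₁, ha₂, Matrix.mulVec_smul, hh.add_left, hh.add_right,
      hh.smul_left, hh.smul_right, hzz, hbb, hzb, hbz, map_add, map_one, mul_zero, add_zero, zero_smul]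
    match_scalars
    · rfl
    · linear_combination (τ * h t z + τ * σ ν * h t b) * h2
    · linear_combination (τ * h t b) * hν0 + (τ * σ ν * ν * h t b + τ * ν * h t z) * h2
  have hT' : g⁻¹ * T * g⁻¹⁻¹ ∈ Wr F κ β := by
    rw [inv_inv, ← hprod, show g⁻¹ * (Tz * Tb * (T₁ * T₂)) * g =
      g⁻¹ * (Tz * Tb) * g * (g⁻¹ * (T₁ * T₂) * g) by group]
    exact mul_mem hA hB
  have hs0 : z + b ≠ 0 := by simpa using hne' 1
  exact hgW (inv_mem_iff.1 (hM.root_fusion h2 hτ hτs hs hs0 hT (inv_mem hg) hT'))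

end Px

end Cfsg.Agent.Classical.TensorPowForm
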