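import Cfsg.Agent.Lib.Classical.TensorPowForm.RichFix

/-!
Transvection groups at the pure tensors isotropic at all factors but one give all isometries of determinant one.
-/

set_option autoImplicit false
set_option linter.unusedSectionVars false

namespace Cfsg.Agent.Classical.TensorPowForm

open Matrix Module MaxTv TensorMax TensorPow Overfield
open Cfsg.Agent.Classical.TensorHerm (isoSL Pre Scal exists_hyp mem_of_iso_all rSub rSub_of_upt rSub_absorb mem_rSub)

variable {F : Type*} [Field F] [Fintype F] {κ β : Type} [Fintype κ] [DecidableEq κ] [Fintype β] [DecidableEq β]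

local notation "X" => (κ → β)
local notation "V" => ((κ → β) → F)
local notation "Mn" => Matrix (κ → β) (κ → β) F

variable {σ : F ≃+* F} {c : F} {h : (β → F) → (β → F) → F} {M : Subgroup (GL (κ → β) F)}

/-- The isotropic vectors not orthogonal to an isotropic vector span. -/
theorem top_of_nonperp {β : Type} [Fintype β] [DecidableEq β] {h : (β → F) → (β → F) → F} (hh : Herm σ h)
    (hb : 2 ≤ Fintype.card β) {v : β → F} (hv : h v v = 0) (hv0 : v ≠ 0) (p : Submodule F (β → F))
    (hp : ∀ x, h x x = 0 ∧ h x v ≠ 0 → x ∈ p) : p = ⊤ := by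
  refine eq_top_iff.2 fun t _ => mem_of_iso_all hh hb (fun x hx => ?_) t
  by_cases hxv : h x v = 0
  · obtain ⟨u, hu, huv⟩ := TensorHerm.exists_partner hh hv hv0
    obtain ⟨l, hl0, hl⟩ := hh.exists_coef (r := h u x)
    have h1 := hp (x + l • u) ⟨hh.add_smul_iso hx hu hl, by
      rw [hh.add_left, hh.smul_left, hxv, huv, zero_add, mul_one]; exact hl0⟩
    have h2 := p.sub_mem h1 (p.smul_mem l (hp u ⟨hu, by rw [huv]; exact one_ne_zero⟩))
    rwa [add_sub_cancel_right] at h2
  · exact hp x ⟨hx, hxv⟩

namespace Cx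

variable (hM : Cx σ c h M)
include hM

/-- All Eichler maps at a pure isotropic tensor. -/
theorem rSub_top (hP : ∀ (j : κ) (xs : κ → β → F), (∀ l, l ≠ j → h (xs l) (xs l) = 0) →
      UPt σ (tf σ c h) M (ptens xs))
    {vs : κ → β → F} (hvs : ∀ l, h (vs l) (vs l) = 0) (hvs0 : ∀ l, vs l ≠ 0)
    (hv : tf σ c h (ptens vs) (ptens vs) = 0) {t : V} (ht : tf σ c h t (ptens vs) = 0) :
    t ∈ rSub (M := M) (hM.data.herm (κ := κ)) hv := by
  classical
  have hh := hM.data.hh
  have hV := hM.data.herm (κ := κ)
  have hb := hM.hb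
  haveI : Nontrivial κ := Fintype.one_lt_card_iff_nontrivial.1 hM.ht
  obtain ⟨R, hR⟩ : ∃ R, R = rSub (M := M) hV hv := ⟨_, rfl⟩
  rw [← hR]
  have hzero : ∀ (xs ys : κ → β → F) (l : κ), h (xs l) (ys l) = 0 → tf σ c h (ptens xs) (ptens ys) = 0 :=
    fun xs ys l hl => by
      rw [hM.data.tf_ptens, Finset.prod_eq_zero (Finset.mem_univ l) hl, mul_zero]
  -- one factor varies
  have h1 : ∀ (j : κ) (Y : β → F), ptens (Function.update vs j Y) ∈ R := fun j Y => by
    obtain ⟨o, ho⟩ := exists_ne j
    have hiso : ∀ Z l, l ≠ j → h (Function.update vs j Z l) (Function.update vs j Z l) = 0 := fun Z l hl => by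
      rw [Function.update_of_ne hl]; exact hvs l
    rw [hR]
    refine rSub_of_upt hV _ (hzero _ _ o (hiso Y o ho)) (hzero _ _ o (by rw [Function.update_of_ne ho]; exact hvs o))
      (hP j vs fun l _ => hvs l) (hP j _ (hiso Y)) fun s => ?_
    have e : ptens vs + s • ptens (Function.update vs j Y) = ptens (Function.update vs j (vs j + s • Y)) := by
      conv_lhs => arg 1; rw [← Function.update_eq_self j vs]
      funext a
      simp only [Pi.add_apply, Pi.smul_apply, smul_eq_mul, ptens_update]
      ring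
    rw [e]
    exact hP j _ (hiso _)
  -- one factor orthogonal
  have h2 : ∀ (j : κ) (ys : κ → β → F), h (ys j) (vs j) = 0 → ptens ys ∈ R := fun j ys hy => by
    obtain ⟨P, hPdef⟩ : ∃ P : κ → (β → F) → Prop, P = fun l x =>
        (l = j → h x (vs j) = 0) ∧ (l ≠ j → h x x = 0 ∧ h x (vs l) ≠ 0) := ⟨_, rfl⟩
    have hall : ∀ zs : κ → β → F, (∀ l, P l (zs l)) → ptens zs ∈ R := fun zs hzs => by
      rw [hPdef] at hzs
      obtain ⟨o, ho⟩ := exists_ne j
      by_cases hzj : zs j = 0
      · rw [show ptens zs = 0 from funext fun p => Finset.prod_eq_zero (Finset.mem_univ j) (by rw [hzj]; rfl)]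
        exact R.zero_mem
      obtain ⟨Y, hY⟩ := hh.toSesq.exists_one hzj
      rw [hR]
      refine rSub_absorb hV _ (u := ptens (Function.update vs j Y)) (hR ▸ h1 j Y)
        (hP j zs fun l hl => ((hzs l).2 hl).1) (hzero _ _ o ((hzs o).2 ho).1) (hzero _ _ j ((hzs j).1 rfl)) ?_
      rw [hM.data.tf_ptens]
      refine mul_ne_zero hM.data.hc (Finset.prod_ne_zero_iff.2 fun l _ => ?_)
      by_cases e : l = j
      · subst e; rw [Function.update_self, hY]; exact one_ne_zero
      · rw [Function.update_of_ne e]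
        exact fun e' => ((hzs l).2 e).2 (hh.refl _ _ e')
    -- the factor `j` is kept
    let zs : κ → β → F := ys
    suffices key : ∀ s : Finset κ, j ∉ s → ∀ zs : κ → β → F, h (zs j) (vs j) = 0 → (∀ l ∉ s, P l (zs l)) →
        ptens zs ∈ R by
      refine key (Finset.univ.erase j) (by simp) ys hy fun l hl => ?_
      have e : l = j := by simpa using hl
      subst e
      rw [hPdef]
      exact ⟨fun _ => hy, fun a => absurd rfl a⟩
    intro s
    induction s using Finset.induction_on with
    | empty => exact fun _ zs _ hzs => hall zs fun l => hzs l (Finset.notMem_empty l)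
    | insert a s ha ih =>
      intro hj zs hzj hzs
      have haj : a ≠ j := fun e => hj (e ▸ Finset.mem_insert_self a s)
      let L : (β → F) →ₗ[F] V :=
        { toFun := fun v => ptens (Function.update zs a v)
          map_add' := fun v w => funext fun b => by
            simp only [ptens_update, Pi.add_apply, add_mul]
          map_smul' := fun r v => funext fun b => by
            simp only [ptens_update, Pi.smul_apply, smul_eq_mul, RingHom.id_apply, mul_assoc] }
      have htop : R.comap L = ⊤ := top_of_nonperp hh (by omega) (hvs a) (hvs0 a) _ fun x hx =>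
        ih (fun e => hj (Finset.mem_insert_of_mem e)) _ (by rwa [Function.update_of_ne (Ne.symm haj)]) fun l hl => by
          by_cases e : l = a
          · subst e
            rw [Function.update_self, hPdef]
            exact ⟨fun e => absurd e haj, fun _ => hx⟩
          · rw [Function.update_of_ne e]; exact hzs l (by simp [e, hl])
      have hmem : L (zs a) ∈ R := (htop ▸ Submodule.mem_top : zs a ∈ R.comap L)
      simpa [L] using hmem
  -- the partner
  choose us hus husv using fun l => TensorHerm.exists_partner hh (hvs l) (hvs0 l)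
  obtain ⟨u, hu⟩ : ∃ u, u = ptens us := ⟨_, rfl⟩
  have htop : ∀ x, x ∈ R ⊔ (F ∙ u) := mem_top_of_ptens fun xs => ptens_mem_of_slots
    (P := fun l x => x = us l ∨ h x (vs l) = 0) (fun l p hp => eq_top_iff.2 fun x _ => by
      have e : x = h x (vs l) • us l + (x - h x (vs l) • us l) := by abel
      rw [e]
      exact p.add_mem (p.smul_mem _ (hp _ (Or.inl rfl))) (hp _ (Or.inr (by
        rw [hh.toSesq.sub_left, hh.smul_left, husv, mul_one, sub_self]))))
    (fun zs hzs => by
      by_cases hall : ∀ l, zs l = us l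
      · rw [funext hall, ← hu]
        exact Submodule.mem_sup_right (Submodule.mem_span_singleton_self u)
      · push Not at hall
        obtain ⟨l, hl⟩ := hall
        exact Submodule.mem_sup_left (h2 l zs ((hzs l).resolve_left hl))) xs
  obtain ⟨r, hr, w, hw, hrw⟩ := Submodule.mem_sup.1 (htop t)
  obtain ⟨a, rfl⟩ := Submodule.mem_span_singleton.1 hw
  have hrv : tf σ c h r (ptens vs) = 0 := by
    have := ((mem_rSub hV hv).1 (hR ▸ hr) 1).1
    rwa [one_smul] at this
  rw [← hrw, hV.add_left, hV.smul_left, hrv, hu, hM.data.tf_ptens, Finset.prod_eq_one fun l _ => husv l, mul_one,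
    zero_add, mul_eq_zero] at ht
  rw [← hrw, ht.resolve_right hM.data.hc, zero_smul, add_zero]
  exact hr

/-- A root element with a non-scalar coefficient gives all isometries of determinant one. -/
theorem rich_fix {r₀ : F} (hr₀ : σ r₀ = r₀) (hr₀0 : r₀ ≠ 0) (hr₀1 : r₀ ≠ 1) {i : κ} (hns : ¬ Scal h (Mi M i)) :
    GT σ c h ≤ M := by
  classical
  have hh := hM.data.hh
  have hV := hM.data.herm (κ := κ)
  have hb := hM.hb
  haveI : Nonempty κ := ⟨i⟩
  have hP : ∀ (j : κ) (xs : κ → β → F), (∀ l, l ≠ j → h (xs l) (xs l) = 0) → UPt σ (tf σ c h) M (ptens xs) :=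
    fun j xs hxs => hM.upt_line hr₀ hr₀0 hr₀1 hns hxs
  refine fun g hg => mem_of_isometry hV (fun t htt => ?_) ?_ hg.1 hg.2
  · rcases eq_or_ne t 0 with rfl | ht0
    · exact UPt.zero hV
    obtain ⟨vs, hvs, hne⟩ : ∃ vs : κ → β → F, (∀ l, h (vs l) (vs l) = 0) ∧ tf σ c h t (ptens vs) ≠ 0 := by
      by_contra hc
      push Not at hc
      refine ht0 (hV.eq_zero _ fun s => ?_)
      let S : Submodule F V :=
        { carrier := {y | tf σ c h t y = 0}
          add_mem' := fun {a b} ha hb => by
            show tf σ c h t (a + b) = 0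
            rw [hV.add_right, show tf σ c h t a = 0 from ha, show tf σ c h t b = 0 from hb, add_zero]
          zero_mem' := hV.toSesq.zero_right _
          smul_mem' := fun r a ha => by
            show tf σ c h t (r • a) = 0
            rw [hV.smul_right, show tf σ c h t a = 0 from ha, mul_zero] }
      exact hV.refl _ _ (mem_top_of_ptens (S := S) (fun xs => ptens_mem_of (P := fun v => h v v = 0)
        (fun p hp => eq_top_iff.2 fun x _ => mem_of_iso_all hh (by omega) hp x) (fun ys hys => hc ys hys) xs) s)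
    have hvs0 : ∀ l, vs l ≠ 0 := fun l e => hne (by
      rw [show ptens vs = 0 from funext fun p => Finset.prod_eq_zero (Finset.mem_univ l) (by rw [e]; rfl),
        hV.toSesq.zero_right])
    obtain ⟨l₀⟩ := ‹Nonempty κ›
    choose us hus husv using fun l => TensorHerm.exists_partner hh (hvs l) (hvs0 l)
    obtain ⟨v, hv⟩ : ∃ v, v = ptens vs := ⟨_, rfl⟩
    have hv0 : tf σ c h v v = 0 := by
      rw [hv, hM.data.tf_ptens, Finset.prod_eq_zero (Finset.mem_univ l₀) (hvs l₀), mul_zero]
    rw [← hv] at hne
    obtain ⟨s, hs⟩ : ∃ s, s = tf σ c h t v := ⟨_, rfl⟩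
    rw [← hs] at hne
    obtain ⟨v', hv'⟩ : ∃ v', v' = (s / c) • ptens us := ⟨_, rfl⟩
    have hv'v : tf σ c h v' v = s := by
      rw [hv', hv, hV.smul_left, hM.data.tf_ptens, Finset.prod_eq_one fun l _ => husv l, mul_one,
        div_mul_cancel₀ _ hM.data.hc]
    have hv'P : UPt σ (tf σ c h) M v' := hv' ▸ (hP l₀ us fun l _ => hus l).smul hV _
    have hv'v' : tf σ c h v' v' = 0 := by
      rw [hv', hV.smul_left, hV.smul_right, hM.data.tf_ptens, Finset.prod_eq_zero (Finset.mem_univ l₀) (hus l₀),
        mul_zero, mul_zero, mul_zero]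
    obtain ⟨u, hu⟩ : ∃ u, u = s⁻¹ • (v' - t) := ⟨_, rfl⟩
    have huv : tf σ c h u v = 0 := by rw [hu, hV.smul_left, hV.toSesq.sub_left, hv'v, ← hs, sub_self, mul_zero]
    have hR : u ∈ rSub (M := M) hV (v := ptens vs) (hv ▸ hv0) :=
      hM.rSub_top hP hvs hvs0 (hv ▸ hv0) (hv ▸ huv)
    obtain ⟨-, l, hl, k, hk, hkx⟩ := (mem_rSub hV _).1 hR 1
    rw [one_smul] at hl hkx
    rw [← hv] at hkx
    obtain ⟨T, hT, hTx⟩ := hP l₀ vs (fun l _ => hvs l) (tf σ c h t v' / (s * σ s) - l) (by
      have hσs : σ s ≠ 0 := (map_ne_zero σ).2 hne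
      have e : tf σ c h u u = -((tf σ c h t v' + σ (tf σ c h t v')) / (s * σ s)) := by
        rw [hu]
        simp only [hV.smul_left, hV.smul_right, hV.toSesq.sub_left, hV.toSesq.sub_right, hv'v', htt,
          hV.herm v' t, map_inv₀]
        field_simp
        ring
      rw [e, neg_neg] at hl
      rw [map_sub, map_div₀, map_mul, hV.invol, mul_comm (σ s) s, add_div] at *
      linear_combination -hl)
    rw [← hv] at hTx
    have hgt : ((T * k : GL X F) : Mn) *ᵥ t = v' := by
      have hσs : σ s ≠ 0 := (map_ne_zero σ).2 hne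
      rw [Units.val_mul, ← Matrix.mulVec_mulVec, hTx, hkx, ← hs]
      simp only [hV.add_left, hV.toSesq.sub_left, hV.smul_left, ← hs, huv, hv0]
      rw [hu]
      simp only [hV.smul_right, hV.toSesq.sub_right, htt, map_inv₀]
      match_scalars <;> field_simp <;> ring
    have hTg : T * k ∈ M := mul_mem hT hk
    have h1 := hv'P.map hV (inv_mem hTg) (hM.le (inv_mem hTg)).1
    rwa [← hgt, inv_mulVec_cancel] at h1
  · rw [Fintype.card_fun]
    calc 5 ≤ 3 ^ 2 := by norm_num
      _ ≤ 3 ^ Fintype.card κ := Nat.pow_le_pow_right (by norm_num) hM.ht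
      _ ≤ _ := Nat.pow_le_pow_left hb _

end Cx

end Cfsg.Agent.Classical.TensorPowForm
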