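import Cfsg.Agent.Lib.Classical.TensorPowForm.Kron
import Cfsg.Agent.Lib.Classical.MaxTensorHermDich

/-!
A proper overgroup whose root elements have scalar coefficients controls the fusion of root elements at the factors;
the exchange of two factors of dimension three in characteristic two does not occur.
-/

set_option autoImplicit false
set_option linter.unusedSectionVars false

open scoped Kronecker

namespace Cfsg.Agent.Classical.TensorPowForm

open Matrix Module MaxTv TensorMax TensorPow Overfield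
open Cfsg.Agent.Classical.TensorHerm (isoSL Pre Scal Scal2 Tgt exists_hyp sl)

variable {F : Type*} [Field F] [Fintype F] {κ β : Type} [Fintype κ] [DecidableEq κ] [Fintype β] [DecidableEq β]

local notation "X" => (κ → β)
local notation "V" => ((κ → β) → F)
local notation "Mn" => Matrix (κ → β) (κ → β) F
local notation "Mb" => Matrix β β F

variable {σ : F ≃+* F} {c : F} {h : (β → F) → (β → F) → F} {M : Subgroup (GL (κ → β) F)}

/-- The components of an isometry in the stabiliser are similitudes. -/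
theorem TData.comp_simil (hT : TData σ c h) (hb : 2 ≤ Fintype.card β) {π : Equiv.Perm κ} {gs : κ → GL β F}
    (hg : wgl π gs ∈ GT σ c h) (l : κ) :
    ∃ μ : F, μ ≠ 0 ∧ ∀ x y, h ((gs l : Mb) *ᵥ x) ((gs l : Mb) *ᵥ y) = μ * h x y := by
  classical
  obtain ⟨z, u, -, -, huz⟩ := exists_hyp hT.hh hb
  obtain ⟨P, hP⟩ : ∃ P, P = ∏ j ∈ Finset.univ.erase l, h ((gs j : Mb) *ᵥ u) ((gs j : Mb) *ᵥ z) := ⟨_, rfl⟩
  have key : ∀ x y, h ((gs l : Mb) *ᵥ x) ((gs l : Mb) *ᵥ y) * P = h x y := by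
    intro x y
    have h1 := hg.1 (ptens (Function.update (fun _ => u) (π l) x)) (ptens (Function.update (fun _ => z) (π l) y))
    rw [wgl_mulVec, wgl_mulVec, hT.tf_ptens, hT.tf_ptens] at h1
    have h2 := mul_left_cancel₀ hT.hc h1
    rw [← Finset.mul_prod_erase Finset.univ _ (Finset.mem_univ l),
      ← Finset.mul_prod_erase Finset.univ _ (Finset.mem_univ (π l)),
      Finset.prod_congr rfl (g := fun j => h ((gs j : Mb) *ᵥ u) ((gs j : Mb) *ᵥ z)) fun j hj => by
        have : π j ≠ π l := fun e => Finset.ne_of_mem_erase hj (π.injective e)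
        rw [Function.update_of_ne this, Function.update_of_ne this],
      ← hP, Finset.prod_eq_one (s := Finset.univ.erase (π l)) fun j hj => by
        rw [Function.update_of_ne (Finset.ne_of_mem_erase hj), Function.update_of_ne (Finset.ne_of_mem_erase hj), huz],
      mul_one, Function.update_self, Function.update_self] at h2
    exact h2
  have hP0 : P ≠ 0 := fun e => one_ne_zero (α := F) (by rw [← huz, ← key u z, e, mul_zero])
  exact ⟨P⁻¹, inv_ne_zero hP0, fun x y => by rw [← key x y, mul_comm, mul_inv_cancel_right₀ hP0]⟩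

theorem uni_mul {v φ : β → F} {a b : GL β F} (ha : Uni v φ a) (hb : Uni v φ b) : Uni v φ (a * b) := by
  refine ⟨by rw [Units.val_mul, ← Matrix.mulVec_mulVec, hb.1, ha.1],
    by rw [Units.val_mul, ← Matrix.vecMul_vecMul, ha.2.1, hb.2.1], fun w hw => ?_⟩
  obtain ⟨k, hk⟩ := hb.2.2 w hw
  obtain ⟨k', hk'⟩ := ha.2.2 w hw
  refine ⟨k' + k, ?_⟩
  rw [Units.val_mul, ← Matrix.mulVec_mulVec, hk, Matrix.mulVec_add, Matrix.mulVec_smul, ha.1, hk', add_smul]
  abel

theorem shear_mul {φ : β → F} {a b : GL β F} (ha : Shear φ a) (hb : Shear φ b) : Shear φ (a * b) :=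
  ⟨by rw [Units.val_mul, ← Matrix.vecMul_vecMul, ha.1, hb.1],
    fun w hw => by rw [Units.val_mul, ← Matrix.mulVec_mulVec, hb.2 w hw, ha.2 w hw]⟩

namespace Px

variable (hM : Px σ c h M)
include hM

/-- Elements commuting with a transvection at a factor along an isotropic vector. -/
theorem cent_tv {i : κ} {v φ : β → F} (hv : h v v = 0) (hv0 : v ≠ 0) (hφ : φ ≠ 0) {A : GL β F}
    (hA : (A : Mb) = 1 + vecMulVec v φ) {y : GL X F} (hy : y ∈ M) (hc : y * pe i A = pe i A * y) :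
    y ∈ Wr F κ β := by
  refine hM.keep_mem (j := i) hv hv0 hy ?_
  rw [← pe_tv_range (i := i) hφ hA]
  rintro _ ⟨_, ⟨s, rfl⟩, rfl⟩
  refine ⟨(y : Mn) *ᵥ s, ?_⟩
  simp only [Matrix.toLin'_apply, Matrix.sub_mulVec, Matrix.one_mulVec, Matrix.mulVec_sub, Matrix.mulVec_mulVec,
    sub_mul, one_mul]
  rw [← Units.val_mul, ← Units.val_mul, hc]

/-- An involution exchanging two of at least three factors which is conjugate to a transvection at a factor. -/
theorem swap_three (h20 : (2 : F) = 0) (hm : Fintype.card β = 3) {g : GL X F} (hg : g ∈ M) {i : κ} {v φ : β → F}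
    (hv : h v v = 0) (hv0 : v ≠ 0) (hφ : φ ≠ 0) {A : GL β F} (hA : (A : Mb) = 1 + vecMulVec v φ)
    (hAM : pe i A ∈ M) {π : Equiv.Perm κ} {gs : κ → GL β F} (hz : g * pe i A * g⁻¹ = wgl π gs)
    (hz2 : wgl π gs * wgl π gs = 1) {l : κ} (hl : π l = l) : g ∈ Wr F κ β := by
  classical
  have hh := hM.data.hh
  haveI : Nonempty β := Fintype.card_pos_iff.1 (by omega)
  haveI : Nontrivial β := Fintype.one_lt_card_iff_nontrivial.1 (by omega)
  haveI : Fact (Nat.Prime 2) := ⟨Nat.prime_two⟩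
  haveI : CharP F 2 := by
    obtain ⟨p, hp⟩ := CharP.exists F
    have h2 : ((2 : ℕ) : F) = 0 := by exact_mod_cast h20
    rcases (Nat.prime_two.eq_one_or_self_of_dvd p ((CharP.cast_eq_zero_iff F p 2).1 h2)) with rfl | rfl
    · exact absurd (CharP.char_is_prime F 1) Nat.not_prime_one
    · exact hp
  obtain ⟨d₀, hd₀⟩ : ∃ c : F, (gs l : Mb) ^ 2 = c • 1 := by
    have h := hz2
    rw [wgl_mul] at h
    obtain ⟨c, hc⟩ := (wgl_eq_one h).2 l
    rw [hl, Units.val_mul, ← pow_two] at hc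
    exact ⟨c, hc⟩
  obtain ⟨d, N, hd, hgl, hN⟩ := exists_unip 2 hd₀
  rw [pow_two] at hN
  obtain ⟨μ, -, hμ⟩ := hM.data.comp_simil (by omega)
    (hM.le (hz ▸ mul_mem (mul_mem hg hAM) (inv_mem hg))) l
  have hdd : d * σ d ≠ 0 := mul_ne_zero hd ((map_ne_zero σ).2 hd)
  obtain ⟨ν, hν⟩ : ∃ ν, ν = μ / (d * σ d) := ⟨_, rfl⟩
  have hsim : ∀ x y, h (x + N *ᵥ x) (y + N *ᵥ y) = ν * h x y := fun x y => by
    have h1 := hμ x y
    rw [hgl, Matrix.smul_mulVec, Matrix.smul_mulVec, Matrix.add_mulVec, Matrix.add_mulVec, Matrix.one_mulVec,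
      Matrix.one_mulVec, hh.smul_left, hh.smul_right, ← mul_assoc] at h1
    rw [hν, div_mul_eq_mul_div, eq_div_iff hdd, mul_comm, h1]
  have hN' : ∀ x, x + N *ᵥ x + N *ᵥ (x + N *ᵥ x) = x := fun x => by
    rw [Matrix.mulVec_add, Matrix.mulVec_mulVec, hN, Matrix.zero_mulVec, add_zero, add_assoc,
      ← two_smul F (N *ᵥ x), h20, zero_smul, add_zero]
  have hν1 : ν = 1 := by
    obtain ⟨z, u, -, -, huz⟩ := exists_hyp hh (by omega)
    have h1 := hsim (u + N *ᵥ u) (z + N *ᵥ z)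
    rw [hN', hN', hsim, huz, mul_one] at h1
    have h2 : (ν - 1) * (ν - 1) = 0 := by linear_combination -h1 - (ν - 1) * h20
    exact sub_eq_zero.1 (mul_self_eq_zero.1 h2)
  -- a singular vector killed by the component
  obtain ⟨p, hp, hp0, hcomm⟩ : ∃ p, h p p = 0 ∧ p ≠ 0 ∧
      ∀ r : F, N * vecMulVec p (r • fn h p) = 0 ∧ vecMulVec p (r • fn h p) * N = 0 := by
    by_cases hN0 : N = 0
    · obtain ⟨z, u, hzz, -, huz⟩ := exists_hyp hh (by omega)
      exact ⟨z, hzz, fun e => one_ne_zero (by rw [← huz, e, hh.toSesq.zero_right]), fun r => by simp [hN0]⟩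
    · obtain ⟨hNr, -⟩ := rank_pair_ge (α := Unit) (0 : Matrix Unit Unit F) N (mul_zero _) hN
      have h1 : N.rank = 1 := by
        have : N.rank ≠ 0 := fun e => hN0 ((rank_zero_iff N).1 e)
        omega
      obtain ⟨p, ψ, hp0, hψ, hNp⟩ := eq_vmv_of_rank_one h1
      rw [hNp] at hN
      have hψp : ψ ⬝ᵥ p = 0 := by
        rw [vmv_mul, smul_eq_zero] at hN
        exact hN.resolve_right (vmv_ne_zero hp0 hψ)
      obtain ⟨y, hy⟩ := exists_dual hψ
      rw [dotProduct_comm] at hy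
      have hpp : h p p = 0 := by
        have h1 := hsim p y
        rw [hν1, one_mul, hNp, Matrix.vecMulVec_mulVec, Matrix.vecMulVec_mulVec, op_smul_eq_smul, op_smul_eq_smul,
          hψp, hy, zero_smul, one_smul, add_zero, hh.add_right, add_eq_left] at h1
        exact h1
      refine ⟨p, hpp, hp0, fun r => ⟨?_, ?_⟩⟩
      · rw [hNp, vmv_mul, hψp, zero_smul]
      · rw [hNp, vmv_mul, smul_dotProduct, fn_dot hh.toSesq, hpp, smul_zero, zero_smul]
  -- the root elements at this vector commute with the conjugate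
  obtain ⟨j, w, hw0, hline⟩ := line_of_roots hh hM.hb hM.ht hM.big (g := g⁻¹) (i := l) hp hp0
    fun r R _ _ hR hRm => by
      refine hM.cent_tv (i := i) hv hv0 hφ hA (mul_mem (mul_mem (inv_mem hg) (hM.pe_mem l hR)) (inv_mem (inv_mem hg))) ?_
      have hc : gs l * R = R * gs l := Units.ext (by
        rw [Units.val_mul, Units.val_mul, hgl, hRm, Matrix.smul_mul, Matrix.mul_smul]
        simp only [add_mul, mul_add, one_mul, mul_one, (hcomm r).1, (hcomm r).2]
        abel_nf)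
      have hzc : g * pe i A * g⁻¹ * pe l R = pe l R * (g * pe i A * g⁻¹) := by
        rw [hz, ← mul_inv_eq_iff_eq_mul, pe_conj_eq l R hl, hc, mul_inv_cancel_right]
      rw [inv_inv]
      calc g⁻¹ * pe l R * g * pe i A = g⁻¹ * (pe l R * (g * pe i A * g⁻¹)) * g := by group
        _ = g⁻¹ * (g * pe i A * g⁻¹ * pe l R) * g := by rw [hzc]
        _ = pe i A * (g⁻¹ * pe l R * g) := by group
  exact inv_mem_iff.1 (hM.line_to_line (inv_mem hg) hp hp0 hw0 hline)

/-- An involution exchanging two factors of dimension three is not conjugate to a transvection at a factor. -/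
theorem swap_two (h20 : (2 : F) = 0) (hm : Fintype.card β = 3) (hk2 : Fintype.card κ = 2) {g : GL X F}
    (hg : g ∈ M) {i : κ} {v φ : β → F} (hv : h v v = 0) (hv0 : v ≠ 0) (hφ : φ ≠ 0) (hφv : φ ⬝ᵥ v = 0)
    {A : GL β F} (hA : (A : Mb) = 1 + vecMulVec v φ) (hAM : pe i A ∈ M) {π : Equiv.Perm κ} {gs : κ → GL β F}
    (hπ : π.IsSwap) (hz : g * pe i A * g⁻¹ = wgl π gs) (hz2 : wgl π gs * wgl π gs = 1) : False := by
  classical
  have hh := hM.data.hh
  haveI : Nontrivial β := Fintype.one_lt_card_iff_nontrivial.1 (by omega)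
  obtain ⟨r, hr, hr0, hr1⟩ := hM.big.resolve_left (by omega)
  obtain ⟨a, b, hab, rfl⟩ := hπ
  have hAs : ∀ c : F, (A : Mb) ≠ c • 1 := by
    intro c hc
    obtain ⟨w, hw⟩ := exists_dual hφ
    rw [dotProduct_comm] at hw
    have h1 := congrArg (· *ᵥ v) (hA.symm.trans hc)
    have h2 := congrArg (· *ᵥ w) (hA.symm.trans hc)
    simp only [Matrix.add_mulVec, Matrix.one_mulVec, Matrix.vecMulVec_mulVec, op_smul_eq_smul, Matrix.smul_mulVec,
      hφv, hw, zero_smul, add_zero, one_smul] at h1 h2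
    rw [smul_left_injective F hv0 (h1.symm.trans (one_smul F v).symm), one_smul, add_eq_left] at h2
    exact hv0 h2
  obtain ⟨μ, -, hμ⟩ := hM.data.comp_simil (by omega) (hM.le (hz ▸ mul_mem (mul_mem hg hAM) (inv_mem hg))) b
  obtain ⟨q, hq⟩ : ∃ q : GL β F →* GL X F, ∀ B, q B = g⁻¹ * diagPair a b (gs b) hab B * g :=
    ⟨(MulAut.conj g⁻¹).toMonoidHom.comp (diagPair a b (gs b) hab), fun B => by simp⟩
  let Lv : (GL β F → Prop) → GL X F → Prop := fun P y => ∃ hs, y = wgl 1 hs ∧ P (hs i)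
  have hbase : ∀ E ∈ isoSL h, Lv (Tri v φ) (q E) := fun E hE => by
    have hk : diagPair a b (gs b) hab E ∈ M :=
      show pe a E * pe b (gs b * E * (gs b)⁻¹) ∈ M from mul_mem (hM.pe_mem a hE) (hM.pe_mem b (conj_isoSL hμ hE))
    have hcm : q E * pe i A = pe i A * q E := by
      have hzk := diagPair_comm hab (Equiv.swap_apply_left a b) (Equiv.swap_apply_right a b) hz2 E
      rw [← hz] at hzk
      rw [hq]
      calc g⁻¹ * diagPair a b (gs b) hab E * g * pe i A
          = g⁻¹ * (diagPair a b (gs b) hab E * (g * pe i A * g⁻¹)) * g := by group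
        _ = g⁻¹ * (g * pe i A * g⁻¹ * diagPair a b (gs b) hab E) * g := by rw [hzk]
        _ = _ := by group
    obtain ⟨π', hs, hqe⟩ := hM.cent_tv hv hv0 hφ hA
      (show q E ∈ M by rw [hq]; exact mul_mem (mul_mem (inv_mem hg) hk) hg) hcm
    rw [hqe] at hcm
    obtain ⟨hπi, hc⟩ := comm_pe hAs hcm
    rw [perm_eq_one_of_two hk2 hπi] at hqe
    refine ⟨hs, hqe, tri_of_comm hv0 hφ ?_⟩
    have h3 := congrArg Units.val hc
    rw [Units.val_mul, Units.val_mul, hA, mul_add, add_mul, mul_one, one_mul, add_right_inj] at h3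
    exact h3
  -- every root element is a commutator of products of root elements
  let Rt : (GL β F → Prop) → Prop := fun P => ∀ (z : β → F) (d : F) (R : GL β F), h z z = 0 → z ≠ 0 → σ d = d →
    (R : Mb) = 1 + vecMulVec z (d • fn h z) → Lv P (q R)
  have hskew : ∀ d : F, σ d = d → d + σ d = 0 := fun d hd => by rw [hd, ← two_mul, h20, zero_mul]
  have hroot : ∀ (z : β → F) (d : F), h z z = 0 → σ d = d →
      ∃ R ∈ isoSL h, (R : Mb) = 1 + vecMulVec z (d • fn h z) := fun z d hzz hd => by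
    obtain ⟨R, hR, -, hRm⟩ := exists_herm_tv hh hzz (hskew d hd)
    exact ⟨R, hR, hRm⟩
  have hstep : ∀ P P' : GL β F → Prop, Rt P → (∀ c d, P c → P d → P (c * d)) →
      (∀ c d, P c → P d → P' (c * d * c⁻¹ * d⁻¹)) → Rt P' := by
    intro P P' hP hmul hPP' z d R hzz hz0 hd hR
    obtain ⟨u, huu, huz⟩ := TensorHerm.exists_partner hh hzz hz0
    have hzu : h z u = 1 := by rw [hh.herm, huz, map_one]
    obtain ⟨b₁, hb₁⟩ : ∃ b₁, b₁ = z + u := ⟨_, rfl⟩
    obtain ⟨b₂, hb₂⟩ : ∃ b₂, b₂ = r • z + u := ⟨_, rfl⟩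
    have hb₁i : h b₁ b₁ = 0 := by
      simp only [hb₁, hh.add_left, hh.add_right, hzz, huu, huz, hzu]
      linear_combination h20
    have hb₂i : h b₂ b₂ = 0 := by
      simp only [hb₂, hh.add_left, hh.add_right, hh.smul_left, hh.smul_right, hzz, huu, huz, hzu, hr]
      linear_combination r * h20
    have hzb₁ : h z b₁ = 1 := by simp only [hb₁, hh.add_right, hzz, hzu, zero_add]
    have hub₂ : h u b₂ = r := by
      simp only [hb₂, hh.add_right, hh.smul_right, huu, huz, hr, mul_one, add_zero]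
    have hb₁0 : b₁ ≠ 0 := fun e => one_ne_zero (by rw [← hzb₁, e, hh.toSesq.zero_right])
    have hb₂0 : b₂ ≠ 0 := fun e => hr0 (by rw [← hub₂, e, hh.toSesq.zero_right])
    have hr' : σ r⁻¹ = r⁻¹ := by rw [map_inv₀, hr]
    obtain ⟨R₁, hR₁, hR₁m⟩ := hroot b₁ 1 hb₁i (map_one σ)
    obtain ⟨R₂, hR₂, hR₂m⟩ := hroot b₂ r⁻¹ hb₂i hr'
    obtain ⟨E, hE⟩ : ∃ E, E = R₂ * R₁ := ⟨_, rfl⟩
    have hneg : ∀ w : β → F, w + w = 0 := fun w => by rw [← two_smul F w, h20, zero_smul]
    have hEz : (E : Mb) *ᵥ z = r • z := by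
      rw [hE, Units.val_mul, ← Matrix.mulVec_mulVec, hR₁m, Matrix.add_mulVec, Matrix.one_mulVec,
        Matrix.vecMulVec_mulVec, op_smul_eq_smul, smul_dotProduct, fn_dot hh.toSesq, hzb₁, smul_eq_mul, mul_one,
        one_smul, hb₁, ← add_assoc, hneg, zero_add, hR₂m, Matrix.add_mulVec, Matrix.one_mulVec,
        Matrix.vecMulVec_mulVec, op_smul_eq_smul, smul_dotProduct, fn_dot hh.toSesq, hub₂, smul_eq_mul,
        inv_mul_cancel₀ hr0, one_smul, hb₂, add_comm (r • z), ← add_assoc, hneg, zero_add]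
    have hr2 : r * r - 1 ≠ 0 := fun e => by
      rcases mul_self_eq_one_iff.1 (sub_eq_zero.1 e) with e1 | e1
      · exact hr1 e1
      · exact hr1 (by rw [e1]; linear_combination -h20)
    obtain ⟨e, he⟩ : ∃ e, e = d / (r * r - 1) := ⟨_, rfl⟩
    have hσe : σ e = e := by rw [he, map_div₀, map_sub, map_mul, map_one, hr, hd]
    obtain ⟨R', hR', hR'm⟩ := hroot z e hzz hσe
    have hRR : R * R' = E * R' * E⁻¹ := Units.ext (by
      have hEi := (hE ▸ mul_mem hR₂ hR₁ : E ∈ isoSL h).1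
      have hER : (E : Mb) * (1 + vecMulVec z (e • fn h z)) * ((E⁻¹ : GL β F) : Mb) =
          1 + vecMulVec z ((r * r * e) • fn h z) := by
        rw [mul_add, add_mul, mul_one, ← Units.val_mul, mul_inv_cancel, Units.val_one, Matrix.vecMulVec_smul,
          Matrix.mul_smul, Matrix.smul_mul, vmv_conj hh hEi, hEz, fn_smul hh.toSesq, hr, Matrix.smul_vecMulVec,
          Matrix.vecMulVec_smul, Matrix.vecMulVec_smul, smul_smul, smul_smul]
        congr 2
        ring
      rw [Units.val_mul, Units.val_mul, Units.val_mul, hR, hR'm, hER, add_mul, one_mul, mul_add, mul_one, vmv_mul,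
        smul_dotProduct, fn_dot hh.toSesq, hzz, smul_zero, zero_smul, add_zero, Matrix.vecMulVec_smul,
        Matrix.vecMulVec_smul, Matrix.vecMulVec_smul]
      rw [add_assoc, ← add_smul]
      congr 2
      have hde : e * (r * r - 1) = d := by rw [he, div_mul_cancel₀ _ hr2]
      linear_combination -hde)
    have hcom : R = E * R' * E⁻¹ * R'⁻¹ := by rw [eq_mul_inv_iff_mul_eq, hRR]
    have hq₁ := hP b₁ 1 R₁ hb₁i hb₁0 (map_one σ) hR₁m
    have hq₂ := hP b₂ r⁻¹ R₂ hb₂i hb₂0 hr' hR₂m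
    obtain ⟨hs₁, e1, p1⟩ := hq₁
    obtain ⟨hs₂, e2, p2⟩ := hq₂
    obtain ⟨hs', e', p'⟩ := hP z e R' hzz hz0 hσe hR'm
    refine ⟨hs₂ * hs₁ * hs' * (hs₂ * hs₁)⁻¹ * hs'⁻¹, ?_, hPP' _ _ (hmul _ _ p2 p1) p'⟩
    rw [hcom, hE, map_mul, map_mul, map_mul, map_inv, map_inv, map_mul, e1, e2, e']
    simp only [wgl_inv, inv_one, wgl_mul, mul_one, Equiv.Perm.coe_one, id_eq]
    rfl
  have h1 : Rt (Tri v φ) := fun z d R hzz _ hd hR => by
    obtain ⟨R', hR', hR'm⟩ := hroot z d hzz hd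
    obtain rfl : R = R' := Units.ext (hR.trans hR'm.symm)
    exact hbase R hR'
  have h2 := hstep (Tri v φ) (Uni v φ) h1 (fun _ _ => tri_mul) fun c d => uni_of_tri hm hv0 hφ hφv
  have h3 := hstep (Uni v φ) (Shear φ) h2 (fun _ _ => uni_mul) fun c d => shear_of_uni
  have h4 := hstep (Shear φ) (fun c => c = 1) h3 (fun _ _ => shear_mul) fun c d => shear_comm hφ
  obtain ⟨z, u, hzz, -, huz⟩ := exists_hyp hh (by omega)
  have hz0 : z ≠ 0 := fun e => one_ne_zero (by rw [← huz, e, hh.toSesq.zero_right])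
  obtain ⟨R, hR, hRm⟩ := hroot z 1 hzz (map_one σ)
  obtain ⟨hs, he, hsi⟩ := h4 z 1 R hzz hz0 (map_one σ) hRm
  have hd := dvd_rank_of_scalar hm hk2 (gs := hs) (i := i) (c := (1 : F)) (by rw [hsi, Units.val_one, one_smul])
  obtain ⟨h5, h6⟩ := diagPair_rank (g := gs b) hm hk2 hab hz0 (herm_tv_ne hh hz0 one_ne_zero)
    (by rw [smul_dotProduct, fn_dot hh.toSesq, hzz, smul_zero]) hRm
  have hrk := (quad_conj g⁻¹ (diagPair a b (gs b) hab R)).2
  rw [inv_inv, show g⁻¹ * diagPair a b (gs b) hab R * g = wgl 1 hs from (hq R).symm.trans he] at hrk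
  omega

/-- Fusion of the root elements at the factors. -/
theorem fusion {g : GL X F} (hg : g ∈ M) {i : κ} {v φ : β → F} (hv : h v v = 0) (hv0 : v ≠ 0) (hφ : φ ≠ 0)
    (hφv : φ ⬝ᵥ v = 0) {A : GL β F} (hA : (A : Mb) = 1 + vecMulVec v φ) (hAM : pe i A ∈ M)
    (hgW : g * pe i A * g⁻¹ ∈ Wr F κ β) : g ∈ Wr F κ β := by
  classical
  obtain ⟨hq, hrk⟩ := isTv_quad (κ := κ) (i := i) ⟨v, φ, A, hv0, hφ, hφv, hA, rfl⟩
  have hsq' := (quad_conj g _).1 hq
  rcases classify hM.hb hM.ht hgW hsq' ((quad_conj g _).2.trans hrk) with ⟨j, hj⟩ | ⟨h20, hm, π, gs, hz, hπ⟩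
  · obtain ⟨w, hw, hm⟩ := line_of_tv_conj hv0 hφ hA hj
    exact hM.line_to_line hg hv hv0 hw hm
  haveI : CharP F 2 := by
    obtain ⟨p, hp⟩ := CharP.exists F
    have h2 : ((2 : ℕ) : F) = 0 := by exact_mod_cast h20
    rcases (Nat.prime_two.eq_one_or_self_of_dvd p ((CharP.cast_eq_zero_iff F p 2).1 h2)) with rfl | rfl
    · exact absurd (CharP.char_is_prime F 1) Nat.not_prime_one
    · exact hp
  haveI : Fact (Nat.Prime 2) := ⟨Nat.prime_two⟩
  haveI : Nontrivial β := Fintype.one_lt_card_iff_nontrivial.1 (by omega)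
  haveI : Nonempty β := inferInstance
  have hz2 : wgl π gs * wgl π gs = 1 := by
    have h := pow_char_eq_one 2 hsq'
    rwa [pow_two, hz] at h
  by_cases hk2 : Fintype.card κ = 2
  · exact (hM.swap_two h20 hm hk2 hg hv hv0 hφ hφv hA hAM hπ hz hz2).elim
  obtain ⟨a, b, hab, rfl⟩ := hπ
  obtain ⟨l, -, hl⟩ : ∃ l ∈ (Finset.univ : Finset κ), l ∉ ({a, b} : Finset κ) := by
    refine Finset.exists_mem_notMem_of_card_lt_card ?_
    rw [Finset.card_univ, Finset.card_pair hab]
    have := hM.ht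
    omega
  rw [Finset.mem_insert, Finset.mem_singleton, not_or] at hl
  exact hM.swap_three h20 hm hg hv hv0 hφ hA hAM hz hz2 (Equiv.swap_apply_of_ne_of_ne hl.1 hl.2)

/-- The stabiliser seen at a factor is a target for the fusion. -/
theorem tgt (i : κ) : Tgt h (Mi M i) ((Wr F κ β).map (sp (F := F) i).toMonoidHom) where
  kron := by
    rintro _ ⟨g, hg, rfl⟩ hk
    exact ⟨g, hM.kron_mem' hg hk, rfl⟩
  conj {g X' z d} hg hXM hz hz0 hd hX hL := by
    obtain ⟨g₀, hg₀, rfl⟩ := hg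
    have hh := hM.data.hh
    have hφz : (d • fn h z) ⬝ᵥ z = 0 := by rw [smul_dotProduct, fn_dot hh.toSesq, hz, smul_zero]
    obtain ⟨A, hA⟩ := exists_tv hφz
    have hX' : X' = sp i (pe i A) := Units.ext (Matrix.ext_iff_mulVec.2 fun t => by
      rw [hX]
      obtain ⟨s, rfl⟩ := (spV i).surjective t
      rw [sp_mulVec, pe_tv_mulVec (tv_val hA), slice_smul, tmul_smul_left]
      rfl)
    refine ⟨g₀, hM.fusion (i := i) hg₀ hz hz0 (herm_tv_ne hh hz0 hd) hφz (tv_val hA) ?_ ?_, rfl⟩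
    · rw [hX'] at hXM
      exact mem_Mi.1 hXM
    · obtain ⟨y, hy, hye⟩ := hL
      rw [hX'] at hye
      have : y = g₀ * pe i A * g₀⁻¹ := (sp i).injective (hye.trans (by simp [map_mul, map_inv]))
      exact this ▸ hy

/-- Odd characteristic: the overgroup is in the stabiliser. -/
theorem le_of_odd (h2 : (2 : F) ≠ 0) : M ≤ Wr F κ β := fun g hg => by
  obtain ⟨i⟩ : Nonempty κ := Fintype.card_pos_iff.1 (by have := hM.ht; omega)
  obtain ⟨y, hy, hye⟩ := (hM.pre i).all_mem_odd (hM.scal2' i) (hM.tgt i) h2 (mem_Mi.2 hg)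
  exact (sp i).injective hye ▸ hy

end Px

end Cfsg.Agent.Classical.TensorPowForm
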