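import Cfsg.Agent.Lib.Classical.TensorPow.Classify
import Cfsg.Agent.Lib.Classical.MaxTensorHermBase

/-!
Mapping the lines of isotropic vectors to lines characterises the stabiliser of a tensor power of a unitary space.
-/

set_option autoImplicit false
set_option linter.unusedSectionVars false

namespace Cfsg.Agent.Classical.TensorPowForm

open Matrix Module MaxTv TensorMax TensorPow

variable {F : Type*} [Field F] [Fintype F] {κ β : Type} [Fintype κ] [DecidableEq κ] [Fintype β] [DecidableEq β]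

local notation "X" => (κ → β)
local notation "V" => ((κ → β) → F)
local notation "Mn" => Matrix (κ → β) (κ → β) F
local notation "Mb" => Matrix β β F

theorem line_smul {i : κ} {v : β → F} {r : F} (hr : r ≠ 0) : line (κ := κ) i (r • v) = line i v := by
  ext t
  rw [mem_line_iff, mem_line_iff]
  constructor
  · rintro ⟨s, hs⟩
    exact ⟨r • s, by rw [hs, tmul_smul_right, tmul_smul_left]⟩
  · rintro ⟨s, hs⟩
    exact ⟨r⁻¹ • s, by rw [hs, tmul_smul_right, tmul_smul_left, smul_smul, mul_inv_cancel₀ hr, one_smul]⟩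

/-- Lines of independent vectors at a factor have images at one factor. -/
theorem slot_eq {g : GL X F} {i k k' : κ} {v v' w w' : β → F} (hind : ∀ r : F, v' ≠ r • v) (hw : w ≠ 0) (hw' : w' ≠ 0)
    (h : (line i v).map (Matrix.toLin' (g : Mn)) = line k w)
    (h' : (line i v').map (Matrix.toLin' (g : Mn)) = line k' w') : k' = k := by
  by_contra hne
  obtain ⟨b, hb⟩ := Function.ne_iff.1 hw
  set xs : κ → β → F := Function.update (Function.update (fun _ => w) k w) k' w' with hxs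
  have hm' : ptens xs ∈ line k' w' := ptens_mem_line _
  have hm : ptens xs ∈ line k w := by
    rw [hxs, Function.update_comm (Ne.symm hne)]
    exact ptens_mem_line _
  rw [← h'] at hm'
  rw [← h] at hm
  obtain ⟨s, hs, hse⟩ := hm
  obtain ⟨s', hs', hse'⟩ := hm'
  have hss : s' = s := MaxTv.gl_mulVec_injective g (by simpa [Matrix.toLin'_apply] using hse'.trans hse.symm)
  have h0 : s = 0 := line_inter hind hs (hss ▸ hs')
  rw [h0, map_zero] at hse
  refine ptens_ne_zero (xs := xs) (fun l => ?_) hse.symm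
  rw [hxs]
  by_cases e : l = k' <;> by_cases e' : l = k <;> simp [e, e', hw, hw', Ne.symm hne]

variable {σ : F ≃+* F} {h : (β → F) → (β → F) → F}

/-- An anisotropic vector lies in two planes spanned by isotropic vectors. -/
theorem exists_planes (hh : Herm σ h) (hb : 3 ≤ Fintype.card β) {v : β → F} (hv : h v v ≠ 0) :
    ∃ (x x' : β → F) (l : F), l ≠ 1 ∧ h (v + x) (v + x) = 0 ∧ h (v + l • x) (v + l • x) = 0 ∧
      h (v + x') (v + x') = 0 ∧ h (v + l • x') (v + l • x') = 0 ∧ LinearIndependent F ![v, x, x'] := by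
  obtain ⟨ω, hω⟩ := hh.exists_moved
  have hω0 : ω ≠ 0 := fun e => hω (by rw [e, map_zero])
  have hl1 : ω / σ ω ≠ 1 := fun e => hω (eq_of_div_eq_one e).symm
  have hln : ω / σ ω * σ (ω / σ ω) = 1 := by
    rw [map_div₀, hh.invol]
    have : σ ω ≠ 0 := (map_ne_zero σ).2 hω0
    field_simp
  let S := LinearMap.ker (hh.toSesq.lin v)
  have hmemS : ∀ x, x ∈ S ↔ h x v = 0 := fun x => by simp only [S, LinearMap.mem_ker, hh.toSesq.lin_apply]
  obtain ⟨b, hb', c, hc, hbb, hcc, hcb⟩ : ∃ b ∈ S, ∃ c ∈ S, h b b = 0 ∧ h c c = 0 ∧ h c b = 1 := by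
    refine TensorHerm.exists_pair_perp hh ?_ fun x => ?_
    · have := card_le_finrank_ker_add_one (hh.toSesq.lin v)
      show 2 ≤ finrank F (LinearMap.ker (hh.toSesq.lin v))
      omega
    · refine ⟨x - (h x v / h v v) • v, (hmemS _).2 ?_, fun y hy => ?_⟩
      · rw [hh.toSesq.sub_left, hh.smul_left, div_mul_cancel₀ _ hv, sub_self]
      · rw [sub_sub_cancel, hh.smul_left, hh.refl _ _ ((hmemS y).1 hy), mul_zero]
  have hbv := (hmemS b).1 hb'
  have hcv := (hmemS c).1 hc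
  have hvb := hh.refl _ _ hbv
  have hvc := hh.refl _ _ hcv
  have hbc : h b c = 1 := by rw [hh.herm, hcb, map_one]
  obtain ⟨r, hr⟩ := hh.exists_trace_eq (a := -h v v) (by rw [map_neg, hh.self_fixed])
  obtain ⟨τ, hτ, hτs⟩ := hh.exists_skew
  obtain ⟨r', hr', hr'2⟩ : ∃ r', r' + σ r' = -h v v ∧ r' ≠ r := ⟨r + τ, by rw [map_add]; linear_combination hr + hτs,
    fun e => hτ (add_eq_left.1 e)⟩
  have hiso : ∀ s : F, s + σ s = -h v v → ∀ m : F, m * σ m = 1 →
      h (v + m • (b + s • c)) (v + m • (b + s • c)) = 0 := fun s hs m hm => by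
    simp only [hh.add_left, hh.add_right, hh.smul_left, hh.smul_right, hbb, hcc, hbc, hcb, hbv, hcv, hvb, hvc]
    linear_combination (s + σ s) * hm + hs
  refine ⟨b + r • c, b + r' • c, ω / σ ω, hl1, ?_, hiso r hr _ hln, ?_, hiso r' hr' _ hln, ?_⟩
  · simpa using hiso r hr 1 (by simp)
  · simpa using hiso r' hr' 1 (by simp)
  refine Fintype.linearIndependent_iff.2 fun g hg => ?_
  rw [Fin.sum_univ_three] at hg
  simp only [Matrix.cons_val_zero, Matrix.cons_val_one, Matrix.head_cons, Matrix.cons_val] at hg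
  have e1 := congrArg (fun x => h x v) hg
  have e2 := congrArg (fun x => h x c) hg
  have e3 := congrArg (fun x => h x b) hg
  simp only [hh.add_left, hh.smul_left, hbv, hcv, hvc, hvb, hbb, hcc, hbc, hcb, hh.toSesq.zero_left, mul_zero, mul_one,
    add_zero, zero_add] at e1 e2 e3
  have g0 : g 0 = 0 := (mul_eq_zero.1 e1).resolve_right hv
  have g12 : g 2 * (r' - r) = 0 := by linear_combination e3 - r * e2
  have g2 : g 2 = 0 := (mul_eq_zero.1 g12).resolve_right (sub_ne_zero.2 hr'2)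
  intro j
  fin_cases j
  exacts [g0, by rw [g2, add_zero] at e2; exact e2, g2]

/-- Mapping the isotropic lines to lines. -/
theorem mem_Wr_of_iso_lines [Nonempty κ] (hh : Herm σ h) (hb : 3 ≤ Fintype.card β) {g : GL X F}
    (hg : ∀ (i : κ) (v : β → F), h v v = 0 → v ≠ 0 → ∃ (j : κ) (w : β → F), w ≠ 0 ∧
      (line i v).map (Matrix.toLin' (g : Mn)) = line j w) : g ∈ Wr F κ β := by
  classical
  haveI : Nontrivial β := Fintype.one_lt_card_iff_nontrivial.1 (by omega)
  refine mem_Wr_of_lines (Fintype.card κ) κ rfl g fun i v hv => ?_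
  by_cases hvv : h v v = 0
  · exact hg i v hvv hv
  obtain ⟨x, x', l, hl, hu1, hu2, hu1', hu2', hli⟩ := exists_planes hh hb hvv
  have ne : ∀ a b e : F, a • v + b • x + e • x' = 0 → a = 0 ∧ b = 0 ∧ e = 0 := fun a b e h0 => by
    have := Fintype.linearIndependent_iff.1 hli ![a, b, e] (by
      rw [Fin.sum_univ_three]; simpa using h0)
    exact ⟨this 0, this 1, this 2⟩
  have hu1n : v + x ≠ 0 := fun e => one_ne_zero (ne 1 1 0 (by simpa using e)).1
  have hu2n : v + l • x ≠ 0 := fun e => one_ne_zero (ne 1 l 0 (by simpa using e)).1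
  have hu1n' : v + x' ≠ 0 := fun e => one_ne_zero (ne 1 0 1 (by simpa using e)).1
  have hu2n' : v + l • x' ≠ 0 := fun e => one_ne_zero (ne 1 0 l (by simpa using e)).1
  obtain ⟨j, w₁, hw₁, hm₁⟩ := hg i _ hu1 hu1n
  obtain ⟨j₂, w₂, hw₂, hm₂⟩ := hg i _ hu2 hu2n
  obtain ⟨j₁', w₁', hw₁', hm₁'⟩ := hg i _ hu1' hu1n'
  obtain ⟨j₂', w₂', hw₂', hm₂'⟩ := hg i _ hu2' hu2n'
  have i12 : ∀ r : F, v + l • x ≠ r • (v + x) := fun r e => by
    obtain ⟨a0, b0, -⟩ := ne (1 - r) (l - r) 0 (by rw [← sub_eq_zero] at e; rw [← e]; module)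
    exact hl (by linear_combination b0 - a0)
  have i11' : ∀ r : F, v + x' ≠ r • (v + x) := fun r e =>
    one_ne_zero (ne (1 - r) (-r) 1 (by rw [← sub_eq_zero] at e; rw [← e]; module)).2.2
  have i12' : ∀ r : F, v + l • x' ≠ r • (v + x') := fun r e => by
    obtain ⟨a0, -, b0⟩ := ne (1 - r) 0 (l - r) (by rw [← sub_eq_zero] at e; rw [← e]; module)
    exact hl (by linear_combination b0 - a0)
  obtain rfl : j₂ = j := slot_eq i12 hw₁ hw₂ hm₁ hm₂
  obtain rfl : j₁' = j₂ := slot_eq i11' hw₁ hw₁' hm₁ hm₁'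
  obtain rfl : j₂' = j₁' := slot_eq i12' hw₁' hw₂' hm₁' hm₂'
  rename_i j
  have himg : ∀ {u w : β → F}, (line i u).map (Matrix.toLin' (g : Mn)) = line j₂' w → ∀ (s : (Rst i → β) → F),
      ∃ r, spV j₂' ((g : Mn) *ᵥ (spV i).symm (tmul s u)) = tmul r w := fun {u w} hm s => by
    have := Submodule.mem_map_of_mem (f := Matrix.toLin' (g : Mn))
      ((mem_line_iff (i := i) (v := u)).2 ⟨s, LinearEquiv.apply_symm_apply _ _⟩)
    rw [hm, Matrix.toLin'_apply] at this
    exact mem_line_iff.1 this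
  -- images are not in the span of the first two
  have hnot : ∀ a b : F, w₁' ≠ a • w₁ + b • w₂ := by
    intro a b e
    obtain ⟨s₀, hs₀⟩ : ∃ s : (Rst i → β) → F, s ≠ 0 := by
      obtain ⟨b₀⟩ : Nonempty β := Fintype.card_pos_iff.1 (by omega)
      exact ⟨Pi.single (fun _ => b₀) 1, by simp⟩
    obtain ⟨r, hr⟩ := himg hm₁' s₀
    have h1 : ∀ t ∈ line j₂' w₁', t ∈ line j₂' w₁ ⊔ line j₂' w₂ := fun t ht => by
      obtain ⟨s, hs⟩ := mem_line_iff.1 ht
      rw [← LinearEquiv.symm_apply_apply (spV j₂') t, hs, e, tmul_add_right, tmul_smul_right, tmul_smul_right,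
        map_add]
      exact Submodule.add_mem_sup (mem_line_iff.2 ⟨a • s, by rw [LinearEquiv.apply_symm_apply, tmul_smul_left]⟩)
        (mem_line_iff.2 ⟨b • s, by rw [LinearEquiv.apply_symm_apply, tmul_smul_left]⟩)
    rw [← hm₁, ← hm₂, ← Submodule.map_sup] at h1
    obtain ⟨t, ht, hte⟩ := h1 _ (hm₁' ▸ Submodule.mem_map_of_mem (f := Matrix.toLin' (g : Mn))
      ((mem_line_iff (i := i) (v := v + x')).2 ⟨s₀, LinearEquiv.apply_symm_apply _ _⟩))
    have ht' := MaxTv.gl_mulVec_injective g (by simpa [Matrix.toLin'_apply] using hte)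
    obtain ⟨t₁, ht₁, t₂, ht₂, hsum⟩ := Submodule.mem_sup.1 ht
    obtain ⟨s₁, hs₁⟩ := mem_line_iff.1 ht₁
    obtain ⟨s₂, hs₂⟩ := mem_line_iff.1 ht₂
    have h2 := congrArg (spV i) (hsum.trans ht')
    rw [map_add, hs₁, hs₂, LinearEquiv.apply_symm_apply] at h2
    obtain ⟨ξ, hξ⟩ := exists_dual hs₀
    have h3 := congrArg (lslice ξ) h2
    rw [map_add, lslice_tmul, lslice_tmul, lslice_tmul, hξ, one_smul] at h3
    obtain ⟨-, -, h5⟩ := ne (1 - (ξ ⬝ᵥ s₁ + ξ ⬝ᵥ s₂)) (-(ξ ⬝ᵥ s₁ + ξ ⬝ᵥ s₂ * l)) 1 (by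
      rw [← sub_eq_zero] at h3
      rw [← neg_zero, ← h3]
      module)
    exact one_ne_zero h5
  obtain ⟨φ, hφ1, hφ0⟩ := exists_dot_one (u := w₁') (S := Submodule.span F {w₁, w₂}) fun hm => by
    obtain ⟨a, b, e⟩ := Submodule.mem_span_pair.1 hm
    exact hnot a b e.symm
  have hw : w₂' - (φ ⬝ᵥ w₂') • w₁' ≠ 0 := fun e => by
    have hl2 : line (κ := κ) j₂' w₂' ≤ line j₂' w₁' := by
      rcases eq_or_ne (φ ⬝ᵥ w₂') 0 with e0 | e0
      · exact absurd (by rw [sub_eq_zero.1 e, e0, zero_smul]) hw₂'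
      · rw [sub_eq_zero.1 e, line_smul e0]
    rw [← hm₂', ← hm₁', Submodule.map_le_map_iff_of_injective (fun a b hab =>
      MaxTv.gl_mulVec_injective g (by simpa [Matrix.toLin'_apply] using hab))] at hl2
    obtain ⟨b₀⟩ : Nonempty β := Fintype.card_pos_iff.1 (by omega)
    let xs : κ → β → F := fun _ => Pi.single b₀ 1
    have h1 := hl2 (ptens_mem_line (i := i) (v := v + l • x') xs)
    obtain ⟨r, hr⟩ := prop_of_mem_line (fun m hm => by simp [Function.update_of_ne hm, xs]) h1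
    rw [Function.update_self] at hr
    exact i12' r hr
  refine ⟨j₂', w₂' - (φ ⬝ᵥ w₂') • w₁', hw, map_line_eq_of_le hv hw ?_⟩
  rintro _ ⟨t, ht, rfl⟩
  obtain ⟨s, hs⟩ := mem_line_iff.1 ht
  have hdec : ∀ (y : β → F), v = (1 - l)⁻¹ • ((v + l • y) - l • (v + y)) := fun y => by
    rw [show v + l • y - l • (v + y) = (1 - l) • v by module, smul_smul,
      inv_mul_cancel₀ (sub_ne_zero.2 (Ne.symm hl)), one_smul]
  have hsplit : ∀ (y : β → F) (w w' : β → F), (line i (v + y)).map (Matrix.toLin' (g : Mn)) = line j₂' w →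
      (line i (v + l • y)).map (Matrix.toLin' (g : Mn)) = line j₂' w' →
      ∃ r r', spV j₂' ((g : Mn) *ᵥ t) = tmul r w + tmul r' w' := fun y w w' hy hy' => by
    obtain ⟨r, hr⟩ := himg hy (-((1 - l)⁻¹ * l) • s)
    obtain ⟨r', hr'⟩ := himg hy' ((1 - l)⁻¹ • s)
    refine ⟨r, r', ?_⟩
    rw [← hr, ← hr', ← map_add, ← Matrix.mulVec_add, ← map_add]
    congr 2
    rw [LinearEquiv.eq_symm_apply, hs]
    conv_lhs => rw [hdec y]
    simp only [tmul_smul_right, tmul_smul_left, tmul_sub_right, tmul_add_right, tmul_add_left]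
    module
  obtain ⟨r₁, r₂, e1⟩ := hsplit x w₁ w₂ hm₁ hm₂
  obtain ⟨r₁', r₂', e2⟩ := hsplit x' w₁' w₂' hm₁' hm₂'
  have e3 : r₁' = -(φ ⬝ᵥ w₂') • r₂' := by
    have := congrArg (slice φ) (e1.symm.trans e2)
    rw [map_add, map_add, slice_tmul, slice_tmul, slice_tmul, slice_tmul, hφ1,
      hφ0 w₁ (Submodule.subset_span (by simp)), hφ0 w₂ (Submodule.subset_span (by simp)), zero_smul, zero_smul,
      add_zero, one_smul] at this
    rw [neg_smul]
    exact eq_neg_of_add_eq_zero_left this.symm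
  refine mem_line_iff.2 ⟨r₂', ?_⟩
  rw [Matrix.toLin'_apply, e2, e3, tmul_smul_left, tmul_sub_right, tmul_smul_right]
  module

end Cfsg.Agent.Classical.TensorPowForm
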