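import Cfsg.Agent.Lib.Classical.TensorPowForm.Twist

/-!
With a fixed element other than zero and one the twisted root elements have scalar coefficients when the root
elements have.
-/

set_option autoImplicit false
set_option linter.unusedSectionVars false

namespace Cfsg.Agent.Classical.TensorPowForm

open Matrix Module MaxTv TensorMax Overfield TensorHerm
open Cfsg.Agent.Classical.TensorRoot (kg kg_apply kg_isKron)

variable {F : Type*} [Field F] [Fintype F] {α β : Type} [Fintype α] [DecidableEq α] [Fintype β] [DecidableEq β]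

local notation "Mn" => Matrix (α × β) (α × β) F
local notation "Mb" => Matrix β β F

variable {σ : F ≃+* F} {fA : (α → F) → (α → F) → F} {fB : (β → F) → (β → F) → F}
  {f : (α × β → F) → (α × β → F) → F} {M : Subgroup (GL (α × β) F)}

/-- An isometry scaling an isotropic vector by a factor whose norm is not one. -/
theorem exists_scale_norm {ι : Type} [Fintype ι] [DecidableEq ι] {h : (ι → F) → (ι → F) → F} (hs : Herm σ h)
    (hn : 3 ≤ Fintype.card ι) {r : F} (hr : σ r = r) (hr0 : r ≠ 0) (hr1 : r ≠ 1) {z : ι → F} (hz : h z z = 0)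
    (hz0 : z ≠ 0) : ∃ E ∈ isoSL h, ∃ c : F, c * σ c ≠ 1 ∧ (E : Matrix ι ι F) *ᵥ z = c • z := by
  by_cases hrr : r * r = 1
  swap
  · obtain ⟨E, hE, hEz⟩ := exists_scale hs hz hz0 hr hr0
    exact ⟨E, hE, r, by rwa [hr], hEz⟩
  have hr' : r = -1 := (mul_self_eq_one_iff.1 hrr).resolve_left hr1
  have h2 : (2 : F) ≠ 0 := fun e => hr1 (by rw [hr']; linear_combination -e)
  obtain ⟨τ, hτ, hτs⟩ := hs.exists_skew
  have hστ : σ τ = -τ := eq_neg_of_add_eq_zero_right hτs
  have hσs : σ (τ * τ) = τ * τ := by rw [map_mul, hστ, neg_mul_neg]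
  have hs1 : τ * τ ≠ 1 := fun e => by
    rcases mul_self_eq_one_iff.1 e with e1 | e1 <;> rw [e1] at hστ <;> simp only [map_neg, map_one] at hστ
    · exact h2 (by linear_combination hστ)
    · exact h2 (by linear_combination -hστ)
  by_cases hss : τ * τ * (τ * τ) = 1
  swap
  · obtain ⟨E, hE, hEz⟩ := exists_scale hs hz hz0 hσs (mul_ne_zero hτ hτ)
    exact ⟨E, hE, τ * τ, by rwa [hσs], hEz⟩
  have hττ : τ * τ = -1 := (mul_self_eq_one_iff.1 hss).resolve_left hs1
  obtain ⟨u, hu, huz⟩ := TensorHerm.exists_partner hs hz hz0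
  have hzu : h z u = 1 := by rw [hs.herm, huz, map_one]
  obtain ⟨y, hyu, hyz, hyy⟩ := exists_value_perp hs hn hu hz huz (t := -2) (by rw [map_neg, map_ofNat])
  obtain ⟨m, hm⟩ : ∃ m, m = 1 + τ := ⟨_, rfl⟩
  have hσm : σ m = 1 - τ := by rw [hm, map_add, map_one, hστ, sub_eq_add_neg]
  obtain ⟨w, hw⟩ : ∃ w, w = z + m • u + y := ⟨_, rfl⟩
  have hmm : m * σ m = 2 := by rw [hσm, hm]; linear_combination -hττ
  have hm0 : m ≠ 0 := fun e => h2 (by rw [← hmm, e, zero_mul])
  obtain ⟨c, hc⟩ : ∃ c, c = σ (τ / m) := ⟨_, rfl⟩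
  have hww : h w w = 0 := by
    rw [hw]
    simp only [hs.add_left, hs.add_right, hs.smul_left, hs.smul_right, hz, hu, huz, hzu, hyu, hyz, hyy,
      hs.refl _ _ hyu, hs.refl _ _ hyz, hσm]
    rw [hm]; ring
  have huu : h (τ • u) (τ • u) = 0 := by simp [hs.smul_left, hs.smul_right, hu]
  have h12 : h (τ • u) w = τ := by
    rw [hw, hs.smul_left, hs.add_right, hs.add_right, hs.smul_right, huz, hu, hs.refl _ _ hyu]; ring
  have hwz : h w z = m := by rw [hw, hs.add_left, hs.add_left, hs.smul_left, hz, huz, hyz]; ring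
  have h23 : h w (c • z) = τ := by rw [hs.smul_right, hc, hs.invol, hwz, div_mul_cancel₀ _ hm0]
  have h01 : h z (τ • u) = -τ := by rw [hs.smul_right, hzu, hστ, mul_one]
  obtain ⟨g₁, hg₁, e₁⟩ := exists_move_skew hs hz huu (by rw [h01, map_neg, hστ, neg_neg, neg_add_cancel])
    (by rw [h01]; exact neg_ne_zero.2 hτ)
  obtain ⟨g₂, hg₂, e₂⟩ := exists_move_skew hs huu hww (by rw [h12, hτs]) (by rw [h12]; exact hτ)
  obtain ⟨g₃, hg₃, e₃⟩ := exists_move_skew hs hww (v := c • z)
    (by rw [hs.smul_left, hs.smul_right, hz, mul_zero, mul_zero]) (by rw [h23, hτs]) (by rw [h23]; exact hτ)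
  refine ⟨g₃ * g₂ * g₁, mul_mem (mul_mem hg₃ hg₂) hg₁, c, fun e => ?_, by
    rw [Units.val_mul, Units.val_mul, ← Matrix.mulVec_mulVec, ← Matrix.mulVec_mulVec, e₁, e₂, e₃]⟩
  rw [hc, hs.invol, map_div₀, hστ, div_mul_div_comm, neg_mul, hττ, neg_neg, mul_comm (σ m), hmm,
    div_eq_one_iff_eq h2] at e
  exact one_ne_zero (α := F) (by linear_combination -e)

/-- The twisted root elements have scalar coefficients. -/
theorem scal2_of_fixed (hO : Pre σ fA fB f M) {r : F} (hr : σ r = r) (hr0 : r ≠ 0) (hr1 : r ≠ 1)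
    (hS : Scal fB M) : Scal2 fB f M := by
  intro z hz hz0 D g hg ⟨_, A, B, hB, hm⟩
  have hs := hO.hB
  obtain ⟨E, hE, c, hc, hEz⟩ := exists_scale_norm hs hO.hb hr hr0 hr1 hz hz0
  -- the commutator
  have hk : ∀ t, ((g * kg 1 E * (kg 1 E * g)⁻¹ : GL (α × β) F) : Mn) *ᵥ t =
      t + rootMap z (fn fB z) ((1 - c * σ c) • D) t := fun t => by
    obtain ⟨s, rfl⟩ : ∃ s, ((kg (1 : GL α F) E * g : GL (α × β) F) : Mn) *ᵥ s = t := ⟨_, mulVec_inv_cancel _ t⟩
    have hconj : ∀ s, (kg (1 : GL α F) E : Mn) *ᵥ rootMap z (fn fB z) D s =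
        rootMap z (fn fB z) ((c * σ c) • D) ((kg (1 : GL α F) E : Mn) *ᵥ s) := fun s => by
      have := LinearMap.congr_fun (conjL_kg_root hs D hE.1 z) ((kg (1 : GL α F) E : Mn) *ᵥ s)
      rw [conjL_apply, inv_mulVec_cancel, hEz] at this
      rw [this]
      simp only [rootMap_apply, fn_smul hs.toSesq, slice_smul, map_smul, LinearMap.smul_apply, tmul_smul_left,
        tmul_smul_right, smul_smul]
    rw [Matrix.mulVec_mulVec, ← Units.val_mul, inv_mul_cancel_right]
    simp only [Units.val_mul, ← Matrix.mulVec_mulVec, hg, Matrix.mulVec_add, hconj, map_add,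
      rootMap_comp_zero hs hz]
    simp only [rootMap_apply, LinearMap.smul_apply, tmul_smul_left, add_zero]
    module
  obtain ⟨μ, hμ⟩ := hO.scal_conj hS hB (hO.comm_mem hB hm hE) hz hz0 hk
  refine ⟨μ / (1 - c * σ c), fun x => ?_⟩
  have h1 := hμ x
  rw [LinearMap.smul_apply] at h1
  rw [div_eq_inv_mul, mul_smul, ← h1, smul_smul, inv_mul_cancel₀ (sub_ne_zero.2 (Ne.symm hc)), one_smul]

end Cfsg.Agent.Classical.TensorPowForm
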