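import Cfsg.Agent.Lib.Classical.TensorPowForm.Rich
import Cfsg.Agent.Lib.Classical.TensorPowForm.Lines
import Cfsg.Agent.Lib.Classical.TensorPowForm.TwistFix
import Cfsg.Agent.Lib.Classical.TensorPow.Fusion
import Cfsg.Agent.Lib.Classical.MaxTensorHermDich

/-!
A proper overgroup whose root elements have scalar coefficients: elements of product shape and elements mapping an
isotropic line to a line.
-/

set_option autoImplicit false
set_option linter.unusedSectionVars false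

open scoped Kronecker

namespace Cfsg.Agent.Classical.TensorPowForm

open Matrix Module MaxTv TensorMax TensorPow Overfield
open Cfsg.Agent.Classical.TensorHerm (isoSL Pre Scal Scal2 exists_hyp exists_eich sl)
open Cfsg.Agent.Classical.TensorRoot (kg kg_apply kg_isKron)

variable {F : Type*} [Field F] [Fintype F] {κ β : Type} [Fintype κ] [DecidableEq κ] [Fintype β] [DecidableEq β]

local notation "X" => (κ → β)
local notation "V" => ((κ → β) → F)
local notation "Mn" => Matrix (κ → β) (κ → β) F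
local notation "Mb" => Matrix β β F

/-- Proper overgroups of the stabiliser stabilise the decomposition. -/
def MaxAt (σ : F ≃+* F) (c : F) (h : (β → F) → (β → F) → F) (κ : Type) [Fintype κ] [DecidableEq κ] : Prop :=
  ∀ M : Subgroup (GL (κ → β) F), Wr F κ β ⊓ GT (κ := κ) σ c h ≤ M → M ≤ GT σ c h → ¬ GT (κ := κ) σ c h ≤ M →
    M ≤ Wr F κ β

/-- An overgroup with scalar coefficients at each factor, with the induction hypothesis. -/
structure Px (σ : F ≃+* F) (c : F) (h : (β → F) → (β → F) → F) (M : Subgroup (GL (κ → β) F)) : Prop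
    extends Cx σ c h M where
  big : 4 ≤ Fintype.card β ∨ ∃ r : F, σ r = r ∧ r ≠ 0 ∧ r ≠ 1
  scal : ∀ i, Scal h (Mi M i)
  ih : ∀ i : κ, MaxAt σ c h (Rst i)

variable {σ : F ≃+* F} {c : F} {h : (β → F) → (β → F) → F} {M : Subgroup (GL (κ → β) F)}

/-- Transvections of a unitary space. -/
theorem exists_herm_tv {ι : Type} [Fintype ι] [DecidableEq ι] {f : (ι → F) → (ι → F) → F} (hs : Herm σ f)
    {v : ι → F} {τ : F} (hv : f v v = 0) (hτ : τ + σ τ = 0) :
    ∃ B ∈ isoSL f, (τ • fn f v) ⬝ᵥ v = 0 ∧ (B : Matrix ι ι F) = 1 + vecMulVec v (τ • fn f v) := by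
  obtain ⟨B, hB, hBx⟩ := exists_eich hs (a := v) (u := 0) (l := τ) hv (hs.toSesq.zero_left _)
    (by rw [hτ, hs.toSesq.zero_left, neg_zero])
  refine ⟨B, hB, by rw [smul_dotProduct, fn_dot hs.toSesq, hv, smul_zero], tv_val fun x => ?_⟩
  rw [hBx, hs.toSesq.zero_right, zero_smul, sub_zero, smul_zero, add_zero, smul_dotProduct, fn_dot hs.toSesq,
    smul_eq_mul]

theorem herm_tv_ne {ι : Type} [Fintype ι] [DecidableEq ι] {f : (ι → F) → (ι → F) → F} (hs : Herm σ f)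
    {v : ι → F} {τ : F} (hv : v ≠ 0) (hτ : τ ≠ 0) : τ • fn f v ≠ 0 := by
  refine smul_ne_zero hτ fun e => hv (hs.eq_zero v fun x => ?_)
  rw [← fn_dot hs.toSesq, e, zero_dotProduct]

/-- A transvection at a factor conjugated to one at a factor: a line to a line. -/
theorem line_of_tv_conj {g : GL X F} {i j : κ} {v φ : β → F} {A : GL β F} (hv : v ≠ 0) (hφ : φ ≠ 0)
    (hA : (A : Mb) = 1 + vecMulVec v φ) (hz : IsTv j (g * pe i A * g⁻¹)) :
    ∃ w : β → F, w ≠ 0 ∧ (line i v).map (Matrix.toLin' (g : Mn)) = line j w := by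
  obtain ⟨w, ψ, B, hw, hψ, -, hB, hz⟩ := hz
  refine ⟨w, hw, map_line_eq_of_le (i := i) (j := j) hv hw ?_⟩
  rw [← pe_tv_range hφ hA, ← pe_tv_range hψ hB, ← hz]
  rintro _ ⟨_, ⟨s, rfl⟩, rfl⟩
  refine ⟨(g : Mn) *ᵥ s, ?_⟩
  simp only [Matrix.toLin'_apply, Units.val_mul, Matrix.sub_mulVec, Matrix.one_mulVec, ← Matrix.mulVec_mulVec,
    inv_mulVec_cancel, Matrix.mulVec_sub]

/-- All root elements at an isotropic vector conjugated into the stabiliser: a line to a line. -/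
theorem line_of_roots (hh : Herm σ h) (hb : 3 ≤ Fintype.card β) (ht : 2 ≤ Fintype.card κ)
    (hbig : 4 ≤ Fintype.card β ∨ ∃ r : F, σ r = r ∧ r ≠ 0 ∧ r ≠ 1) {g : GL X F} {i : κ} {v : β → F}
    (hv : h v v = 0) (hv0 : v ≠ 0)
    (hall : ∀ (τ : F) (A : GL β F), τ ≠ 0 → τ + σ τ = 0 → A ∈ isoSL h →
      (A : Mb) = 1 + vecMulVec v (τ • fn h v) → g * pe i A * g⁻¹ ∈ Wr F κ β) :
    ∃ (j : κ) (w : β → F), w ≠ 0 ∧ (line i v).map (Matrix.toLin' (g : Mn)) = line j w := by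
  classical
  have him : ∀ (τ : F) (A : GL β F), τ ≠ 0 → τ + σ τ = 0 → A ∈ isoSL h → (τ • fn h v) ⬝ᵥ v = 0 →
      (A : Mb) = 1 + vecMulVec v (τ • fn h v) → g * pe i A * g⁻¹ ∈ Wr F κ β ∧
        (((g * pe i A * g⁻¹ : GL X F) : Mn) - 1) * (((g * pe i A * g⁻¹ : GL X F) : Mn) - 1) = 0 ∧
        (((g * pe i A * g⁻¹ : GL X F) : Mn) - 1).rank = Fintype.card β ^ (Fintype.card κ - 1) :=
    fun τ A hτ hτs hA hφ hAm => by
      obtain ⟨hq, hr⟩ := isTv_quad (κ := κ) (i := i) ⟨v, _, A, hv0, herm_tv_ne hh hv0 hτ, hφ, hAm, rfl⟩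
      exact ⟨hall τ A hτ hτs hA hAm, (quad_conj g _).1 hq, (quad_conj g _).2.trans hr⟩
  obtain ⟨τ, hτ, hτs⟩ := hh.exists_skew
  obtain ⟨A, hA, hφ, hAm⟩ := exists_herm_tv hh hv hτs
  obtain ⟨h1, h2, h3⟩ := him τ A hτ hτs hA hφ hAm
  rcases classify hb ht h1 h2 h3 with ⟨j, hj⟩ | ⟨h20, hm, -⟩
  · exact ⟨j, line_of_tv_conj hv0 (herm_tv_ne hh hv0 hτ) hAm hj⟩
  obtain ⟨r, hr, hr0, hr1⟩ := hbig.resolve_left (by omega)
  have hτ' : r * τ + σ (r * τ) = 0 := by rw [map_mul, hr, ← mul_add, hτs, mul_zero]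
  have hτ'' : (1 + r) * τ + σ ((1 + r) * τ) = 0 := by rw [map_mul, map_add, map_one, hr, ← mul_add, hτs, mul_zero]
  have hr1' : 1 + r ≠ 0 := fun e => hr1 (by linear_combination e - h20)
  obtain ⟨A', hA', hφ', hAm'⟩ := exists_herm_tv hh hv hτ'
  obtain ⟨A'', hA'', hφ'', hAm''⟩ := exists_herm_tv hh hv hτ''
  have hprod : A * A' = A'' := Units.ext (by
    rw [Units.val_mul, hAm, hAm', hAm'', add_mul, mul_add, mul_add, vmv_mul, hφ, zero_smul, add_zero, one_mul,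
      one_mul, mul_one, add_mul, one_mul, add_smul, Matrix.vecMulVec_add]
    abel)
  have h12 : g * pe i A * g⁻¹ * (g * pe i A' * g⁻¹) = g * pe i A'' * g⁻¹ := by
    rw [← hprod, map_mul]; group
  obtain ⟨z, hz, j, hj⟩ := exists_tv_of_three hb ht (z₁ := g * pe i A * g⁻¹) (z₂ := g * pe i A' * g⁻¹) (by
    intro z hz
    simp only [Set.mem_insert_iff, Set.mem_singleton_iff] at hz
    rcases hz with rfl | rfl | rfl
    · exact him τ A hτ hτs hA hφ hAm
    · exact him _ A' (mul_ne_zero hr0 hτ) hτ' hA' hφ' hAm'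
    · rw [h12]; exact him _ A'' (mul_ne_zero hr1' hτ) hτ'' hA'' hφ'' hAm'')
  simp only [Set.mem_insert_iff, Set.mem_singleton_iff] at hz
  rcases hz with rfl | rfl | rfl
  · exact ⟨j, line_of_tv_conj hv0 (herm_tv_ne hh hv0 hτ) hAm hj⟩
  · exact ⟨j, line_of_tv_conj hv0 (herm_tv_ne hh hv0 (mul_ne_zero hr0 hτ)) hAm' hj⟩
  · exact ⟨j, line_of_tv_conj hv0 (herm_tv_ne hh hv0 (mul_ne_zero hr1' hτ)) hAm'' (h12 ▸ hj)⟩

/-- An element of product shape at a factor has a similitude on the other factors. -/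
theorem TData.exists_simil (hT : TData σ c h) (hb : 2 ≤ Fintype.card β) {i : κ} {g : GL X F}
    (hg : g ∈ GT σ c h) {A : GL (Rst i → β) F} {B : GL β F} (hAB : sp i g = k2 A B) :
    ∃ μ : F, ∀ x x', tf σ c h ((A : Matrix (Rst i → β) (Rst i → β) F) *ᵥ x)
      ((A : Matrix (Rst i → β) (Rst i → β) F) *ᵥ x') = μ * tf σ c h x x' := by
  obtain ⟨y, y', -, -, hyy'⟩ := exists_hyp hT.hh hb
  refine ⟨(h ((B : Mb) *ᵥ y') ((B : Mb) *ᵥ y))⁻¹, fun x x' => ?_⟩
  have h1 := ((hT.tfs_sp i).2 hg).1 (tmul x y') (tmul x' y)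
  rw [hAB, k2_mulVec, k2_mulVec, hT.tfs_tmul, hT.tfs_tmul, hyy', mul_one] at h1
  rcases eq_or_ne (h ((B : Mb) *ᵥ y') ((B : Mb) *ᵥ y)) 0 with e | e
  · rw [e, mul_zero] at h1
    rw [← h1, mul_zero]
    by_contra hne
    obtain ⟨u, u', -, -, huu'⟩ := exists_hyp hT.hh hb
    have h2 := ((hT.tfs_sp i).2 hg).1 (tmul (ptens fun _ : Rst i => u') y') (tmul (ptens fun _ : Rst i => u) y)
    rw [hAB, k2_mulVec, k2_mulVec, hT.tfs_tmul, hT.tfs_tmul, hyy', mul_one, e, mul_zero, hT.tf_ptens] at h2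
    exact mul_ne_zero hT.hc (Finset.prod_ne_zero_iff.2 fun l _ => by rw [huu']; exact one_ne_zero) h2.symm
  · rw [← h1]
    field_simp

/-- Conjugating isometries by a similitude. -/
theorem conj_isoSL {ι : Type} [Fintype ι] [DecidableEq ι] {f : (ι → F) → (ι → F) → F} {A T : GL ι F} {μ : F}
    (hA : ∀ x x', f ((A : Matrix ι ι F) *ᵥ x) ((A : Matrix ι ι F) *ᵥ x') = μ * f x x') (hT : T ∈ isoSL f) :
    A * T * A⁻¹ ∈ isoSL f := by
  refine ⟨fun x x' => ?_, (MonoidHom.normal_ker _).conj_mem T hT.2 A⟩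
  obtain ⟨y, rfl⟩ : ∃ y, (A : Matrix ι ι F) *ᵥ y = x := ⟨_, mulVec_inv_cancel _ x⟩
  obtain ⟨y', rfl⟩ : ∃ y, (A : Matrix ι ι F) *ᵥ y = x' := ⟨_, mulVec_inv_cancel _ x'⟩
  simp only [Units.val_mul, ← Matrix.mulVec_mulVec, inv_mulVec_cancel, hA, hT.1]

theorem TData.mem_GT_of_sp (hT : TData σ c h) {i : κ} {g : GL X F} {T : GL (Rst i → β) F}
    (hg : sp i g = k2 T 1) (hTT : T ∈ GT (κ := Rst i) σ c h) : g ∈ GT σ c h := by
  rw [← hT.tfs_sp i, hg, k2_eq_kg]
  refine ⟨TensorHerm.iso_kg (hT.herm_tfs i) (hT.tfs_tmul i) (one_mul 1) (fun x x' => by rw [hTT.1, one_mul])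
    (fun y y' => by simp), ?_⟩
  rw [← k2_eq_kg, TensorPow.mem_sl_iff, k2_det, (TensorPow.mem_sl_iff T).1 hTT.2, one_pow, one_mul, Units.val_one,
    Matrix.det_one, one_pow]

namespace Px

variable (hM : Px σ c h M)
include hM

theorem scal2' (i : κ) : Scal2 h (tfs σ c h i) (Mi M i) := by
  rcases hM.big with h4 | ⟨r, hr, hr0, hr1⟩
  · exact hM.scal2 h4 (hM.scal i)
  · exact scal2_of_fixed (hM.pre i) hr hr0 hr1 (hM.scal i)

/-- The other factors give a proper overgroup of their stabiliser. -/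
theorem not_all_rest {i : κ} (h3 : 3 ≤ Fintype.card κ) :
    ∃ T ∈ GT (κ := Rst i) σ c h, k2 T (1 : GL β F) ∉ Mi M i := by
  classical
  have hh := hM.data.hh
  have hb := hM.hb
  obtain ⟨j, hj⟩ : ∃ j, j ≠ i := Fintype.exists_ne_of_one_lt_card (by omega) i
  have hR2 : 2 ≤ Fintype.card (Rst i) := by
    rw [Fintype.card_subtype_compl, Fintype.card_subtype_eq]
    omega
  obtain ⟨z, u, hzz, -, huz⟩ := exists_hyp hh (by omega)
  have hz0 : z ≠ 0 := fun e => one_ne_zero (by rw [← huz, e, hh.toSesq.zero_right])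
  obtain ⟨τ, hτ, hτs⟩ := hh.exists_skew
  set a : (Rst i → β) → F := ptens fun _ => z with ha
  have haa : tf σ c h a a = 0 := by
    rw [ha, hM.data.tf_ptens, Finset.prod_eq_zero (Finset.mem_univ (⟨j, hj⟩ : Rst i)) hzz, mul_zero]
  obtain ⟨T, hT, -, hTm⟩ := exists_herm_tv (hM.data.herm (κ := Rst i)) haa hτs
  refine ⟨T, hT, fun hin => ?_⟩
  obtain ⟨g', hg'⟩ : ∃ g', sp i g' = k2 T 1 := ⟨(sp i).symm (k2 T 1), MulEquiv.apply_symm_apply _ _⟩
  rw [← hg'] at hin
  have hN2 : iN h z * iN h z = 0 := by rw [iN, vmv_mul, fn_dot hh.toSesq, hzz, zero_smul]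
  have hNn : iN h z ≠ 0 := iN_ne_zero hh hz0
  have hvec : vecMulVec a (τ • fn (tf σ c h) a) = (τ * c) • wm (1 : Equiv.Perm (Rst i)) (fun _ => iN h z) := by
    refine Matrix.toLin'.injective (ext_ptens fun xs => ?_)
    rw [Matrix.toLin'_apply, Matrix.toLin'_apply, Matrix.smul_mulVec, wm_mulVec, Matrix.vecMulVec_mulVec,
      op_smul_eq_smul, smul_dotProduct, fn_dot (hM.data.herm (κ := Rst i)).toSesq, ha, hM.data.tf_ptens]
    funext b
    simp only [Pi.smul_apply, smul_eq_mul, ptens, iN, Matrix.vecMulVec_mulVec, op_smul_eq_smul, fn_dot hh.toSesq,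
      Equiv.Perm.coe_one, id_eq, Finset.prod_mul_distrib]
    ring
  let gs : κ → Mb := fun l => if l = i then 1 else iN h z
  have hg'v : (g' : Mn) = 1 + (τ * c) • wm 1 gs := by
    apply (Matrix.reindex (spE i) (spE i)).injective
    rw [← sp_val, hg', k2_val, hTm, hvec, Matrix.add_kronecker, Units.val_one, Matrix.one_kronecker_one,
      Matrix.smul_kronecker, show Matrix.reindex (spE i) (spE i) ((1 : Mn) + (τ * c) • wm 1 gs) =
        1 + (τ * c) • Matrix.reindex (spE i) (spE i) (wm 1 gs) by ext a b; simp [Matrix.one_apply], tmul_mulVec_wm]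
    simp only [gs, if_pos]
    congr 3
    exact wm_congr rfl fun l => (if_neg l.2).symm
  set gs' : Rst j → Mb := fun l => gs l.1
  obtain ⟨μ, hμ⟩ := hM.scal j z hzz hz0 ((τ * c) • Matrix.toLin' (wm 1 gs')) ⟨sp j g', mem_Mi.2 (mem_Mi.1 hin),
    fun t => by
      have e : (sp j g' : Matrix _ _ F) = 1 + (τ * c) • (wm 1 gs' ⊗ₖ iN h z) := by
        rw [sp_val, hg'v, show Matrix.reindex (spE j) (spE j) ((1 : Mn) + (τ * c) • wm 1 gs) =
          1 + (τ * c) • Matrix.reindex (spE j) (spE j) (wm 1 gs) by ext a b; simp [Matrix.one_apply], tmul_mulVec_wm]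
        simp only [gs, gs', if_neg hj]
      rw [e, Matrix.add_mulVec, Matrix.one_mulVec]
      congr 1
      rw [← Matrix.toLin'_apply]
      refine LinearMap.congr_fun (f := Matrix.toLin' ((τ * c) • (wm 1 gs' ⊗ₖ iN h z)))
        (g := rootMap z (fn h z) ((τ * c) • Matrix.toLin' (wm 1 gs'))) (ext_tmul fun x y => ?_) t
      rw [Matrix.toLin'_apply, Matrix.smul_mulVec, kronecker_mulVec, rootMap_apply, slice_tmul, map_smul,
        LinearMap.smul_apply, Matrix.toLin'_apply, iN, Matrix.vecMulVec_mulVec, op_smul_eq_smul, tmul_smul_right,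
        tmul_smul_left, tmul_smul_left, smul_comm]⟩
  obtain ⟨k, hk⟩ : ∃ k : Rst i, k ≠ ⟨j, hj⟩ := Fintype.exists_ne_of_one_lt_card (by omega) _
  have hkj : k.1 ≠ j := fun e => hk (Subtype.ext e)
  have hsq : wm (1 : Equiv.Perm (Rst j)) gs' * wm 1 gs' = 0 := by
    rw [wm1_mul]
    ext x y
    rw [wm, Matrix.of_apply, Finset.prod_eq_zero (Finset.mem_univ (⟨k.1, hkj⟩ : Rst j))]
    · rfl
    · simp only [Pi.mul_apply, gs', gs, if_neg k.2, hN2]
      rfl
  have hne : wm (1 : Equiv.Perm (Rst j)) gs' ≠ 0 := wm_eq_zero_iff _ fun l => by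
    simp only [gs', gs]
    split_ifs
    · haveI : Nonempty β := Fintype.card_pos_iff.1 (by omega)
      exact one_ne_zero
    · exact hNn
  have hτc : τ * c ≠ 0 := mul_ne_zero hτ hM.data.hc
  have hM' : wm (1 : Equiv.Perm (Rst j)) gs' = (μ / (τ * c)) • 1 := by
    refine Matrix.toLin'.injective (LinearMap.ext fun x => ?_)
    have h1 := hμ x
    rw [LinearMap.smul_apply] at h1
    rw [map_smul, Matrix.toLin'_one, LinearMap.smul_apply, LinearMap.id_apply, div_eq_inv_mul, mul_smul, ← h1,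
      smul_smul, inv_mul_cancel₀ hτc, one_smul]
  rw [hM', Matrix.smul_mul, one_mul, smul_smul, smul_eq_zero] at hsq
  haveI : Nonempty β := Fintype.card_pos_iff.1 (by omega)
  have hc0 : μ / (τ * c) = 0 := mul_self_eq_zero.1 (hsq.resolve_right one_ne_zero)
  exact hne (by rw [hM', hc0, zero_smul])

/-- The elements of product shape at a factor. -/
theorem kron_mem {i : κ} {g : GL X F} (hg : g ∈ M) {A : GL (Rst i → β) F} {B : GL β F}
    (hAB : sp i g = k2 A B) : g ∈ Wr F κ β := by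
  classical
  have hb := hM.hb
  have hh := hM.data.hh
  by_cases h3 : Fintype.card κ ≤ 2
  · exact kron_mem_Wr_two h3 hAB
  have hR2 : 2 ≤ Fintype.card (Rst i) := by
    rw [Fintype.card_subtype_compl, Fintype.card_subtype_eq]
    omega
  haveI : Nonempty (Rst i) := Fintype.card_pos_iff.1 (by omega)
  let emb : GL (Rst i → β) F →* GL ((Rst i → β) × β) F :=
    { toFun := fun A => k2 A 1
      map_one' := k2_one
      map_mul' := fun A A' => by rw [k2_mul, one_mul] }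
  obtain ⟨T, hT, hTn⟩ := hM.not_all_rest (i := i) (by omega)
  have hQle : (Mi M i).comap emb ⊓ GT (κ := Rst i) σ c h ≤ Wr F (Rst i) β := by
    refine hM.ih i _ ?_ inf_le_right fun hall => hTn (hall hT).1
    rintro A' ⟨hA', hd⟩
    refine ⟨?_, hd⟩
    obtain ⟨g', hg'⟩ : ∃ g', sp i g' = k2 A' 1 := ⟨(sp i).symm (k2 A' 1), MulEquiv.apply_symm_apply _ _⟩
    show k2 A' 1 ∈ Mi M i
    rw [← hg']
    exact mem_Mi.2 (hM.mem ⟨mem_Wr_of_sp hg' hA', hM.data.mem_GT_of_sp hg' hd⟩)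
  obtain ⟨μ, hμ⟩ := hM.data.exists_simil (by omega) (hM.le hg) hAB
  refine mem_Wr_of_sp hAB (mem_Wr_of_iso_lines hh hb fun j v hv hv0 => ?_)
  refine line_of_roots hh hb hR2 hM.big hv hv0 fun _ B' _ _ hB' _ => hQle ⟨?_, ?_⟩
  · show k2 (A * pe j B' * A⁻¹) 1 ∈ Mi M i
    have e : k2 (A * pe j B' * A⁻¹) (1 : GL β F) = sp i g * kg (pe j B') 1 * (sp i g)⁻¹ := by
      rw [hAB, ← k2_eq_kg, eq_mul_inv_iff_mul_eq, k2_mul, k2_mul, inv_mul_cancel_right, one_mul, mul_one]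
    rw [e]
    exact mul_mem (mul_mem (mem_Mi.2 hg) (hM.kgA_mem hB')) (inv_mem (mem_Mi.2 hg))
  · exact conj_isoSL hμ (hM.data.pe_mem_GT j hB'.1 (by rw [det_of_isoSL hB', one_pow]))

theorem kron_mem' {i : κ} {g : GL X F} (hg : g ∈ M) (hk : IsKron (sp i g)) : g ∈ Wr F κ β := by
  obtain ⟨A, B, hAB⟩ := isKron_iff.1 hk
  exact hM.kron_mem hg hAB

/-- Stabilisers of the lines of isotropic vectors. -/
theorem keep_mem {j : κ} {w : β → F} (hw : h w w = 0) (hw0 : w ≠ 0) {f : GL X F} (hf : f ∈ M)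
    (hline : (line j w).map (Matrix.toLin' (f : Mn)) ≤ line j w) : f ∈ Wr F κ β := by
  refine hM.kron_mem' hf ((hM.pre j).stab_kron (hM.scal2' j) (mem_Mi.2 hf) hw hw0 fun x => ?_)
  obtain ⟨r, hr⟩ := mem_line_iff.1 (hline (Submodule.mem_map_of_mem
    (mem_line_iff.2 ⟨x, LinearEquiv.apply_symm_apply (spV j) (tmul x w)⟩)))
  refine ⟨r, ?_⟩
  rw [← LinearEquiv.apply_symm_apply (spV j) (tmul x w), sp_mulVec, ← hr]
  rfl

/-- An isotropic line mapped to a line: in the stabiliser. -/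
theorem line_to_line {g : GL X F} (hg : g ∈ M) {i j : κ} {v w : β → F} (hv : h v v = 0) (hv0 : v ≠ 0)
    (hw0 : w ≠ 0) (hgv : (line i v).map (Matrix.toLin' (g : Mn)) = line j w) : g ∈ Wr F κ β := by
  classical
  have hh := hM.data.hh
  have hb := hM.hb
  haveI : Nonempty κ := ⟨i⟩
  -- the image is totally singular
  have hwiso : ∀ {i' j' : κ} {v' w' : β → F}, h v' v' = 0 →
      (line i' v').map (Matrix.toLin' (g : Mn)) = line j' w' → h w' w' = 0 := by
    intro i' j' v' w' hv' hm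
    obtain ⟨r, r', -, -, hrr'⟩ := exists_hyp (hM.data.herm (κ := Rst j'))
      (TData.card_rst_two (by omega) hM.ht)
    have hmem : ∀ s, ∃ x, (g : Mn) *ᵥ (spV i').symm (tmul x v') = (spV j').symm (tmul s w') := fun s => by
      obtain ⟨t, ht, hte⟩ : (spV j').symm (tmul s w') ∈ (line i' v').map (Matrix.toLin' (g : Mn)) := by
        rw [hm]; exact mem_line_iff.2 ⟨s, LinearEquiv.apply_symm_apply _ _⟩
      obtain ⟨x, hx⟩ := mem_line_iff.1 ht
      exact ⟨x, by rw [← hx, LinearEquiv.symm_apply_apply, ← Matrix.toLin'_apply]; exact hte⟩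
    obtain ⟨x, hx⟩ := hmem r
    obtain ⟨x', hx'⟩ := hmem r'
    have h1 := (hM.le hg).1 ((spV i').symm (tmul x' v')) ((spV i').symm (tmul x v'))
    rw [hx, hx'] at h1
    have h2 : tfs σ c h j' (tmul r' w') (tmul r w') = tfs σ c h i' (tmul x' v') (tmul x v') := h1
    rwa [hM.data.tfs_tmul, hM.data.tfs_tmul, hv', mul_zero, hrr', one_mul] at h2
  have step : ∀ (i' j' l : κ) (v' w' u : β → F), h v' v' = 0 → v' ≠ 0 → w' ≠ 0 →
      (line i' v').map (Matrix.toLin' (g : Mn)) = line j' w' → l ≠ i' → h u u = 0 → u ≠ 0 →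
      ∃ (m : κ) (z : β → F), z ≠ 0 ∧ (line l u).map (Matrix.toLin' (g : Mn)) = line m z := by
    intro i' j' l v' w' u hv' hv'0 hw'0 hm hli hu hu0
    refine line_of_roots hh hb hM.ht hM.big hu hu0 fun _ B _ _ hB _ => ?_
    have hfM : g * pe l B * g⁻¹ ∈ M := mul_mem (mul_mem hg (hM.pe_mem l hB)) (inv_mem hg)
    refine hM.keep_mem (j := j') (hwiso hv' hm) hw'0 hfM (le_of_eq ?_)
    rw [← hm, map_mul_line, map_mul_line, ← map_mul_line g⁻¹ g, inv_mul_cancel, Units.val_one, Matrix.toLin'_one,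
      Submodule.map_id, map_line_of_kron (sp_pe_ne hli B) hv'0, Units.val_one, Matrix.one_mulVec]
  obtain ⟨l₀, hl₀⟩ := Fintype.exists_ne_of_one_lt_card (show 1 < Fintype.card κ by have := hM.ht; omega) i
  refine mem_Wr_of_iso_lines hh hb fun l u hu hu0 => ?_
  rcases eq_or_ne l i with rfl | hli
  · obtain ⟨m, z, hz0, hm⟩ := step l j l₀ v w v hv hv0 hw0 hgv hl₀ hv hv0
    exact step l₀ m l v z u hv hv0 hz0 hm (Ne.symm hl₀) hu hu0
  · exact step i j l v w u hv hv0 hw0 hgv hli hu hu0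

end Px

end Cfsg.Agent.Classical.TensorPowForm
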