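import Cfsg.Agent.Lib.Classical.MaxTensorHermThreeOps
import Cfsg.Agent.Lib.Classical.TensorPowForm.Even

/-!
Characteristic two, a second factor of dimension three and a fixed element other than zero and one: an overgroup with
scalar root coefficients lies in any target for the fusion of root elements.

An involution outside the target with the largest kernel of its coefficient at a singular vector fixes that kernel
pointwise; the dihedral group of two conjugates of a root element then forces a quadratic equation on the coefficient,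
and a word in the two root groups has scalar middle part.
-/

set_option autoImplicit false
set_option linter.unusedSectionVars false

namespace Cfsg.Agent.Classical.TensorPowForm

open Matrix Module MaxTv TensorMax
open Cfsg.Agent.Classical.TensorHerm (Pre Scal2 Tgt Frame co co_apply frame_dec exists_hyp exists_value_perp sl)

variable {F : Type*} [Field F] [Fintype F] {α β : Type} [Fintype α] [DecidableEq α] [Fintype β] [DecidableEq β]

local notation "V" => (α × β → F)
local notation "Mn" => Matrix (α × β) (α × β) F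
local notation "Mb" => Matrix β β F

/-- The sum of a tensor at `z` and an image of one. -/
def vec (z : β → F) (g : GL (α × β) F) (p q : α → F) : α × β → F :=
  tmul p z + (g : Mn) *ᵥ tmul q z

/-- Displacements in the sum of the line at `z` and its image. -/
def Disp (z : β → F) (g k : GL (α × β) F) : Prop :=
  ∀ t, ∃ p q : α → F, (k : Mn) *ᵥ t - t = vec z g p q

theorem vec_add (z : β → F) (g : GL (α × β) F) (p q p' q' : α → F) :
    vec z g (p + p') (q + q') = vec z g p q + vec z g p' q' := by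
  simp only [vec, tmul_add_left, Matrix.mulVec_add]
  abel

theorem vec_smul (z : β → F) (g : GL (α × β) F) (r : F) (p q : α → F) :
    vec z g (r • p) (r • q) = r • vec z g p q := by
  simp only [vec, tmul_smul_left, Matrix.mulVec_smul, smul_add]

theorem Disp.one {z : β → F} {g : GL (α × β) F} : Disp z g 1 := fun t => ⟨0, 0, by simp [vec, tmul_zero_left]⟩

theorem Disp.mul {z : β → F} {g k k' : GL (α × β) F} (h : Disp z g k) (h' : Disp z g k') : Disp z g (k * k') := by
  intro t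
  obtain ⟨p, q, hpq⟩ := h ((k' : Mn) *ᵥ t)
  obtain ⟨p', q', hpq'⟩ := h' t
  refine ⟨p + p', q + q', ?_⟩
  rw [vec_add, ← hpq, ← hpq', Units.val_mul, ← Matrix.mulVec_mulVec]
  abel

theorem Disp.pow {z : β → F} {g k : GL (α × β) F} (h : Disp z g k) (n : ℕ) : Disp z g (k ^ n) := by
  induction n with
  | zero => rw [pow_zero]; exact Disp.one
  | succ n ih => rw [pow_succ]; exact ih.mul h

variable {σ : F ≃+* F} {fA : (α → F) → (α → F) → F} {fB : (β → F) → (β → F) → F}
  {f : (α × β → F) → (α × β → F) → F} {M : Subgroup (GL (α × β) F)}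

variable (hO : Pre σ fA fB f M)
include hO

/-- A root element, and its conjugate by an involution, on the sum. -/
theorem step_root {z : β → F} (hz : fB z z = 0) {g X : GL (α × β) F} {s : F}
    (hX : ∀ t, (X : Mn) *ᵥ t = t + s • tmul (sl fB z t) z) (p q : α → F) :
    (X : Mn) *ᵥ vec z g p q = vec z g (p + s • co fB z g q) q := by
  rw [hX, vec, vec, map_add, hO.sl_tmul, hz, zero_smul, zero_add, ← co_apply, tmul_add_left, tmul_smul_left]
  abel

theorem step_conj {z : β → F} (hz : fB z z = 0) {g X : GL (α × β) F} (hgg : g * g = 1) {s : F}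
    (hX : ∀ t, (X : Mn) *ᵥ t = t + s • tmul (sl fB z t) z) (p q : α → F) :
    ((g * X * g : GL (α × β) F) : Mn) *ᵥ vec z g p q = vec z g p (q + s • co fB z g p) := by
  have hg2 : ∀ t, (g : Mn) *ᵥ ((g : Mn) *ᵥ t) = t := fun t => by
    rw [Matrix.mulVec_mulVec, ← Units.val_mul, hgg, Units.val_one, Matrix.one_mulVec]
  rw [Units.val_mul, Units.val_mul, ← Matrix.mulVec_mulVec, ← Matrix.mulVec_mulVec,
    show (g : Mn) *ᵥ vec z g p q = vec z g q p by rw [vec, vec, Matrix.mulVec_add, hg2, add_comm],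
    step_root hO hz hX, vec, vec, Matrix.mulVec_add, hg2, add_comm]

omit hO in
theorem disp_root {z : β → F} {g X : GL (α × β) F} {s : F}
    (hX : ∀ t, (X : Mn) *ᵥ t = t + s • tmul (sl fB z t) z) : Disp z g X := fun t =>
  ⟨s • sl fB z t, 0, by rw [hX, add_sub_cancel_left, vec, tmul_zero_left, Matrix.mulVec_zero, add_zero,
    tmul_smul_left]⟩

omit hO in
theorem disp_conj {z : β → F} {g X : GL (α × β) F} (hgg : g * g = 1) {s : F}
    (hX : ∀ t, (X : Mn) *ᵥ t = t + s • tmul (sl fB z t) z) : Disp z g (g * X * g) := fun t =>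
  ⟨0, s • sl fB z ((g : Mn) *ᵥ t), by
    rw [Units.val_mul, Units.val_mul, ← Matrix.mulVec_mulVec, ← Matrix.mulVec_mulVec, hX, Matrix.mulVec_add,
      Matrix.mulVec_mulVec, ← Units.val_mul, hgg, Units.val_one, Matrix.one_mulVec, add_sub_cancel_left, vec,
      tmul_zero_left, zero_add, tmul_smul_left]⟩

/-- The coefficient of an involution is self-adjoint. -/
theorem co_symm {g : GL (α × β) F} (hg : g ∈ M) (hgg : g * g = 1) (z : β → F) (x y : α → F) :
    fA (co fB z g x) y = fA x (co fB z g y) := by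
  rw [co_apply, co_apply, ← hO.f_sl, hO.hA.herm x, ← hO.f_sl, ← hO.hV.herm]
  conv_lhs => rw [← hO.iso hg, Matrix.mulVec_mulVec, ← Units.val_mul, hgg, Units.val_one, Matrix.one_mulVec]

/-- A displaced element stabilising the line at `z` acts on the second factor. -/
theorem disp_scalar (hS : Scal2 fB f M) (hβ : Fintype.card β = 3) {z u g₁ : β → F} (hF : Frame fB z u g₁)
    (hz0 : z ≠ 0) {g k : GL (α × β) F} (hnice : ∀ q, co fB z g q = 0 → (g : Mn) *ᵥ tmul q z = tmul q z)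
    (hk : k ∈ M) (hd : Disp z g k) (hline : ∀ x, ∃ x', (k : Mn) *ᵥ tmul x z = tmul x' z) :
    ∃ (B : (β → F) →ₗ[F] (β → F)) (θ ν : F), (∀ x y, (k : Mn) *ᵥ tmul x y = tmul x (B y)) ∧ B z = θ • z ∧
      B g₁ = ν • z + g₁ ∧ θ ≠ 0 := by
  have hs := hO.hB
  obtain ⟨A, B, hAB⟩ := hO.stab_kron hS hk hF.zz hz0 hline
  have hap : ∀ x y, (k : Mn) *ᵥ tmul x y = tmul ((A : Matrix α α F) *ᵥ x) ((B : Mb) *ᵥ y) := fun x y => by
    rw [hAB, kronecker_mulVec]
  obtain ⟨i⟩ : Nonempty α := Fintype.card_pos_iff.1 (by have := hO.ha; omega)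
  obtain ⟨a₁, a₂, -, -, h12⟩ := exists_hyp hO.hA hO.ha
  have ha₁ : a₁ ≠ 0 := fun e => one_ne_zero (by rw [← h12, e, hO.hA.toSesq.zero_right])
  obtain ⟨x₁, hx₁⟩ : ∃ x, (A : Matrix α α F) *ᵥ x = a₁ := ⟨_, mulVec_inv_cancel A a₁⟩
  obtain ⟨x₂, hx₂⟩ : ∃ x, (A : Matrix α α F) *ᵥ x = a₂ := ⟨_, mulVec_inv_cancel A a₂⟩
  obtain ⟨ξ, hξ⟩ := exists_dual ha₁
  obtain ⟨θ₀, hθ₀⟩ : ∃ θ, (B : Mb) *ᵥ z = θ • z := by
    obtain ⟨x', hx'⟩ := hline x₁
    have h := congrArg (lslice ξ) ((hap x₁ z).symm.trans hx')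
    rw [lslice_tmul, lslice_tmul, hx₁, hξ, one_smul] at h
    exact ⟨_, h⟩
  have hθ₀0 : θ₀ ≠ 0 := fun e => TensorPow.gl_mulVec_ne_zero B hz0 (by rw [hθ₀, e, zero_smul])
  have hBg : fB ((B : Mb) *ᵥ g₁) z = 0 := by
    have h := hO.iso hk (tmul x₂ g₁) (tmul x₁ z)
    rw [hap, hap, hx₁, hx₂, hθ₀, hO.ten, hO.ten, h12, one_mul, hs.smul_right, hF.gz, mul_zero, mul_eq_zero] at h
    exact h.resolve_left ((map_ne_zero σ).2 hθ₀0)
  obtain ⟨ε, hε⟩ : ∃ ε, ε = fB ((B : Mb) *ᵥ g₁) g₁ := ⟨_, rfl⟩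
  have hA : ∀ x, ε • ((A : Matrix α α F) *ᵥ x) = x := fun x => by
    obtain ⟨p, q, hpq⟩ := hd (tmul x g₁)
    have hzg : fB z g₁ = 0 := hs.refl _ _ hF.gz
    have e1 := congrArg (sl fB z) hpq
    rw [vec, map_sub, map_add, hap, hO.sl_tmul, hO.sl_tmul, hO.sl_tmul, hBg, hF.gz, hF.zz, zero_smul, zero_smul,
      zero_smul, sub_zero, zero_add, ← co_apply] at e1
    have e2 := congrArg (sl fB g₁) hpq
    rw [vec, hnice q e1.symm, map_sub, map_add, hap, hO.sl_tmul, hO.sl_tmul, hO.sl_tmul, hO.sl_tmul, hzg, hF.gg,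
      ← hε, one_smul, zero_smul, zero_smul, add_zero, sub_eq_zero] at e2
    exact e2
  have hε0 : ε ≠ 0 := fun e => ha₁ (by rw [← hA a₁, e, zero_smul])
  refine ⟨ε⁻¹ • Matrix.toLin' (B : Mb), ε⁻¹ * θ₀, ε⁻¹ * fB ((B : Mb) *ᵥ g₁) u, fun x y => ?_, ?_, ?_,
    mul_ne_zero (inv_ne_zero hε0) hθ₀0⟩
  · conv_rhs => rw [← hA x]
    rw [hap, LinearMap.smul_apply, Matrix.toLin'_apply, tmul_smul_left, tmul_smul_right, smul_smul,
      mul_inv_cancel₀ hε0, one_smul]
  · rw [LinearMap.smul_apply, Matrix.toLin'_apply, hθ₀, smul_smul]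
  · rw [LinearMap.smul_apply, Matrix.toLin'_apply]
    conv_lhs => rw [frame_dec hs hβ hF.zz hF.uu hF.uz hF.gz hF.gu hF.gg ((B : Mb) *ᵥ g₁), hBg, ← hε, zero_smul,
      add_zero, smul_add, smul_smul, smul_smul, inv_mul_cancel₀ hε0, one_smul]

variable {L : Subgroup (GL (α × β) F)}

/-- A displaced element commuting with the root element, on the sum. -/
theorem disp_cent (hS : Scal2 fB f M) (hL : Tgt fB M L) (h2 : (2 : F) = 0) (hβ : Fintype.card β = 3)
    {z u g₁ : β → F} (hF : Frame fB z u g₁) (hz0 : z ≠ 0) {g k X : GL (α × β) F} (hg : g ∈ M) (hgL : g ∉ L)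
    (hnice : ∀ q, co fB z g q = 0 → (g : Mn) *ᵥ tmul q z = tmul q z) (hk : k ∈ M) (hd : Disp z g k)
    (hX : ∀ t, (X : Mn) *ᵥ t = t + tmul (sl fB z t) z) (hkX : k * X = X * k) :
    ∃ θ b : F, (∀ p q, (k : Mn) *ᵥ vec z g p q = θ • vec z g (p + b • co fB z g q) q) ∧
      (θ = 1 → ∀ t, (k : Mn) *ᵥ t = t + b • tmul (sl fB z t) z) := by
  classical
  have hs := hO.hB
  have hzu : fB z u = 1 := by rw [hs.herm, hF.uz, map_one]
  have hzg : fB z g₁ = 0 := hs.refl _ _ hF.gz
  have hug : fB u g₁ = 0 := hs.refl _ _ hF.gu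
  have hkz : ∀ x, (k : Mn) *ᵥ tmul x z = tmul (sl fB z ((k : Mn) *ᵥ tmul x u)) z := fun x => by
    have h := congrArg (fun a : GL (α × β) F => (a : Mn) *ᵥ tmul x u) hkX
    simp only [Units.val_mul, ← Matrix.mulVec_mulVec, hX, Matrix.mulVec_add, hO.sl_tmul, hF.uz, one_smul] at h
    exact add_left_cancel h
  obtain ⟨B, θ, ν, hap, hBz, hBg, hθ0⟩ := disp_scalar hO hS hβ hF hz0 hnice hk hd fun x => ⟨_, hkz x⟩
  obtain ⟨a₁, a₂, -, -, h12⟩ := exists_hyp hO.hA hO.ha
  have ha₁ : a₁ ≠ 0 := fun e => one_ne_zero (by rw [← h12, e, hO.hA.toSesq.zero_right])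
  obtain ⟨β₀, hβ₀⟩ : ∃ b, b = fB (B u) u := ⟨_, rfl⟩
  obtain ⟨γ, hγ⟩ : ∃ b, b = fB (B u) g₁ := ⟨_, rfl⟩
  have hBuz : fB (B u) z = θ := by
    have h := hkz a₁
    rw [hap, hap, hO.sl_tmul, hBz, tmul_smul_right, tmul_smul_left] at h
    exact (smul_left_injective F (tmul_ne_zero ha₁ hz0) h).symm
  have hBu : B u = β₀ • z + γ • g₁ + θ • u := by
    conv_lhs => rw [frame_dec hs hβ hF.zz hF.uu hF.uz hF.gz hF.gu hF.gg (B u), hBuz, ← hβ₀, ← hγ]
  have hγν : γ = θ * σ ν := by
    have h := hO.iso hk (tmul a₂ u) (tmul a₁ g₁)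
    rw [hap, hap, hO.ten, hO.ten, h12, one_mul, one_mul, hug, hBg, hs.add_right, hs.smul_right, hBuz, ← hγ] at h
    linear_combination h - θ * σ ν * h2
  obtain ⟨K, hK⟩ : ∃ K : (α → F) × (α → F) →ₗ[F] V, ∀ x, K x = vec z g x.1 x.2 :=
    ⟨(fac z).coprod ((Matrix.toLin' (g : Mn)).comp (fac z)), fun x => rfl⟩
  -- an independent pair of lines in the sum spans it
  have hspan : ∀ v : β → F, (∀ x x' : α → F, tmul x z + tmul x' v = 0 → x = 0 ∧ x' = 0) →
      (∀ x, tmul x v ∈ LinearMap.range K) → ∀ p q, ∃ x x', vec z g p q = tmul x z + tmul x' v := by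
    intro v hind hv p q
    let J : (α → F) × (α → F) →ₗ[F] V := (fac z).coprod (fac v)
    have hJK : LinearMap.range J = LinearMap.range K := by
      refine Submodule.eq_of_le_of_finrank_le ?_ ?_
      · rintro _ ⟨⟨x, x'⟩, rfl⟩
        exact add_mem ⟨(x, 0), by rw [hK, vec, tmul_zero_left, Matrix.mulVec_zero, add_zero]; rfl⟩ (hv x')
      · rw [LinearMap.finrank_range_of_inj (f := J) ((injective_iff_map_eq_zero _).2 fun y hy =>
          Prod.ext (hind y.1 y.2 hy).1 (hind y.1 y.2 hy).2)]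
        exact LinearMap.finrank_range_le K
    obtain ⟨⟨x, x'⟩, hx⟩ : vec z g p q ∈ LinearMap.range J := hJK ▸ ⟨(p, q), hK _⟩
    exact ⟨x, x', hx.symm⟩
  have hdisp : ∀ x y, tmul x (B y - y) ∈ LinearMap.range K := fun x y => by
    obtain ⟨p, q, hpq⟩ := hd (tmul x y)
    exact ⟨(p, q), by rw [hK, ← hpq, hap, tmul_sub_right]⟩
  by_cases hθ : θ = 1
  · have hν : ν = 0 := by
      by_contra hν
      have hg1 : ∀ x, tmul x g₁ ∈ LinearMap.range K := fun x => by
        have h1 := hdisp ((σ ν)⁻¹ • x) u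
        have h3 := Submodule.smul_mem (LinearMap.range K) (β₀ / ν) (hdisp ((σ ν)⁻¹ • x) g₁)
        have h4 := Submodule.sub_mem _ h1 h3
        rw [hBu, hBg, hγν, hθ, one_smul, one_mul, add_sub_cancel_right, add_sub_cancel_right, ← tmul_smul_right,
          smul_smul, div_mul_cancel₀ _ hν, ← tmul_sub_right, add_sub_cancel_left, tmul_smul_right, tmul_smul_left,
          smul_smul, mul_inv_cancel₀ ((map_ne_zero σ).2 hν), one_smul] at h4
        exact h4
      refine hgL (hL.kron g hg (hO.line_kron hS hg hF.zz hz0 (v := z) fun q => ⟨q, hnice q ?_⟩))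
      obtain ⟨x, x', hx⟩ := hspan g₁ (fun x x' e => by
        have e1 := congrArg (sl fB g₁) e
        have e2 := congrArg (sl fB u) e
        simp only [map_add, map_zero, hO.sl_tmul, hzg, hF.gg, hzu, hF.gu, zero_smul, one_smul, zero_add,
          add_zero] at e1 e2
        exact ⟨e2, e1⟩) hg1 0 q
      have h := congrArg (sl fB z) hx
      rw [vec, tmul_zero_left, zero_add, map_add, hO.sl_tmul, hO.sl_tmul, hF.zz, hF.gz, zero_smul, zero_smul,
        add_zero, ← co_apply] at h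
      exact h
    have hall : ∀ t, (k : Mn) *ᵥ t = t + β₀ • tmul (sl fB z t) z := fun t => by
      have e : Matrix.toLin' (k : Mn) = LinearMap.id + β₀ • (fac z).comp (sl fB z) := ext_tmul fun x y => by
        rw [Matrix.toLin'_apply, hap, LinearMap.add_apply, LinearMap.id_apply, LinearMap.smul_apply,
          LinearMap.comp_apply, fac_apply, hO.sl_tmul, tmul_smul_left, smul_smul]
        conv_lhs => rw [frame_dec hs hβ hF.zz hF.uu hF.uz hF.gz hF.gu hF.gg y, map_add, map_add, map_smul, map_smul,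
          map_smul, hBz, hBg, hBu, hγν, hν, hθ, map_zero]
        conv_rhs => arg 1; rw [frame_dec hs hβ hF.zz hF.uu hF.uz hF.gz hF.gu hF.gg y]
        simp only [one_smul, zero_smul, mul_zero, add_zero, zero_add, tmul_add_right, tmul_smul_right, smul_add,
          smul_smul]
        module
      have := LinearMap.congr_fun e t
      simpa only [Matrix.toLin'_apply, LinearMap.add_apply, LinearMap.id_apply, LinearMap.smul_apply,
        LinearMap.comp_apply, fac_apply] using this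
    refine ⟨θ, β₀, fun p q => ?_, fun _ => hall⟩
    rw [hθ, one_smul, hall, vec, vec, map_add, hO.sl_tmul, hF.zz, zero_smul, zero_add, ← co_apply, tmul_add_left,
      tmul_smul_left]
    abel
  · have hθ1 : θ + 1 ≠ 0 := fun e => hθ (by linear_combination e - h2)
    obtain ⟨μ, hμ⟩ : ∃ μ, μ = γ / (θ + 1) := ⟨_, rfl⟩
    obtain ⟨w, hw⟩ : ∃ w, w = u + μ • g₁ + (β₀ / (θ + 1)) • z := ⟨_, rfl⟩
    have hwz : fB w z = 1 := by
      rw [hw, hs.add_left, hs.add_left, hs.smul_left, hs.smul_left, hF.uz, hF.gz, hF.zz, mul_zero, mul_zero,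
        add_zero, add_zero]
    obtain ⟨b, hb⟩ : ∃ b, b = (β₀ + μ * ν) / θ := ⟨_, rfl⟩
    have hθγ : (θ + 1) * μ = γ := by rw [hμ, mul_div_cancel₀ _ hθ1]
    have hβw : (θ + 1) * (β₀ / (θ + 1)) = β₀ := mul_div_cancel₀ _ hθ1
    have hθb : θ * b = β₀ + μ * ν := by rw [hb, mul_div_cancel₀ _ hθ0]
    have hBw : B w = θ • (w + b • z) := by
      rw [hw, map_add, map_add, map_smul, map_smul, hBu, hBg, hBz]
      match_scalars
      · linear_combination -hθb
      · linear_combination -hθγ + μ * h2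
      · ring
    have hBu' : B u - u = (θ + 1) • w := by
      rw [hBu, hw]
      match_scalars
      · linear_combination -hβw
      · linear_combination -hθγ
      · linear_combination -h2
    have hwK : ∀ x, tmul x w ∈ LinearMap.range K := fun x => by
      have h := hdisp ((θ + 1)⁻¹ • x) u
      rwa [hBu', tmul_smul_right, tmul_smul_left, smul_smul, mul_inv_cancel₀ hθ1, one_smul] at h
    refine ⟨θ, b, fun p q => ?_, fun e => absurd e hθ⟩
    obtain ⟨x, x', hx⟩ := hspan w (fun x x' e => by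
      have e1 := congrArg (sl fB z) e
      simp only [map_add, map_zero, hO.sl_tmul, hF.zz, hwz, zero_smul, one_smul, zero_add] at e1
      rw [e1, tmul_zero_left, add_zero] at e
      exact ⟨fac_injective hz0 (e.trans (tmul_zero_left z).symm), e1⟩) hwK p q
    have hx' : co fB z g q = x' := by
      have h := congrArg (sl fB z) hx
      rwa [vec, map_add, map_add, hO.sl_tmul, hO.sl_tmul, hO.sl_tmul, hF.zz, hwz, zero_smul, zero_smul, one_smul,
        zero_add, zero_add, ← co_apply] at h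
    rw [show vec z g (p + b • co fB z g q) q = vec z g p q + b • tmul (co fB z g q) z by
      rw [vec, vec, tmul_add_left, tmul_smul_left]; abel]
    rw [hx, hx', Matrix.mulVec_add, hap, hap, hBz, hBw, tmul_smul_right, tmul_smul_right, tmul_add_right,
      tmul_smul_right]
    module

/-- An involution with nilpotent coefficient is in the target. -/
theorem nil_mem (hL : Tgt fB M L) (h2 : (2 : F) = 0) {z : β → F} (hz : fB z z = 0) (hz0 : z ≠ 0)
    {g X : GL (α × β) F} (hg : g ∈ M) (hgg : g * g = 1) (hXM : X ∈ M) (hXL : X ∈ L) (hXX : X * X = 1)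
    (hX : ∀ t, (X : Mn) *ᵥ t = t + tmul (sl fB z t) z) {m : ℕ} (hm : (co fB z g) ^ m = 0) : g ∈ L := by
  classical
  haveI : CharP F 2 := by
    obtain ⟨p, hp⟩ := CharP.exists F
    have h' : ((2 : ℕ) : F) = 0 := by exact_mod_cast h2
    rcases (Nat.prime_two.eq_one_or_self_of_dvd p ((CharP.cast_eq_zero_iff F p 2).1 h')) with rfl | rfl
    · exact absurd (CharP.char_is_prime F 1) Nat.not_prime_one
    · exact hp
  haveI : Fact (Nat.Prime 2) := ⟨Nat.prime_two⟩
  obtain ⟨i₀⟩ : Nonempty α := Fintype.card_pos_iff.1 (by have := hO.ha; omega)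
  obtain ⟨j₀⟩ : Nonempty β := Fintype.card_pos_iff.1 (by have := hO.hb; omega)
  haveI : Nonempty (α × β) := ⟨(i₀, j₀)⟩
  haveI : ExpChar Mn 2 := ExpChar.prime Fact.out
  obtain ⟨e, he⟩ : ∃ e, e = g * X * g := ⟨_, rfl⟩
  have heM : e ∈ M := he ▸ mul_mem (mul_mem hg hXM) hg
  have hgi : g⁻¹ = g := inv_eq_of_mul_eq_one_right hgg
  have hee : e * e = 1 := by
    rw [he, show g * X * g * (g * X * g) = g * (X * (g * g) * X) * g by group, hgg, mul_one, hXX, mul_one, hgg]
  obtain ⟨A, hA⟩ : ∃ A : Mn, A = (X : Mn) - 1 := ⟨_, rfl⟩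
  obtain ⟨B, hB⟩ : ∃ B : Mn, B = (e : Mn) - 1 := ⟨_, rfl⟩
  have hAt : ∀ t, A *ᵥ t = tmul (sl fB z t) z := fun t => by
    rw [hA, Matrix.sub_mulVec, Matrix.one_mulVec, hX, add_sub_cancel_left]
  have hBt : ∀ t, B *ᵥ t = (g : Mn) *ᵥ tmul (sl fB z ((g : Mn) *ᵥ t)) z := fun t => by
    rw [hB, Matrix.sub_mulVec, Matrix.one_mulVec, he, Units.val_mul, Units.val_mul, ← Matrix.mulVec_mulVec,
      ← Matrix.mulVec_mulVec, hX, Matrix.mulVec_add, Matrix.mulVec_mulVec, ← Units.val_mul, hgg, Units.val_one,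
      Matrix.one_mulVec, add_sub_cancel_left]
  have hiter : ∀ (n : ℕ) t, ((A * B) ^ n * A) *ᵥ t = tmul (((co fB z g) ^ (2 * n)) (sl fB z t)) z := by
    intro n
    induction n with
    | zero => intro t; rw [pow_zero, one_mul, hAt]; rfl
    | succ n ih =>
      intro t
      rw [pow_succ', mul_assoc, ← Matrix.mulVec_mulVec, ih, ← Matrix.mulVec_mulVec, hBt, hAt, ← co_apply,
        ← co_apply, show 2 * (n + 1) = 2 * n + 1 + 1 by omega, pow_succ', pow_succ']
      rfl
  have h0 : (A * B) ^ m * A = 0 := Matrix.ext_iff_mulVec.2 fun t => by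
    rw [hiter, two_mul, pow_add, hm, zero_mul, LinearMap.zero_apply, tmul_zero_left, Matrix.zero_mulVec]
  obtain ⟨w, hw⟩ : ∃ w, w = e * X := ⟨_, rfl⟩
  have hwi : w⁻¹ = X * e := by
    rw [hw, _root_.mul_inv_rev, inv_eq_of_mul_eq_one_right hee, inv_eq_of_mul_eq_one_right hXX]
  have hC : (w : Mn) + ((w⁻¹ : GL (α × β) F) : Mn) = A * B + B * A := by
    have e1 : (e : Mn) = 1 + B := by rw [hB, add_sub_cancel]
    have e2 : (X : Mn) = 1 + A := by rw [hA, add_sub_cancel]
    rw [hwi, hw, Units.val_mul, Units.val_mul, e1, e2]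
    have hz : (2 : F) • (1 + A + B) = 0 := by rw [h2, zero_smul]
    rw [two_smul] at hz
    linear_combination (norm := noncomm_ring) hz
  obtain ⟨l, hl⟩ : ∃ l : ℕ, m + 1 ≤ 2 ^ l := ⟨m + 1, (Nat.lt_two_pow_self).le⟩
  have hAB : (A * B) ^ (2 ^ l) = 0 := pow_eq_zero_of_le hl (by rw [pow_succ, ← mul_assoc, h0, zero_mul])
  have hBA : (B * A) ^ (2 ^ l) = 0 := pow_eq_zero_of_le hl (by
    have hswap : ∀ n, (B * A) ^ (n + 1) = B * ((A * B) ^ n * A) := by
      intro n
      induction n with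
      | zero => simp
      | succ n ih => rw [pow_succ, ih, pow_succ (A * B)]; simp only [mul_assoc]
    rw [hswap, h0, mul_zero])
  have hAA : A * A = 0 := Matrix.ext_iff_mulVec.2 fun t => by
    rw [← Matrix.mulVec_mulVec, hAt, hAt, hO.sl_tmul, hz, zero_smul, tmul_zero_left, Matrix.zero_mulVec]
  have hBB : B * B = 0 := Matrix.ext_iff_mulVec.2 fun t => by
    rw [← Matrix.mulVec_mulVec, hBt, hBt, Matrix.mulVec_mulVec _ (g : Mn), ← Units.val_mul, hgg, Units.val_one,
      Matrix.one_mulVec, hO.sl_tmul, hz, zero_smul, tmul_zero_left, Matrix.mulVec_zero, Matrix.zero_mulVec]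
  have hpow : w ^ (2 ^ (l + 1)) = 1 := by
    have h1 : ((w : Mn) + ((w⁻¹ : GL (α × β) F) : Mn)) ^ (2 ^ l) = 0 := by
      rw [hC, add_pow_char_pow_of_commute (p := 2) (h := show A * B * (B * A) = B * A * (A * B) by
        rw [show A * B * (B * A) = A * (B * B) * A by simp only [mul_assoc],
          show B * A * (A * B) = B * (A * A) * B by simp only [mul_assoc], hAA, hBB, mul_zero, zero_mul, mul_zero,
          zero_mul]), hAB, hBA, add_zero]
    rw [add_pow_char_pow_of_commute (p := 2) (h := show (w : Mn) * _ = _ * (w : Mn) by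
      rw [← Units.val_mul, ← Units.val_mul, mul_inv_cancel, inv_mul_cancel]), ← Units.val_pow_eq_pow_val,
      ← Units.val_pow_eq_pow_val, inv_pow] at h1
    have h3 := congrArg (((w ^ (2 ^ l) : GL (α × β) F) : Mn) * ·) h1
    simp only [mul_add, ← Units.val_mul, mul_inv_cancel, Units.val_one, mul_zero] at h3
    refine Units.ext ?_
    rw [pow_succ, mul_two, pow_add, Units.val_one]
    have h4 : (2 : F) • (1 : Mn) = 0 := by rw [h2, zero_smul]
    rw [two_smul] at h4
    linear_combination (norm := abel) h3 - h4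
  have hwM : ∀ n : ℕ, w ^ n ∈ M := fun n => pow_mem (hw ▸ mul_mem heM hXM) n
  have hXw : ∀ n : ℕ, X * (w ^ n)⁻¹ = w ^ n * X := fun n => by
    induction n with
    | zero => simp
    | succ n ih =>
      rw [pow_succ, _root_.mul_inv_rev, ← mul_assoc, hwi, ← mul_assoc, hXX, one_mul,
        show w ^ n * w * X = w ^ n * (w * X) by group, hw, mul_assoc, hXX, mul_one, ← hw]
      calc e * (w ^ n)⁻¹ = e * X * (X * (w ^ n)⁻¹) := by rw [mul_assoc, ← mul_assoc X, hXX, one_mul]
        _ = w * (w ^ n * X) := by rw [ih, ← hw]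
        _ = w ^ n * (w * X) := by rw [← mul_assoc, ← mul_assoc, ← pow_succ', pow_succ]
        _ = w ^ n * e := by rw [hw, mul_assoc, hXX, mul_one]
  have hX1 : ∀ t, (X : Mn) *ᵥ t = t + (1 : F) • tmul (sl fB z t) z := fun t => by rw [hX, one_smul]
  have hdown : ∀ j : ℕ, w ^ (2 ^ (l + 1 - j)) ∈ L := by
    intro j
    induction j with
    | zero => rw [Nat.sub_zero, hpow]; exact one_mem _
    | succ j ih =>
      rcases le_or_gt (l + 1) j with hj | hj
      · rwa [show l + 1 - (j + 1) = l + 1 - j by omega]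
      · refine hL.conj (hwM _) hXM hz hz0 one_ne_zero hX1 ?_
        rw [mul_assoc, hXw, ← mul_assoc, ← pow_add, ← two_mul, ← pow_succ',
          show l + 1 - (j + 1) + 1 = l + 1 - j by omega]
        exact mul_mem ih hXL
  have hwL : w ∈ L := by
    have := hdown (l + 1)
    rwa [Nat.sub_self, pow_zero, pow_one] at this
  have heL : e ∈ L := by
    have := mul_mem hwL hXL
    rwa [hw, mul_assoc, hXX, mul_one] at this
  exact hL.conj hg hXM hz hz0 one_ne_zero hX1 (by rwa [hgi, ← he])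

set_option maxHeartbeats 1000000 in
/-- The coefficient of an involution fixing its kernel satisfies an equation of degree four. -/
theorem quartic (hS : Scal2 fB f M) (hL : Tgt fB M L) (h2 : (2 : F) = 0) (hβ : Fintype.card β = 3)
    {z u g₁ : β → F} (hF : Frame fB z u g₁) (hz0 : z ≠ 0) {r : F} (hr : σ r = r) (hr0 : r ≠ 0) (hr1 : r ≠ 1)
    {g : GL (α × β) F} (hg : g ∈ M) (hgg : g * g = 1) (hgL : g ∉ L)
    (hnice : ∀ q, co fB z g q = 0 → (g : Mn) *ᵥ tmul q z = tmul q z) :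
    ∃ t : F, (co fB z g) ^ 8 = t • (co fB z g) ^ 4 := by
  classical
  have hskew : ∀ s : F, σ s = s → s + σ s = 0 := fun s hs => by rw [hs, ← two_mul, h2, zero_mul]
  obtain ⟨Xw, hXw, -, hXwt⟩ := hO.exists_root hF.zz (hskew r hr)
  obtain ⟨X, hXM, -, hXt⟩ := hO.exists_root hF.zz (hskew 1 (map_one σ))
  have hX : ∀ t, (X : Mn) *ᵥ t = t + tmul (sl fB z t) z := fun t => by rw [hXt, one_smul]
  have hneg : ∀ v : V, v + v = 0 := fun v => by rw [← two_smul F v, h2, zero_smul]
  have hinv : ∀ {Y : GL (α × β) F} {s : F}, (∀ t, (Y : Mn) *ᵥ t = t + s • tmul (sl fB z t) z) → Y * Y = 1 :=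
    fun {Y s} hY => Units.ext (Matrix.ext_iff_mulVec.2 fun t => by
      rw [Units.val_mul, ← Matrix.mulVec_mulVec, hY, hY, map_add, map_smul, hO.sl_tmul, hF.zz, zero_smul, smul_zero,
        add_zero, add_assoc, hneg, add_zero, Units.val_one, Matrix.one_mulVec])
  have hXX := hinv hXt
  obtain ⟨e₁, he₁⟩ : ∃ e, e = g * X * g := ⟨_, rfl⟩
  obtain ⟨ew, hew⟩ : ∃ e, e = g * Xw * g := ⟨_, rfl⟩
  have he₁e : e₁ * e₁ = 1 := by
    rw [he₁, show g * X * g * (g * X * g) = g * (X * (g * g) * X) * g by group, hgg, mul_one, hXX, mul_one, hgg]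
  have hewe : ew * ew = 1 := by
    rw [hew, show g * Xw * g * (g * Xw * g) = g * (Xw * (g * g) * Xw) * g by group, hgg, mul_one, hinv hXwt,
      mul_one, hgg]
  obtain ⟨y, hy⟩ : ∃ y, y = e₁ * X * ew := ⟨_, rfl⟩
  obtain ⟨y', hy'⟩ : ∃ y, y = ew * X * e₁ := ⟨_, rfl⟩
  have hyy' : y * y' = 1 := by
    rw [hy, hy', show e₁ * X * ew * (ew * X * e₁) = e₁ * (X * (ew * ew) * X) * e₁ by group, hewe, mul_one, hXX,
      mul_one, he₁e]
  have hyi : y⁻¹ = y' := inv_eq_of_mul_eq_one_right hyy'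
  obtain ⟨P, hP⟩ : ∃ P, P = co fB z g := ⟨_, rfl⟩
  have hyv : ∀ p q, (y : Mn) *ᵥ vec z g p q = vec z g (p + (P q + r • P (P p)))
      (q + r • P p + (P p + P (P q) + r • P (P (P p)))) := fun p q => by
    rw [hy, he₁, hew, Units.val_mul, Units.val_mul, ← Matrix.mulVec_mulVec, ← Matrix.mulVec_mulVec,
      step_conj hO hF.zz hgg hXwt, step_root hO hF.zz hXt, step_conj hO hF.zz hgg hXt, ← hP]
    simp only [map_add, map_smul, one_smul]
    congr 1 <;> abel
  have hy'p : ∀ p, (y' : Mn) *ᵥ vec z g p 0 = vec z g (p + P (P p)) (P p + r • P p + r • P (P (P p))) := fun p => by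
    rw [hy', he₁, hew, Units.val_mul, Units.val_mul, ← Matrix.mulVec_mulVec, ← Matrix.mulVec_mulVec,
      step_conj hO hF.zz hgg hXt, step_root hO hF.zz hXt, step_conj hO hF.zz hgg hXwt, ← hP]
    simp only [zero_add, map_add, smul_add, one_smul]
    congr 1
    abel
  have hp0 : ∀ p, vec z g p 0 = tmul p z := fun p => by rw [vec, tmul_zero_left, Matrix.mulVec_zero, add_zero]
  have hslv : ∀ p q, sl fB z (vec z g p q) = P q := fun p q => by
    rw [vec, map_add, hO.sl_tmul, hF.zz, zero_smul, zero_add, hP, co_apply]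
  have hdy : Disp z g y := hy ▸ he₁ ▸ hew ▸ ((disp_conj hgg hXt).mul (disp_root hXt)).mul (disp_conj hgg hXwt)
  have hdy' : Disp z g y' := hy' ▸ he₁ ▸ hew ▸ ((disp_conj hgg hXwt).mul (disp_root hXt)).mul (disp_conj hgg hXt)
  have hyM : y ∈ M := hy ▸ he₁ ▸ hew ▸ mul_mem (mul_mem (mul_mem (mul_mem hg hXM) hg) hXM)
    (mul_mem (mul_mem hg hXw) hg)
  obtain ⟨e, he⟩ : ∃ e, e = y * X * y' := ⟨_, rfl⟩
  have hee : e * e = 1 := by
    rw [he, ← hyi, show y * X * y⁻¹ * (y * X * y⁻¹) = y * (X * X) * y⁻¹ by group, hXX, mul_one, mul_inv_cancel]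
  have hde : Disp z g (e * X) := he ▸ ((hdy.mul (disp_root hXt)).mul hdy').mul (disp_root hXt)
  have hwM : ∀ n : ℕ, (e * X) ^ n ∈ M := fun n =>
    pow_mem (mul_mem (he ▸ hyi ▸ mul_mem (mul_mem hyM hXM) (inv_mem hyM)) hXM) n
  obtain ⟨c₀, hc₀⟩ : ∃ c₀, c₀ = r + 1 := ⟨_, rfl⟩
  rcases TensorPowForm.dih_split hee hXX with ⟨j, hj⟩ | ⟨z₀, hzz, hz1, hze, hzX, ⟨j, hj⟩, -⟩
  · -- a conjugation of the two
    obtain ⟨n, hn⟩ : ∃ n, n = (e * X) ^ j := ⟨_, rfl⟩
    rw [← hn] at hj
    have hXn : ∀ i : ℕ, X * (e * X) ^ i = ((e * X) ^ i)⁻¹ * X := fun i => by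
      induction i with
      | zero => simp
      | succ i ih =>
        have h1 : X * (e * X) = (e * X)⁻¹ * X := by
          rw [_root_.mul_inv_rev, inv_eq_of_mul_eq_one_right hXX, inv_eq_of_mul_eq_one_right hee]
          group
        conv_lhs => rw [pow_succ', ← mul_assoc, h1, mul_assoc, ih, ← mul_assoc, ← _root_.mul_inv_rev, ← pow_succ]
    obtain ⟨k, hk⟩ : ∃ k, k = X * n * y := ⟨_, rfl⟩
    have hff : X * n * (X * n) = 1 := by
      have e1 : X * n = n⁻¹ * X := hn ▸ hXn j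
      calc X * n * (X * n) = X * n * (n⁻¹ * X) := by rw [← e1]
        _ = X * X := by group
        _ = 1 := hXX
    have hkX : k * X = X * k := by
      have e1 : X * n * e * (X * n)⁻¹ = X := by
        rw [show X * n * e * (X * n)⁻¹ = X * (n * e * n⁻¹) * X⁻¹ by group, hj, mul_inv_cancel_right]
      rw [he, ← hyi] at e1
      calc k * X = X * n * (y * X * y⁻¹) * (X * n)⁻¹ * (X * n * y) := by rw [hk]; group
        _ = X * k := by rw [e1, hk]
    have hkM : k ∈ M := hk ▸ mul_mem (mul_mem hXM (hn ▸ hwM j)) hyM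
    have hdk : Disp z g k := hk ▸ ((disp_root hXt).mul (hn ▸ hde.pow j)).mul hdy
    have hky : k * y' * k = y := by
      have h1 : k * y' = X * n := by rw [hk, mul_assoc, hyy', mul_one]
      rw [h1, hk, ← mul_assoc, hff, one_mul]
    obtain ⟨θ, b, hθb, -⟩ := disp_cent hO hS hL h2 hβ hF hz0 hg hgL hnice hkM hdk hX hkX
    have heq : ∀ p, (θ * θ) • vec z g (p + P (P p) + b • P (P p + r • P p + r • P (P (P p))))
        (P p + r • P p + r • P (P (P p))) = vec z g (p + r • P (P p)) (P p + r • P p + r • P (P (P p))) := fun p => by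
      have h1 := congrArg (fun a : GL (α × β) F => (a : Mn) *ᵥ vec z g p 0) hky
      simp only [Units.val_mul, ← Matrix.mulVec_mulVec, hθb, map_zero, smul_zero, add_zero, Matrix.mulVec_smul,
        hy'p, smul_smul, hyv, zero_add, ← hP] at h1
      rw [h1]
      congr 1
      abel
    obtain ⟨Q, hQ⟩ : ∃ Q : (α → F) → (α → F), ∀ p, Q p = P p + r • P p + r • P (P (P p)) := ⟨_, fun p => rfl⟩
    simp only [← hQ] at heq
    have hQP : ∀ p, P (Q p) = c₀ • P (P p) + r • P (P (P (P p))) := fun p => by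
      rw [hQ, map_add, map_add, map_smul, map_smul, hc₀, add_smul, one_smul, add_comm (r • P (P p))]
    have hkey : ∀ p, ((θ * θ - 1) • P (Q p)) = 0 := fun p => by
      have h1 := congrArg (sl fB z) (heq p)
      rw [map_smul, hslv, hslv] at h1
      rw [sub_smul, one_smul, h1, sub_self]
    by_cases hQ0 : ∀ p, P (Q p) = 0
    · refine ⟨c₀ / r * (c₀ / r), LinearMap.ext fun p => ?_⟩
      have h4 : ∀ p, P (P (P (P p))) = (c₀ / r) • P (P p) := fun p => by
        refine smul_right_injective _ hr0 ?_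
        show r • _ = r • _
        have h1 := hQ0 p
        rw [hQP] at h1
        rw [smul_smul, mul_div_cancel₀ _ hr0]
        linear_combination (norm := module) h1 - c₀ • h2 • P (P p)
      rw [← hP]
      show P (P (P (P (P (P (P (P p))))))) = (c₀ / r * (c₀ / r)) • P (P (P (P p)))
      rw [h4, h4, smul_smul]
    · push Not at hQ0
      obtain ⟨p₀, hp₀⟩ := hQ0
      have hθ : θ * θ = 1 := sub_eq_zero.1 ((smul_eq_zero.1 (hkey p₀)).resolve_right hp₀)
      have h1 : ∀ p, P (P p) + b • P (Q p) + r • P (P p) = 0 := fun p => by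
        have h0 := heq p
        rw [hθ, one_smul, vec, vec, add_left_inj] at h0
        have h3 := fac_injective hz0 h0
        linear_combination (norm := module) h3 + h2 • r • P (P p)
      by_cases hb : b = 0
      · refine ⟨0, LinearMap.ext fun p => ?_⟩
        have h4 : ∀ p, P (P p) = 0 := fun p => by
          have h := h1 p
          rw [hb, zero_smul, add_zero] at h
          refine (smul_eq_zero.1 (show c₀ • P (P p) = 0 from ?_)).resolve_left fun e => hr1 ?_
          · rw [hc₀, add_smul, one_smul, add_comm, h]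
          · linear_combination e - hc₀ - h2
        rw [← hP, zero_smul]
        show P (P (P (P (P (P (P (P p))))))) = 0
        rw [h4]
      · obtain ⟨t, ht⟩ : ∃ t, t = c₀ * (1 + b) / (b * r) := ⟨_, rfl⟩
        refine ⟨t * t, LinearMap.ext fun p => ?_⟩
        have h4 : ∀ p, P (P (P (P p))) = t • P (P p) := fun p => by
          refine smul_right_injective _ (mul_ne_zero hb hr0) ?_
          show (b * r) • _ = (b * r) • _
          have h := h1 p
          rw [hQP] at h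
          rw [smul_smul, ht, mul_div_cancel₀ _ (mul_ne_zero hb hr0), hc₀] at *
          linear_combination (norm := module) h - h2 • (r + 1) • (1 + b) • P (P p)
        rw [← hP]
        show P (P (P (P (P (P (P (P p))))))) = (t * t) • P (P (P (P p)))
        rw [h4, h4, smul_smul]
  · -- a central involution
    have hzM : z₀ ∈ M := hj ▸ hwM j
    obtain ⟨θ, b, hθb, hall⟩ := disp_cent hO hS hL h2 hβ hF hz0 hg hgL hnice hzM (hj ▸ hde.pow j) hX hzX
    obtain ⟨a, ha⟩ : ∃ a : α → F, a ≠ 0 := by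
      obtain ⟨i⟩ : Nonempty α := Fintype.card_pos_iff.1 (by have := hO.ha; omega)
      exact ⟨Pi.single i 1, by simp⟩
    have hθ : θ = 1 := by
      have h1 := congrArg (fun c : GL (α × β) F => (c : Mn) *ᵥ tmul a z) hzz
      have hza : (z₀ : Mn) *ᵥ tmul a z = θ • tmul a z := by
        rw [← hp0, hθb, map_zero, smul_zero, add_zero]
      simp only [Units.val_mul, ← Matrix.mulVec_mulVec, hza, Matrix.mulVec_smul, smul_smul, Units.val_one,
        Matrix.one_mulVec] at h1
      have h3 : θ * θ = 1 := smul_left_injective F (tmul_ne_zero ha hz0) (h1.trans (one_smul F _).symm)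
      rcases mul_self_eq_one_iff.1 h3 with e1 | e1
      · exact e1
      · rw [e1]; linear_combination -h2
    have hb0 : b ≠ 0 := fun e => hz1 (Units.ext (Matrix.ext_iff_mulVec.2 fun t => by
      rw [hall hθ, e, zero_smul, add_zero, Units.val_one, Matrix.one_mulVec]))
    obtain ⟨t, ht⟩ : ∃ t, t = (c₀ * c₀) / (r * r) := ⟨_, rfl⟩
    refine ⟨t, LinearMap.ext fun p => ?_⟩
    have h1 : sl fB z ((e : Mn) *ᵥ vec z g p 0) = 0 := by
      have h := congrArg (fun a : GL (α × β) F => (a : Mn) *ᵥ vec z g p 0) hze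
      simp only [Units.val_mul, ← Matrix.mulVec_mulVec, hall hθ] at h
      rw [hp0, hO.sl_tmul, hF.zz, zero_smul, tmul_zero_left, smul_zero, add_zero, add_eq_left, smul_eq_zero] at h
      have h3 := h.resolve_left hb0
      rw [hp0]
      exact fac_injective hz0 (h3.trans (tmul_zero_left z).symm)
    rw [he, Units.val_mul, Units.val_mul, ← Matrix.mulVec_mulVec, ← Matrix.mulVec_mulVec, hy'p,
      step_root hO hF.zz hXt, hyv, hslv, ← hP] at h1
    simp only [map_add, map_smul, smul_add, one_smul] at h1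
    rw [← hP]
    refine smul_right_injective _ (mul_ne_zero hr0 hr0) ?_
    show (r * r) • P (P (P (P (P (P (P (P p))))))) = (r * r) • (t • P (P (P (P p))))
    rw [smul_smul, ht, mul_div_cancel₀ _ (mul_ne_zero hr0 hr0), hc₀]
    linear_combination (norm := skip) h1
    match_scalars <;> grind

set_option maxHeartbeats 1000000 in
/-- Characteristic two: the overgroup is in the target. -/
theorem all_mem_plane (hS : Scal2 fB f M) (hL : Tgt fB M L) (h2 : (2 : F) = 0) (hβ : Fintype.card β = 3) {r : F}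
    (hr : σ r = r) (hr0 : r ≠ 0) (hr1 : r ≠ 1) {g₀ : GL (α × β) F} (hg₀ : g₀ ∈ M) : g₀ ∈ L := by
  classical
  by_contra hg₀L
  have hs := hO.hB
  obtain ⟨z, u, hz, hu, huz⟩ := exists_hyp hs (by omega)
  have hz0 : z ≠ 0 := fun e => one_ne_zero (α := F) (by rw [← huz, e, hs.toSesq.zero_right])
  obtain ⟨g₁, hgu, hgz, hgg₁⟩ := exists_value_perp hs hO.hb hu hz huz (t := 1) (map_one σ)
  have hF : Frame fB z u g₁ := ⟨hz, hu, huz, hgz, hgu, hgg₁⟩
  have hskew : ∀ s : F, σ s = s → s + σ s = 0 := fun s hs => by rw [hs, ← two_mul, h2, zero_mul]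
  obtain ⟨X, hXM, hXk, hXt⟩ := hO.exists_root hz (hskew 1 (map_one σ))
  have hX : ∀ t, (X : Mn) *ᵥ t = t + tmul (sl fB z t) z := fun t => by rw [hXt, one_smul]
  have hXL : X ∈ L := hL.kron X hXM hXk
  have hXX : X * X = 1 := Units.ext (Matrix.ext_iff_mulVec.2 fun t => by
    rw [Units.val_mul, ← Matrix.mulVec_mulVec, hX, hX, map_add, hO.sl_tmul, hz, zero_smul, add_zero, add_assoc,
      ← two_smul F (tmul (sl fB z t) z), h2, zero_smul, add_zero, Units.val_one, Matrix.one_mulVec])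
  let S : Finset (GL (α × β) F) := Finset.univ.filter fun g => g ∈ M ∧ g * g = 1 ∧ g ∉ L
  have hmemS : ∀ {g}, g ∈ S ↔ g ∈ M ∧ g * g = 1 ∧ g ∉ L := by simp [S]
  have hSne : S.Nonempty := ⟨g₀ * X * g₀⁻¹, hmemS.2 ⟨mul_mem (mul_mem hg₀ hXM) (inv_mem hg₀), by
    rw [show g₀ * X * g₀⁻¹ * (g₀ * X * g₀⁻¹) = g₀ * (X * X) * g₀⁻¹ by group, hXX, mul_one, mul_inv_cancel],
    fun h => hg₀L (hL.conj hg₀ hXM hz hz0 one_ne_zero hXt h)⟩⟩
  obtain ⟨m, hm, hmax⟩ := Finset.exists_max_image S (fun g => finrank F (LinearMap.ker (co fB z g))) hSne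
  -- the conjugate of the root element by an involution of largest kernel
  have hstep : ∀ g ∈ S, (∀ g' ∈ S, finrank F (LinearMap.ker (co fB z g')) ≤ finrank F (LinearMap.ker (co fB z g))) →
      g * X * g ∈ S ∧ co fB z (g * X * g) = co fB z g * co fB z g ∧
      (∀ g' ∈ S, finrank F (LinearMap.ker (co fB z g')) ≤ finrank F (LinearMap.ker (co fB z (g * X * g)))) ∧
      ∀ q, co fB z (g * X * g) q = 0 → ((g * X * g : GL (α × β) F) : Mn) *ᵥ tmul q z = tmul q z := by
    intro g hgS hgmax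
    obtain ⟨hgM, hgg, hgL⟩ := hmemS.1 hgS
    have hap : ∀ q, ((g * X * g : GL (α × β) F) : Mn) *ᵥ tmul q z =
        tmul q z + (g : Mn) *ᵥ tmul (co fB z g q) z := fun q => by
      rw [Units.val_mul, Units.val_mul, ← Matrix.mulVec_mulVec, ← Matrix.mulVec_mulVec, hX, Matrix.mulVec_add,
        Matrix.mulVec_mulVec, ← Units.val_mul, hgg, Units.val_one, Matrix.one_mulVec, co_apply]
    have hco : co fB z (g * X * g) = co fB z g * co fB z g := LinearMap.ext fun q => by
      rw [co_apply, hap, map_add, hO.sl_tmul, hz, zero_smul, zero_add, Module.End.mul_apply, ← co_apply]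
    have hmem : g * X * g ∈ S := hmemS.2 ⟨mul_mem (mul_mem hgM hXM) hgM, by
      rw [show g * X * g * (g * X * g) = g * (X * (g * g) * X) * g by group, hgg, mul_one, hXX, mul_one, hgg],
      fun h => hgL (hL.conj hgM hXM hz hz0 one_ne_zero hXt (by rwa [inv_eq_of_mul_eq_one_right hgg]))⟩
    have hle : LinearMap.ker (co fB z g) ≤ LinearMap.ker (co fB z (g * X * g)) := fun q hq => by
      rw [LinearMap.mem_ker] at hq ⊢
      rw [hco, Module.End.mul_apply, hq, map_zero]
    have hker := Submodule.eq_of_le_of_finrank_le hle (hgmax _ hmem)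
    refine ⟨hmem, hco, fun g' hg' => hker ▸ hgmax g' hg', fun q hq => ?_⟩
    have hq' : co fB z g q = 0 := LinearMap.mem_ker.1 (hker ▸ LinearMap.mem_ker.2 hq)
    rw [hap, hq', tmul_zero_left, Matrix.mulVec_zero, add_zero]
  obtain ⟨hn₁, -, hmax₁, hnice₁⟩ := hstep m hm hmax
  obtain ⟨hn₁M, hn₁g, hn₁L⟩ := hmemS.1 hn₁
  obtain ⟨t, ht⟩ := quartic hO hS hL h2 hβ hF hz0 hr hr0 hr1 hn₁M hn₁g hn₁L hnice₁
  obtain ⟨hn₂, hco₂, -, hnice⟩ := hstep _ hn₁ hmax₁
  obtain ⟨g, hg'⟩ : ∃ g, g = m * X * m * X * (m * X * m) := ⟨_, rfl⟩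
  rw [← hg'] at hn₂ hco₂ hnice
  obtain ⟨hgM, hgg, hgL⟩ := hmemS.1 hn₂
  obtain ⟨P, hP⟩ : ∃ P, P = co fB z g := ⟨_, rfl⟩
  obtain ⟨D, hD⟩ : ∃ D, D = P * P := ⟨_, rfl⟩
  have hDD : ∀ x, D (D x) = t • D x := fun x => by
    have e1 : D = (co fB z (m * X * m)) ^ 4 := by rw [hD, hP, hco₂]; simp only [pow_succ, pow_zero, one_mul, mul_assoc]
    have e2 : D * D = (co fB z (m * X * m)) ^ 8 := by rw [e1, ← pow_add]
    rw [← Module.End.mul_apply, e2, ht, ← e1, LinearMap.smul_apply]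
  have hnil : ∀ n : ℕ, P ^ n ≠ 0 := fun n h => hgL (nil_mem hO hL h2 hz hz0 hgM hgg hXM hXL hXX hX (hP ▸ h))
  have ht0 : t ≠ 0 := fun e => hnil 4 (by
    rw [show P ^ 4 = D * D by rw [hD, ← pow_two, ← pow_two, ← pow_mul]]
    exact LinearMap.ext fun x => by rw [Module.End.mul_apply, hDD, e, zero_smul, LinearMap.zero_apply])
  have hDadj : ∀ x y, fA (D x) y = fA x (D y) := fun x y => by
    rw [hD, hP, Module.End.mul_apply, Module.End.mul_apply, co_symm hO hgM hgg, co_symm hO hgM hgg]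
  obtain ⟨x₀, hx₀⟩ : ∃ x, D x ≠ 0 := by
    by_contra hc
    push Not at hc
    exact hnil 2 (by rw [pow_two, ← hD]; exact LinearMap.ext hc)
  have hσt : σ t = t := by
    obtain ⟨y, hy⟩ := hO.hA.toSesq.exists_one hx₀
    have h1 : fA (D (D x₀)) y = fA x₀ (D (D y)) := by rw [hDadj, hDadj]
    rw [hDD, hDD, hO.hA.smul_left, hO.hA.smul_right, ← hDadj] at h1
    exact (mul_right_cancel₀ (fun e => one_ne_zero (α := F) (by rw [← hy]; exact hO.hA.refl _ _ e)) h1).symm
  have hρ : r + 1 ≠ 0 := fun e => hr1 (by linear_combination e - h2)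
  obtain ⟨X₀, hX₀, -, hX₀t⟩ := hO.exists_root hz (hskew t⁻¹ (by rw [map_inv₀, hσt]))
  obtain ⟨Xf, hXf, -, hXft⟩ := hO.exists_root hz (hskew (t * (r + 1))⁻¹
    (by rw [map_inv₀, map_mul, map_add, map_one, hr, hσt]))
  obtain ⟨Xr, hXr, -, hXrt⟩ := hO.exists_root hz (hskew r hr)
  obtain ⟨Xs, hXs, -, hXst⟩ := hO.exists_root hz (hskew (r + 1) (by rw [map_add, map_one, hr]))
  obtain ⟨k, hk⟩ : ∃ k, k = g * Xs * g * Xf * (g * Xr * g) * X₀ * (g * X * g) := ⟨_, rfl⟩
  have hkM : k ∈ M := hk ▸ mul_mem (mul_mem (mul_mem (mul_mem (mul_mem (mul_mem hgM hXs) hgM) hXf)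
    (mul_mem (mul_mem hgM hXr) hgM)) hX₀) (mul_mem (mul_mem hgM hXM) hgM)
  have hdk : Disp z g k := hk ▸ ((((disp_conj hgg hXst).mul (disp_root hXft)).mul (disp_conj hgg hXrt)).mul
    (disp_root hX₀t)).mul (disp_conj hgg hXt)
  obtain ⟨κ, hκ⟩ : ∃ κ, κ = r / (t * (r + 1)) := ⟨_, rfl⟩
  have hkv : ∀ p l : α → F, (k : Mn) *ᵥ vec z g p (P l) =
      vec z g ((p + κ • D p) + (t⁻¹ • D l + (t * (r + 1))⁻¹ • D (l + r • t⁻¹ • D l)))
        (P ((l + r • t⁻¹ • D l) + (r + 1) • (t⁻¹ • D l + (t * (r + 1))⁻¹ • D (l + r • t⁻¹ • D l)))) := fun p l => by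
    rw [hk]
    simp only [Units.val_mul, ← Matrix.mulVec_mulVec]
    have hs : ∀ {s : F} {Y : GL (α × β) F} (_ : ∀ t, (Y : Mn) *ᵥ t = t + s • tmul (sl fB z t) z) (a b : α → F),
        (Y : Mn) *ᵥ vec z g a (P b) = vec z g (a + s • D b) (P b) ∧
        (g : Mn) *ᵥ ((Y : Mn) *ᵥ ((g : Mn) *ᵥ vec z g a (P b))) = vec z g a (P (b + s • a)) := fun hY a b => by
      refine ⟨by rw [step_root hO hz hY, ← hP, hD, Module.End.mul_apply], ?_⟩
      have := step_conj hO hz hgg hY a (P b)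
      rw [Units.val_mul, Units.val_mul, ← Matrix.mulVec_mulVec, ← Matrix.mulVec_mulVec] at this
      rw [this, map_add, map_smul, hP]
    rw [(hs hXt _ _).2, (hs hX₀t _ _).1, (hs hXrt _ _).2, (hs hXft _ _).1, (hs hXst _ _).2]
    simp only [map_add, map_smul, hDD, hκ, one_smul]
    congr 1 <;> (match_scalars <;> field_simp <;> grind)
  have hP0 : ∀ p, (k : Mn) *ᵥ tmul p z = tmul (p + κ • D p) z := fun p => by
    have h := hkv p 0
    simp only [map_zero, smul_zero, add_zero] at h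
    rwa [vec, vec, tmul_zero_left, Matrix.mulVec_zero, add_zero, add_zero] at h
  obtain ⟨B, θ, ν, hap, hBz, hBg, -⟩ := disp_scalar hO hS hβ hF hz0 hnice hkM hdk fun x => ⟨_, hP0 x⟩
  have hκD : ∀ p, p + κ • D p = θ • p := fun p => fac_injective hz0 (by
    show tmul _ z = tmul _ z
    rw [← hP0, hap, hBz, tmul_smul_right, tmul_smul_left])
  have hκ0 : κ ≠ 0 := hκ ▸ div_ne_zero hr0 (mul_ne_zero ht0 hρ)
  obtain ⟨δ, hδ⟩ : ∃ δ, δ = κ⁻¹ * (θ - 1) := ⟨_, rfl⟩
  have hDs : ∀ p, D p = δ • p := fun p => by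
    refine smul_right_injective _ hκ0 ?_
    show κ • D p = κ • δ • p
    rw [smul_smul, hδ, mul_inv_cancel_left₀ hκ0, sub_smul, one_smul, ← hκD, add_sub_cancel_left]
  have hDt : ∀ p, D p = t • p := fun p => by
    have h1 := hDD x₀
    rw [hDs (D x₀)] at h1
    rw [hDs, smul_left_injective F hx₀ h1]
  have hθ : θ = 1 + κ * t := by
    have hx : x₀ ≠ 0 := fun e => hx₀ (by rw [e, map_zero])
    have h := hκD x₀
    rw [hDt, smul_smul] at h
    exact (smul_left_injective F hx (by show (1 + κ * t) • x₀ = θ • x₀; rw [add_smul, one_smul]; exact h)).symm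
  have hθr : θ * (r + 1) = 1 := by rw [hθ, hκ]; field_simp; grind
  have hPs : ∀ q, ∃ l, P l = q := fun q => ⟨t⁻¹ • P q, by
    rw [map_smul, show P (P q) = D q by rw [hD]; rfl, hDt, smul_smul, inv_mul_cancel₀ ht0, one_smul]⟩
  have heig : ∀ q, (k : Mn) *ᵥ ((g : Mn) *ᵥ tmul q z) = (r + 1) • (g : Mn) *ᵥ tmul q z := fun q => by
    obtain ⟨l, rfl⟩ := hPs q
    have h := hkv 0 l
    have e : vec z g 0 (P l) = (g : Mn) *ᵥ tmul (P l) z := by rw [vec, tmul_zero_left, zero_add]
    rw [e] at h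
    rw [h, ← e, ← vec_smul, ← map_smul, smul_zero]
    simp only [hDt, map_add, map_smul, map_zero, smul_zero, smul_add, smul_smul, zero_add]
    congr 1 <;> (match_scalars <;> field_simp <;> grind)
  -- the eigenvectors form a line
  obtain ⟨γ, hγ⟩ : ∃ b, b = fB (B u) g₁ := ⟨_, rfl⟩
  obtain ⟨β₀, hβ₀⟩ : ∃ b, b = fB (B u) u := ⟨_, rfl⟩
  obtain ⟨η, hη⟩ : ∃ b, b = fB (B u) z := ⟨_, rfl⟩
  have hBu : B u = β₀ • z + γ • g₁ + η • u := by
    rw [hβ₀, hγ, hη]; exact frame_dec hs hβ hF.zz hF.uu hF.uz hF.gz hF.gu hF.gg (B u)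
  obtain ⟨μ, hμ⟩ : ∃ μ, μ = γ / r := ⟨_, rfl⟩
  have hθr' : r + 1 - θ ≠ 0 := fun e => hr0 (mul_self_eq_zero.1
    (show r * r = 0 by linear_combination (r + 1) * e + hθr - r * h2))
  obtain ⟨lam, hlam⟩ : ∃ lam, lam = (ν * μ + β₀) / (r + 1 - θ) := ⟨_, rfl⟩
  refine hgL (hL.kron g hgM (hO.line_kron hS hgM hz hz0 (v := u + μ • g₁ + lam • z) fun q => ⟨P q, ?_⟩))
  obtain ⟨v, hv⟩ : ∃ v, v = (g : Mn) *ᵥ tmul q z := ⟨_, rfl⟩
  have hvz : sl fB z v = P q := by rw [hv, hP, co_apply]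
  have hdec : v = tmul (sl fB u v) z + tmul (sl fB g₁ v) g₁ + tmul (sl fB z v) u := by
    let Lm : V →ₗ[F] V := (fac z).comp (sl fB u) + (fac g₁).comp (sl fB g₁) + (fac u).comp (sl fB z)
    have h : LinearMap.id = Lm := ext_tmul fun x y => by
      simp only [Lm, LinearMap.id_apply, LinearMap.add_apply, LinearMap.comp_apply, fac_apply, hO.sl_tmul,
        tmul_smul_left]
      conv_lhs => rw [frame_dec hs hβ hF.zz hF.uu hF.uz hF.gz hF.gu hF.gg y, tmul_add_right, tmul_add_right,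
        tmul_smul_right, tmul_smul_right, tmul_smul_right]
    exact LinearMap.congr_fun h v
  obtain ⟨a, ha⟩ : ∃ a, a = sl fB u v := ⟨_, rfl⟩
  obtain ⟨b, hb⟩ : ∃ b, b = sl fB g₁ v := ⟨_, rfl⟩
  have e := heig q
  rw [← hv] at e
  rw [← ha, ← hb, hvz] at hdec
  rw [hdec, Matrix.mulVec_add, Matrix.mulVec_add, hap, hap, hap, hBz, hBg, hBu] at e
  simp only [tmul_add_right, tmul_smul_right, smul_add] at e
  have hzu : fB z u = 1 := by rw [hs.herm, hF.uz, map_one]
  have hzg : fB z g₁ = 0 := hs.refl _ _ hF.gz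
  have hug : fB u g₁ = 0 := hs.refl _ _ hF.gu
  have eg := congrArg (sl fB g₁) e
  have eu := congrArg (sl fB u) e
  simp only [map_add, map_smul, hO.sl_tmul, hzg, hug, hF.gg, hzu, hF.gu, hF.uu, zero_smul, one_smul, smul_zero,
    add_zero, zero_add] at eg eu
  have hb' : b = μ • P q := by
    refine smul_right_injective _ hr0 ?_
    show r • b = r • μ • P q
    rw [smul_smul, hμ, mul_div_cancel₀ _ hr0]
    linear_combination (norm := module) -eg
  have ha' : a = lam • P q := by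
    refine smul_right_injective _ hθr' ?_
    show (r + 1 - θ) • a = (r + 1 - θ) • lam • P q
    rw [smul_smul, hlam, mul_div_cancel₀ _ hθr']
    rw [hb'] at eu
    linear_combination (norm := module) -eu
  rw [← hv, hdec, ha', hb', tmul_add_right, tmul_add_right, tmul_smul_right, tmul_smul_right, tmul_smul_left,
    tmul_smul_left]
  abel

end Cfsg.Agent.Classical.TensorPowForm
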