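import Cfsg.Agent.Lib.Classical.TensorPowForm.Kron
import Cfsg.Agent.Lib.Classical.TensorPowForm.Even
import Cfsg.Agent.Lib.Classical.TensorPowForm.FullFix
import Cfsg.Agent.Lib.Classical.TensorPowForm.PlaneEven
import Cfsg.Agent.Lib.Classical.TensorPow.Main
import Cfsg.Agent.Lib.Classical.MaxTensorHermApp

/-!
The stabilisers of tensor powers of unitary spaces: properness, maximality for factors of dimension at least four, or
three with a fixed element other than zero and one, and the transport to the standard special unitary group.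
-/

set_option autoImplicit false
set_option linter.unusedSectionVars false

namespace Cfsg.Agent.Classical.TensorPowForm

open Matrix Module MaxTv TensorMax TensorPow
open Cfsg.Agent.Classical.TensorHerm (isoSL exists_hyp herm_of_pow)

variable {F : Type*} [Field F] [Fintype F] {β : Type} [Fintype β] [DecidableEq β]

variable {σ : F ≃+* F} {c : F} {h : (β → F) → (β → F) → F}

/-- Maximality in the isometries of determinant one. -/
theorem maxAt_of_big (hT : TData σ c h) (h3 : 3 ≤ Fintype.card β)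
    (hbig : 4 ≤ Fintype.card β ∨ ∃ r : F, σ r = r ∧ r ≠ 0 ∧ r ≠ 1) :
    ∀ (t : ℕ) (κ : Type) [Fintype κ] [DecidableEq κ] [Nonempty κ], Fintype.card κ = t → MaxAt σ c h κ := by
  intro t
  induction t using Nat.strong_induction_on with
  | _ t ih =>
    intro κ _ _ _ hcard M hH hle hns g hg
    classical
    obtain ⟨i⟩ := ‹Nonempty κ›
    by_cases hsub : ∀ l : κ, l = i
    · exact one_of_subsingleton hsub g
    push Not at hsub
    obtain ⟨l₀, hl₀⟩ := hsub
    have ht : 2 ≤ Fintype.card κ := Fintype.one_lt_card_iff.2 ⟨l₀, i, hl₀⟩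
    have hC : Cx σ c h M := ⟨hT, hle, hH, h3, ht⟩
    have hscal : ∀ j, TensorHerm.Scal h (Mi M j) := fun j => by_contra fun hs => hns (by
      rcases hbig with h4 | ⟨r, hr, hr0, hr1⟩
      · exact hC.rich h4 hs
      · exact hC.rich_fix hr hr0 hr1 hs)
    have hM : Px σ c h M := ⟨hC, hbig, hscal, fun j => by
      haveI : Nonempty (Rst j) := by
        obtain ⟨l, hl⟩ := Fintype.exists_ne_of_one_lt_card (show 1 < Fintype.card κ by omega) j
        exact ⟨⟨l, hl⟩⟩
      exact ih _ (hcard ▸ Fintype.card_subtype_lt (x := j) (by simp)) (Rst j) rfl⟩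
    by_cases h2 : (2 : F) = 0
    · by_cases h4 : 4 ≤ Fintype.card β
      · exact hM.le_of_even h2 h4 hg
      · obtain ⟨r, hr, hr0, hr1⟩ := hbig.resolve_left h4
        obtain ⟨y, hy, hye⟩ := all_mem_plane (hM.pre i) (hM.scal2' i) (hM.tgt i) h2 (by omega) hr hr0 hr1
          (mem_Mi.2 hg)
        exact (sp i).injective hye ▸ hy
    · exact hM.le_of_odd h2 hg

/-- The isometries do not all stabilise the decomposition. -/
theorem gt_not_le_Wr (hT : TData σ c h) (hb : 2 ≤ Fintype.card β) {κ : Type} [Fintype κ] [DecidableEq κ]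
    (hκ : 2 ≤ Fintype.card κ) : ¬ GT (κ := κ) σ c h ≤ Wr F κ β := by
  classical
  intro hle
  have hh := hT.hh
  obtain ⟨z, u, hzz, huu, huz⟩ := exists_hyp hh hb
  obtain ⟨l₀, l₁, hl⟩ := Fintype.exists_pair_of_one_lt_card (show 1 < Fintype.card κ by omega)
  have hzu : h z u = 1 := by rw [hh.herm, huz, map_one]
  obtain ⟨τ, hτ, hτs⟩ := hh.exists_skew
  have haa : tf σ c h (ptens fun _ : κ => z) (ptens fun _ => z) = 0 := by
    rw [hT.tf_ptens, Finset.prod_eq_zero (Finset.mem_univ l₀) hzz, mul_zero]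
  obtain ⟨T, hTT, -, hTm⟩ := exists_herm_tv (hT.herm (κ := κ)) haa hτs
  obtain ⟨π, gs, hgs⟩ := hle hTT
  have h1 := congrArg (fun g : GL (κ → β) F => (g : Matrix (κ → β) (κ → β) F) *ᵥ ptens fun _ => u) hgs
  simp only [wgl_mulVec, hTm, Matrix.add_mulVec, Matrix.one_mulVec, Matrix.vecMulVec_mulVec, op_smul_eq_smul,
    smul_dotProduct, fn_dot (hT.herm (κ := κ)).toSesq, hT.tf_ptens, huz, Finset.prod_const_one, mul_one,
    smul_eq_mul] at h1
  -- the image would be pure
  set w : κ → β → F := fun l => (gs l : Matrix β β F) *ᵥ u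
  have key : ∀ ξ : κ → β → F, ∏ l, ξ l ⬝ᵥ w l = (∏ l, ξ l ⬝ᵥ u) + τ * c * ∏ l, ξ l ⬝ᵥ z := fun ξ => by
    have h2 := congrArg (ptens ξ ⬝ᵥ ·) h1
    simp only [dotProduct_add, dotProduct_smul, dot_ptens, smul_eq_mul] at h2
    exact h2.symm
  have hp := key fun _ => fn h z
  have hq := key fun _ => fn h u
  have hm := key (Function.update (fun _ => fn h u) l₀ (fn h z))
  simp only [fn_dot hh.toSesq, huz, hzz, hzu, huu, Finset.prod_const_one, Finset.prod_const, Finset.card_univ,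
    zero_pow (show Fintype.card κ ≠ 0 by omega), mul_zero, add_zero, zero_add, mul_one] at hp hq
  have hu0 : ∏ l, Function.update (fun _ : κ => fn h u) l₀ (fn h z) l ⬝ᵥ u = 0 :=
    Finset.prod_eq_zero (Finset.mem_univ l₁) (by rw [Function.update_of_ne (Ne.symm hl), fn_dot hh.toSesq, huu])
  have hz0 : ∏ l, Function.update (fun _ : κ => fn h u) l₀ (fn h z) l ⬝ᵥ z = 0 :=
    Finset.prod_eq_zero (Finset.mem_univ l₀) (by rw [Function.update_self, fn_dot hh.toSesq, hzz])
  rw [hu0, hz0, mul_zero, add_zero] at hm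
  obtain ⟨l, -, hl0⟩ := Finset.prod_eq_zero_iff.1 hm
  rcases eq_or_ne l l₀ with rfl | e
  · rw [Function.update_self, fn_dot hh.toSesq] at hl0
    exact one_ne_zero (hp.symm.trans (Finset.prod_eq_zero (Finset.mem_univ l) hl0))
  · rw [Function.update_of_ne e, fn_dot hh.toSesq] at hl0
    exact mul_ne_zero hτ hT.hc (hq.symm.trans (Finset.prod_eq_zero (Finset.mem_univ l) hl0))

/-- Transport to the standard special unitary group. -/
theorem unitary_wreath_maximal_of {n q k t : ℕ} (hF : Fintype.card F = q ^ 2) (hk : 2 ≤ k) (ht : 2 ≤ t)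
    (e : Fin n ≃ (Fin t → Fin k)) (P : GL (Fin n) F) (f₁ : (Fin k → F) → (Fin k → F) → F)
    (hf₁ : Geo.IsUnitaryFormPow q f₁)
    (hT : Geo.IsTensorPowerFormStructure (fun x : F => x ^ q) (hermForm n F q) f₁ e P)
    (hmax : ∀ c : F, TData (qEquiv hF) c f₁ → MaxAt (qEquiv hF) c f₁ (Fin t)) :
    Geo.IsMaximalIn (GU n F q ⊓ Geo.specialLinear (Fin n) F)
      (Geo.tensorWreathSubgroup k t e P ⊓ (GU n F q ⊓ Geo.specialLinear (Fin n) F)) := by
  classical
  obtain ⟨c, hc, hT⟩ := hT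
  set σ := qEquiv hF with hσ
  have h₁ := herm_of_pow hF hf₁
  have hh := herm_hermForm (n := n) hF
  set Φ : GL (Fin t → Fin k) F ≃* GL (Fin n) F := (Geo.glReindex e.symm).trans (MulAut.conj P) with hΦ
  let E : ((Fin t → Fin k) → F) → (Fin n → F) := fun x => (P : Matrix (Fin n) (Fin n) F) *ᵥ (x ∘ e)
  have hE : Function.Surjective E := fun y =>
    ⟨(((P⁻¹ : GL (Fin n) F) : Matrix (Fin n) (Fin n) F) *ᵥ y) ∘ e.symm, by
      show _ *ᵥ _ = y
      rw [Function.comp_assoc, Equiv.symm_comp_self, Function.comp_id, mulVec_inv_cancel]⟩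
  have hcompat : ∀ (g : GL (Fin t → Fin k) F) (x : (Fin t → Fin k) → F), (Φ g : Matrix (Fin n) (Fin n) F) *ᵥ E x =
      E ((g : Matrix (Fin t → Fin k) (Fin t → Fin k) F) *ᵥ x) := fun g x => by
    show ((P * Geo.glReindex e.symm g * P⁻¹ : GL (Fin n) F) : Matrix (Fin n) (Fin n) F) *ᵥ _ = _
    simp only [E, Units.val_mul, ← Matrix.mulVec_mulVec, inv_mulVec_cancel]
    congr 1
    show Matrix.reindexAlgEquiv F F e.symm (g : Matrix (Fin t → Fin k) (Fin t → Fin k) F) *ᵥ (x ∘ e) = _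
    funext i
    simp only [Matrix.mulVec, dotProduct, Matrix.reindexAlgEquiv_apply, Matrix.reindex_apply, Matrix.submatrix_apply,
      Equiv.symm_symm, Function.comp_apply]
    exact Equiv.sum_comp e (fun b => (g : Matrix (Fin t → Fin k) (Fin t → Fin k) F) (e i) b * x b)
  have hform : ∀ x y : (Fin t → Fin k) → F, hermForm n F q (E x) (E y) = tf σ c f₁ x y := fun x y => by
    rw [hT, tf]
    simp only [dotProduct, Matrix.mulVec, wm, Matrix.of_apply, Equiv.Perm.coe_one, id_eq, Finset.mul_sum,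
      Geo.gramMatrix, hσ, qEquiv_apply]
    exact Finset.sum_congr rfl fun a _ => Finset.sum_congr rfl fun b _ => by ring
  obtain ⟨a₁, a₂, -, -, ha⟩ := exists_hyp h₁ (by rw [Fintype.card_fin]; exact hk)
  have ha' : f₁ a₂ a₁ = 1 ∧ f₁ a₁ a₂ = 1 := ⟨ha, by rw [h₁.herm, ha, map_one]⟩
  have hpure : ∀ xs ys : Fin t → Fin k → F, hermForm n F q (E (ptens xs)) (E (ptens ys)) = c * ∏ l, f₁ (xs l) (ys l) := by
    intro xs ys
    have e' : (fun a => σ (ptens ys a)) = ptens (fun l b => σ (ys l b)) := funext fun a => map_prod σ _ _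
    rw [hform, tf, e', wm_mulVec, dot_ptens]
    simp only [Equiv.Perm.coe_one, id_eq, hσ, apply_gram h₁]
  have hσc : σ c = c := by
    have h3 := hh.herm (E (ptens fun _ => a₁)) (E (ptens fun _ => a₂))
    rw [hpure, hpure] at h3
    simp only [ha'.1, ha'.2, Finset.prod_const_one, mul_one] at h3
    exact h3.symm
  have hD : TData σ c f₁ := ⟨h₁, hc, hσc⟩
  have hdet : ∀ g, Φ g ∈ Geo.specialLinear (Fin n) F ↔ g ∈ Geo.specialLinear (Fin t → Fin k) F := fun g => by
    rw [TensorPow.mem_sl_iff, TensorPow.mem_sl_iff]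
    show ((P * Geo.glReindex e.symm g * P⁻¹ : GL (Fin n) F) : Matrix (Fin n) (Fin n) F).det = 1 ↔ _
    rw [Units.val_mul, Units.val_mul, Matrix.det_units_conj]
    show Matrix.det (Matrix.reindexAlgEquiv F F e.symm (g : Matrix (Fin t → Fin k) (Fin t → Fin k) F)) = 1 ↔ _
    rw [Matrix.det_reindexAlgEquiv]
  have hK : ∀ g, Φ g ∈ GU n F q ⊓ Geo.specialLinear (Fin n) F ↔ g ∈ GT (κ := Fin t) σ c f₁ := fun g => by
    rw [Subgroup.mem_inf, mem_GU, TensorHerm.mem_isoSL, hdet]
    refine and_congr ⟨fun h x y => ?_, fun h x y => ?_⟩ Iff.rfl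
    · rw [← hform, ← hform, ← hcompat, ← hcompat, h]
    · obtain ⟨s, rfl⟩ := hE x
      obtain ⟨s', rfl⟩ := hE y
      rw [hcompat, hcompat, hform, hform, h]
  have hW : ∀ g, Φ g ∈ Geo.tensorWreathSubgroup k t e P ↔ g ∈ Wr F (Fin t) (Fin k) := fun g => by
    rw [Geo.tensorWreathSubgroup, standard_eq, Subgroup.map_map]
    exact Subgroup.mem_map_iff_mem Φ.injective
  refine isMaximalIn_intro inf_le_right (fun h => ?_) fun M hHM hMK g hg hgH => ?_
  · refine gt_not_le_Wr hD (by rw [Fintype.card_fin]; exact hk) (κ := Fin t) (by rw [Fintype.card_fin]; exact ht)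
      fun a ha => ?_
    exact (hW a).1 (h ((hK a).2 ha)).1
  intro z hz
  obtain ⟨a, rfl⟩ := Φ.surjective z
  obtain ⟨b, rfl⟩ := Φ.surjective g
  have hb : b ∉ Wr F (Fin t) (Fin k) := fun h => hgH ⟨(hW b).2 h, hMK hg⟩
  by_contra hzM
  exact hb (hmax c (hσ ▸ hD) (M.comap Φ.toMonoidHom) (fun x hx => hHM ⟨(hW x).2 hx.1, (hK x).2 hx.2⟩)
    (fun x hx => (hK x).1 (hMK hx)) (fun h => hzM (h ((hK a).1 hz))) hg)

/-- Maximality for factors of dimension at least three, but not for three over the field of four elements. -/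
theorem unitary_wreath_maximal {n q k t : ℕ} (hF : Fintype.card F = q ^ 2) (hk : 3 ≤ k) (hkq : 4 ≤ k ∨ 3 ≤ q)
    (ht : 2 ≤ t) (e : Fin n ≃ (Fin t → Fin k)) (P : GL (Fin n) F) (f₁ : (Fin k → F) → (Fin k → F) → F)
    (hf₁ : Geo.IsUnitaryFormPow q f₁)
    (hT : Geo.IsTensorPowerFormStructure (fun x : F => x ^ q) (hermForm n F q) f₁ e P) :
    Geo.IsMaximalIn (GU n F q ⊓ Geo.specialLinear (Fin n) F)
      (Geo.tensorWreathSubgroup k t e P ⊓ (GU n F q ⊓ Geo.specialLinear (Fin n) F)) :=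
  haveI : Nonempty (Fin t) := ⟨⟨0, by omega⟩⟩
  unitary_wreath_maximal_of hF (by omega) ht e P f₁ hf₁ hT fun c hD => by
    refine maxAt_of_big hD (by rw [Fintype.card_fin]; exact hk) ?_ t (Fin t) (Fintype.card_fin t)
    refine hkq.imp (fun h => by rwa [Fintype.card_fin]) fun h3 => ?_
    obtain ⟨r, hr, hr0, hr1⟩ := TensorHerm.exists_fixed_ne hF h3
    exact ⟨r, hr, hr0, hr1⟩

end Cfsg.Agent.Classical.TensorPowForm
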