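import Cfsg.Agent.Lib.Classical.TensorPowForm.Cx
import Cfsg.Agent.Lib.Classical.TensorPowForm.Algebra
import Cfsg.Agent.Lib.Classical.MaxTensorHermFull
import Cfsg.Agent.Lib.Classical.MaxTensorHermRank

/-!
A root element with a non-scalar coefficient gives all isometries of determinant one.
-/

set_option autoImplicit false
set_option linter.unusedSectionVars false

open scoped Kronecker

namespace Cfsg.Agent.Classical.TensorPowForm

open Matrix Module MaxTv TensorMax TensorPow Overfield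
open Cfsg.Agent.Classical.TensorHerm (isoSL Pre Scal exists_hyp exists_flag exists_move mem_of_iso_all sl)
open Cfsg.Agent.Classical.TensorRoot (kg kg_apply kg_isKron)

variable {F : Type*} [Field F] [Fintype F] {κ β : Type} [Fintype κ] [DecidableEq κ] [Fintype β] [DecidableEq β]

local notation "X" => (κ → β)
local notation "Mn" => Matrix (κ → β) (κ → β) F
local notation "Mb" => Matrix β β F

variable {σ : F ≃+* F} {c : F} {h : (β → F) → (β → F) → F} {M : Subgroup (GL (κ → β) F)}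

/-- The coefficients of the root elements at the factor `i`. -/
def Coef (h : (β → F) → (β → F) → F) (M : Subgroup (GL (κ → β) F)) (i : κ)
    (D : ((Rst i → β) → F) →ₗ[F] ((Rst i → β) → F)) : Prop :=
  ∀ z, h z z = 0 → In (Mi M i) (rootMap z (fn h z) D)

/-- An isotropic vector orthogonal to neither of two isotropic vectors. -/
theorem exists_common_partner (hh : Herm σ h) {a b : β → F} (ha : h a a = 0) (ha0 : a ≠ 0) (hb : h b b = 0)
    (hb0 : b ≠ 0) : ∃ w, h w w = 0 ∧ h w a ≠ 0 ∧ h w b ≠ 0 ∧ w ≠ 0 := by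
  obtain ⟨u₁, hu₁, hu₁a⟩ := TensorHerm.exists_partner hh ha ha0
  obtain ⟨u₂, hu₂, hu₂b⟩ := TensorHerm.exists_partner hh hb hb0
  have ne : ∀ w, h w a ≠ 0 → w ≠ 0 := fun w hw e => hw (by rw [e, hh.toSesq.zero_left])
  by_cases h1 : h u₁ b = 0
  · by_cases h2 : h u₂ a = 0
    · obtain ⟨l, hl0, hl⟩ := hh.exists_coef (r := h u₂ u₁)
      have hw : h (u₁ + l • u₂) a = 1 := by rw [hh.add_left, hh.smul_left, hu₁a, h2, mul_zero, add_zero]
      exact ⟨u₁ + l • u₂, hh.add_smul_iso hu₁ hu₂ hl, by rw [hw]; exact one_ne_zero,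
        by rw [hh.add_left, hh.smul_left, h1, hu₂b, zero_add, mul_one]; exact hl0,
        ne _ (by rw [hw]; exact one_ne_zero)⟩
    · exact ⟨u₂, hu₂, h2, by rw [hu₂b]; exact one_ne_zero, ne _ h2⟩
  · exact ⟨u₁, hu₁, by rw [hu₁a]; exact one_ne_zero, h1, ne _ (by rw [hu₁a]; exact one_ne_zero)⟩

namespace Cx

variable (hM : Cx σ c h M) {i : κ}
include hM

local notation "Ea" => (((Rst i → β) → F) →ₗ[F] ((Rst i → β) → F))

theorem coef_of_in {z₀ : β → F} (hz₀ : h z₀ z₀ = 0) (hz₀0 : z₀ ≠ 0) {D : Ea}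
    (hD : In (Mi M i) (rootMap z₀ (fn h z₀) D)) : Coef h M i D := by
  intro z hz
  have hh := hM.data.hh
  rcases eq_or_ne z 0 with rfl | hz0
  · convert In.zero (M := Mi M i) using 1
    exact LinearMap.ext fun t => by rw [rootMap_apply, tmul_zero_right, LinearMap.zero_apply]
  obtain ⟨E, hE, d, hd, hEz⟩ := exists_move hh hz₀ hz₀0 hz hz0
  have h1 := hD.conj ((hM.pre i).kB hE)
  rw [conjL_kg_root hh D hE.1 z₀, hEz] at h1
  have e : rootMap (d • z) (fn h (d • z)) D = rootMap z (fn h z) ((d * σ d) • D) := LinearMap.ext fun t => by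
    simp only [rootMap_apply, fn_smul hh.toSesq, slice_smul, map_smul, LinearMap.smul_apply, tmul_smul_left,
      tmul_smul_right, smul_smul]
  rw [e] at h1
  have hn : σ (d * σ d)⁻¹ = (d * σ d)⁻¹ := by rw [map_inv₀, map_mul, hh.invol, mul_comm]
  have h2 := (hM.pre i).coef_fixed hz hz0 h1 hn
  rwa [smul_smul, inv_mul_cancel₀ (mul_ne_zero hd ((map_ne_zero σ).2 hd)), one_smul] at h2

theorem coef_add {D D' : Ea} (hD : Coef h M i D) (hD' : Coef h M i D') : Coef h M i (D + D') :=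
  fun z hz => (hM.pre i).coef_add hz (hD z hz) (hD' z hz)

theorem coef_sub {D D' : Ea} (hD : Coef h M i D) (hD' : Coef h M i D') : Coef h M i (D - D') :=
  fun z hz => (hM.pre i).coef_sub hz (hD z hz) (hD' z hz)

theorem coef_fixed {D : Ea} {r : F} (hr : σ r = r) (hD : Coef h M i D) : Coef h M i (r • D) := by
  intro z hz
  rcases eq_or_ne z 0 with rfl | hz0
  · convert In.zero (M := Mi M i) using 1
    exact LinearMap.ext fun t => by rw [rootMap_apply, tmul_zero_right, LinearMap.zero_apply]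
  exact (hM.pre i).coef_fixed hz hz0 (hD z hz) hr

/-- The bracket of two coefficients. -/
theorem coef_br (h4 : 4 ≤ Fintype.card β) (ν : F) {D₁ D₂ : Ea} (h₁ : Coef h M i D₁) (h₂ : Coef h M i D₂) :
    Coef h M i (σ ν • D₁.comp D₂ - ν • D₂.comp D₁) := by
  have hh := hM.data.hh
  obtain ⟨z₁, u₁, hz₁, -, hu₁z₁⟩ := exists_hyp hh (by omega)
  have hz₁0 : z₁ ≠ 0 := fun e => one_ne_zero (by rw [← hu₁z₁, e, hh.toSesq.zero_right])
  obtain ⟨-, b, w, -, -, hbb, hww, hwb, hbz, hwz, -, -⟩ := exists_flag hh h4 hz₁ hz₁0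
  have hzb := hh.refl _ _ hbz
  have hzw := hh.refl _ _ hwz
  have hbw : h b w = 1 := by rw [hh.herm, hwb, map_one]
  refine hM.coef_of_in hz₁ hz₁0 ?_
  -- elements at two orthogonal vectors
  have hpair : ∀ (x y : β → F) (D : Ea), h x x = 0 → h y y = 0 → h x y = 0 → Coef h M i D →
      In (Mi M i) (rootMap x (fn h y) D + rootMap y (fn h x) D) := by
    intro x y D hx hy hxy hD
    have hyx := hh.refl _ _ hxy
    have hs : h (x + y) (x + y) = 0 := by simp [hh.add_left, hh.add_right, hx, hy, hxy, hyx]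
    have h1 := ((hD _ hs).sub (hD x hx) (fun t => rootMap_comp_zero hh (by simp [hh.add_right, hx, hxy]) _ _ t)
      fun t => rootMap_comp_zero hh hx _ _ t).sub (hD y hy) (fun t => by
        rw [LinearMap.sub_apply, rootMap_comp_zero hh (by simp [hh.add_right, hy, hyx]), rootMap_comp_zero hh hyx,
          sub_zero]) fun t => rootMap_comp_zero hh hy _ _ t
    convert h1 using 1
    refine LinearMap.ext fun t => ?_
    simp only [LinearMap.add_apply, LinearMap.sub_apply, rootMap_apply, fn_add hh.toSesq, slice_add, map_add,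
      tmul_add_left, tmul_add_right]
    abel
  obtain ⟨g₁, hg₁, hg₁x⟩ := hpair z₁ b D₁ hz₁ hbb hzb h₁
  obtain ⟨g₂, hg₂, hg₂x⟩ := hpair (ν • z₁) w D₂ (by rw [hh.smul_left, hh.smul_right, hz₁, mul_zero, mul_zero]) hww
    (by rw [hh.smul_left, hzw, mul_zero]) h₂
  refine ⟨g₁ * g₂ * (g₂ * g₁)⁻¹, mul_mem (mul_mem hg₁ hg₂) (inv_mem (mul_mem hg₂ hg₁)), fun t => ?_⟩
  obtain ⟨s, rfl⟩ : ∃ s, ((g₂ * g₁ : GL ((Rst i → β) × β) F) : Matrix ((Rst i → β) × β) ((Rst i → β) × β) F) *ᵥ s = t :=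
    ⟨_, mulVec_inv_cancel _ t⟩
  rw [Matrix.mulVec_mulVec, ← Units.val_mul, inv_mul_cancel_right]
  simp only [Units.val_mul, ← Matrix.mulVec_mulVec, hg₁x, hg₂x, LinearMap.add_apply, rootMap_apply,
    fn_smul hh.toSesq, slice_smul, LinearMap.sub_apply, LinearMap.smul_apply, LinearMap.comp_apply, map_add,
    map_smul, slice_tmul, fn_dot hh.toSesq, hh.smul_left, hz₁, hzb, hbz, hzw, hwz, hbb, hww, hbw, hwb, mul_zero,
    mul_one, smul_dotProduct, smul_eq_mul, zero_smul, one_smul, smul_zero, add_zero, zero_add, map_zero, tmul_zero_left, tmul_add_left,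
    tmul_sub_left, tmul_smul_left, tmul_smul_right, sub_zero]
  module

theorem coef_conj {A : GL (Rst i → β) F} (hA : kg A (1 : GL β F) ∈ Mi M i) {D : Ea} (hD : Coef h M i D) :
    Coef h M i ((Matrix.toLin' (A : Matrix (Rst i → β) (Rst i → β) F)).comp
      (D.comp (Matrix.toLin' ((A⁻¹ : GL (Rst i → β) F) : Matrix (Rst i → β) (Rst i → β) F)))) :=
  fun z hz => (hM.pre i).coef_conj_of (hD z hz) hA

/-- A transposition of two factors in the group, fixing the factor `i`. -/
theorem swap_mem (j k : Rst i) : ∃ ks : κ → GL β F, (∀ l, ∃ r : F, (ks l : Mb) = r • 1) ∧ ks i = 1 ∧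
    wgl (Equiv.swap j.1 k.1) ks ∈ M := by
  classical
  have hh := hM.data.hh
  obtain ⟨ks, hks, hksi, hdet⟩ := exists_swap_sq (F := F) (β := β) j.2 k.2
  refine ⟨ks, fun l => ⟨(hks l).choose, (hks l).choose_spec.2⟩, hksi, hM.mem ⟨wgl_mem _ _, fun x y => ?_, (TensorPow.mem_sl_iff _).2 hdet⟩⟩
  have hV := hM.data.herm (κ := κ)
  obtain ⟨r, hr⟩ : ∃ r : κ → F, ∀ l, (ks l : Mb) = r l • 1 := ⟨fun l => (hks l).choose, fun l => (hks l).choose_spec.2⟩
  obtain ⟨μ, hμ⟩ : ∃ μ, μ = ∏ l, r l * σ (r l) := ⟨_, rfl⟩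
  have hpure : ∀ xs ys : κ → β → F, tf σ c h ((wgl (Equiv.swap j.1 k.1) ks : Mn) *ᵥ ptens xs)
      ((wgl (Equiv.swap j.1 k.1) ks : Mn) *ᵥ ptens ys) = μ * tf σ c h (ptens xs) (ptens ys) := fun xs ys => by
    rw [wgl_mulVec, wgl_mulVec, hM.data.tf_ptens, hM.data.tf_ptens]
    simp only [hr, Matrix.smul_mulVec, Matrix.one_mulVec, hh.smul_left, hh.smul_right, ← mul_assoc]
    rw [Finset.prod_mul_distrib, Equiv.prod_comp (Equiv.swap j.1 k.1) fun l => h (xs l) (ys l), ← hμ]
    ring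
  have hall : ∀ x y, tf σ c h ((wgl (Equiv.swap j.1 k.1) ks : Mn) *ᵥ x)
      ((wgl (Equiv.swap j.1 k.1) ks : Mn) *ᵥ y) = μ * tf σ c h x y := by
    have h1 : ∀ x ys, tf σ c h ((wgl (Equiv.swap j.1 k.1) ks : Mn) *ᵥ x)
        ((wgl (Equiv.swap j.1 k.1) ks : Mn) *ᵥ ptens ys) = μ * tf σ c h x (ptens ys) := fun x ys => by
      have := LinearMap.congr_fun (ext_ptens
        (L := (hV.toSesq.lin ((wgl (Equiv.swap j.1 k.1) ks : Mn) *ᵥ ptens ys)).comp
          (Matrix.toLin' (wgl (Equiv.swap j.1 k.1) ks : Mn)))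
        (L' := μ • hV.toSesq.lin (ptens ys)) fun xs => by
          simp only [LinearMap.comp_apply, Matrix.toLin'_apply, hV.toSesq.lin_apply, LinearMap.smul_apply,
            smul_eq_mul, hpure]) x
      simpa only [LinearMap.comp_apply, Matrix.toLin'_apply, hV.toSesq.lin_apply, LinearMap.smul_apply,
        smul_eq_mul] using this
    intro x y
    have := LinearMap.congr_fun (ext_ptens
      (L := (hV.toSesq.lin ((wgl (Equiv.swap j.1 k.1) ks : Mn) *ᵥ x)).comp
        (Matrix.toLin' (wgl (Equiv.swap j.1 k.1) ks : Mn)))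
      (L' := σ μ • hV.toSesq.lin x) fun ys => by
        simp only [LinearMap.comp_apply, Matrix.toLin'_apply, hV.toSesq.lin_apply, LinearMap.smul_apply, smul_eq_mul]
        rw [hV.herm, h1, map_mul, ← hV.herm]) y
    simp only [LinearMap.comp_apply, Matrix.toLin'_apply, hV.toSesq.lin_apply, LinearMap.smul_apply,
      smul_eq_mul] at this
    rw [hV.herm, this, map_mul, hV.invol, ← hV.herm]
  suffices hμ1 : μ = 1 by rw [hall, hμ1, one_mul]
  -- the multiplier
  rw [hμ]
  refine Finset.prod_eq_one fun l _ => ?_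
  obtain ⟨d, hd, hdl⟩ := hks l
  obtain ⟨b₀⟩ : Nonempty β := Fintype.card_pos_iff.1 (by have := hM.hb; omega)
  have hrd : r l = d := by simpa using congrFun (congrFun ((hr l).symm.trans hdl) b₀) b₀
  rcases mul_self_eq_one_iff.1 hd with e | e <;> simp [hrd, e]

/-- Coefficients give a set for the algebraic lemma. -/
theorem palg (i : κ) :
    PAlg σ h fun R : Matrix (Rst i → β) (Rst i → β) F => Coef h M i (Matrix.toLin' R) where
  sub {R S} hR hS := by rw [map_sub]; exact hM.coef_sub hR hS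
  fixed {R r} hr hR := by rw [map_smul]; exact hM.coef_fixed hr hR
  conj {R} j E hE hR := by
    have h1 := hM.coef_conj (hM.kgA_mem (j := j) hE) hR
    rw [← map_inv (TensorPow.pe j) E, ← et_val, ← et_val] at h1
    rw [Matrix.toLin'_mul, Matrix.toLin'_mul, LinearMap.comp_assoc]
    exact h1
  swap {gs r} j k hR := by
    obtain ⟨ks, hks, hksi, hmem⟩ := hM.swap_mem j k
    have hσi : Equiv.swap j.1 k.1 i = i := Equiv.swap_apply_of_ne_of_ne (Ne.symm j.2) (Ne.symm k.2)
    have h1 : kg (wgl (rperm (Equiv.swap j.1 k.1) hσi) fun l => ks l.1) (1 : GL β F) ∈ Mi M i := by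
      have := mem_Mi (i := i) |>.2 hmem
      rwa [sp_wgl _ hσi, hksi, k2_eq_kg] at this
    have h2 := hM.coef_conj h1 hR
    rw [← Matrix.toLin'_mul, ← Matrix.toLin'_mul, Matrix.smul_mul, Matrix.mul_smul, ← mul_assoc, wgl_inv, wgl_val,
      wgl_val, wm_mul, wm_mul, one_mul, inv_mul_cancel] at h2
    convert h2 using 4
    have hperm : rperm (Equiv.swap j.1 k.1) hσi = Equiv.swap j k := Equiv.ext fun l => Subtype.ext (by
      show Equiv.swap j.1 k.1 l.1 = (Equiv.swap j k l).1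
      simp only [Equiv.swap_apply_def, Subtype.ext_iff]
      split_ifs <;> rfl)
    refine funext fun l => ?_
    simp only [Equiv.Perm.coe_inv, Function.comp_apply, one_mul, hperm, Equiv.symm_apply_apply]
    obtain ⟨d, hdl⟩ := hks l.1
    have h3 : (ks l.1 : Mb) * (((ks l.1)⁻¹ : GL β F) : Mb) = 1 := by
      rw [← Units.val_mul, mul_inv_cancel, Units.val_one]
    rw [hdl, Matrix.smul_mul, one_mul] at h3
    rw [hdl, Matrix.smul_mul, one_mul, Matrix.smul_mul, ← Matrix.mul_smul, h3, mul_one]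

/-- Coefficients give a set for the algebraic lemma. -/
theorem salg (h4 : 4 ≤ Fintype.card β) (i : κ) :
    SAlg σ h fun R : Matrix (Rst i → β) (Rst i → β) F => Coef h M i (Matrix.toLin' R) where
  toPAlg := hM.palg i
  br {R S} ν hR hS := by
    rw [map_sub, map_smul, map_smul, Matrix.toLin'_mul, Matrix.toLin'_mul]
    exact hM.coef_br h4 ν hR hS

/-- A root element with a non-scalar coefficient gives all isometries of determinant one. -/
theorem rich (h4 : 4 ≤ Fintype.card β) (hns : ¬ Scal h (Mi M i)) : GT σ c h ≤ M := by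
  classical
  have hh := hM.data.hh
  have hA := hM.data.herm (κ := Rst i)
  have hO := hM.pre i
  have hne : ∃ D : Ea, Coef h M i D ∧ ∀ r : F, ∃ x, D x ≠ r • x := by
    unfold TensorHerm.Scal at hns
    push Not at hns
    obtain ⟨z, hz, hz0, D, hD, hnsc⟩ := hns
    exact ⟨D, hM.coef_of_in hz hz0 hD, hnsc⟩
  obtain ⟨D₀, hD₀, hns₀⟩ := hne
  haveI : Nonempty β := Fintype.card_pos_iff.1 (by omega)
  obtain ⟨vs, r, hr, hvs, hvsP⟩ := exists_top hh h4 (hM.salg h4 i) (R₀ := LinearMap.toMatrix' D₀)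
    (by rwa [Matrix.toLin'_toMatrix']) fun r e => by
      obtain ⟨x, hx⟩ := hns₀ r
      refine hx ?_
      rw [← Matrix.toLin'_toMatrix' D₀, e, map_smul, Matrix.toLin'_one]
      rfl
  -- projections at pure isotropic tensors
  let rA : ((Rst i → β) → F) → ((Rst i → β) → F) → Ea := fun a b => (hA.toSesq.lin b).smulRight a
  have hrA : ∀ a b x, rA a b x = tf σ c h x b • a := fun a b x => rfl
  have hpure : ∀ us : Rst i → β → F, (∀ l, h (us l) (us l) = 0 ∧ us l ≠ 0) →
      ∃ d : F, d ≠ 0 ∧ Coef h M i (d • rA (ptens us) (ptens us)) := by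
    intro us hus
    have e0 : ∀ ws : Rst i → β → F, iG h Finset.univ ws = fun l => iN h (ws l) := fun ws =>
      funext fun l => if_pos (Finset.mem_univ l)
    obtain ⟨d, hd, -, hd'⟩ := change hh (hM.salg h4 i).toPAlg (J := Finset.univ) (vs := vs) (us := us)
      (by rw [e0]; exact hvsP) (fun l _ => hvs l) fun l _ => hus l
    refine ⟨d * r / c, div_ne_zero (mul_ne_zero hd hr) hM.data.hc, ?_⟩
    rw [e0] at hd'
    convert hd' using 1
    rw [map_smul]
    refine ext_ptens fun xs => ?_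
    simp only [LinearMap.smul_apply, Matrix.toLin'_apply, wm_mulVec, hrA, hM.data.tf_ptens, smul_smul, iN,
      Matrix.vecMulVec_mulVec, fn_dot hh.toSesq, Equiv.Perm.coe_one, id_eq, op_smul_eq_smul]
    funext a
    simp only [Pi.smul_apply, smul_eq_mul, ptens, Finset.prod_mul_distrib]
    field_simp [hM.data.hc]
  -- the span of the coefficients
  obtain ⟨ω, hω⟩ := hh.exists_moved
  have hωne : ω - σ ω ≠ 0 := sub_ne_zero.2 (Ne.symm hω)
  have hdec : ∀ l : F, ∃ r₀ r₁ : F, σ r₀ = r₀ ∧ σ r₁ = r₁ ∧ l = r₀ + r₁ * ω := fun l => by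
    have h1 : σ ((l - σ l) / (ω - σ ω)) = (l - σ l) / (ω - σ ω) := by
      rw [map_div₀, map_sub, map_sub, hh.invol, hh.invol, ← neg_sub, ← neg_sub ω, neg_div_neg_eq]
    refine ⟨l - (l - σ l) / (ω - σ ω) * ω, _, ?_, h1, by ring⟩
    rw [map_sub, map_mul, h1]
    field_simp
    ring
  obtain ⟨p₀, p₁, hp₀, hp₁, hω2⟩ := hdec (ω * ω)
  let 𝒜 : Submodule F Ea :=
    { carrier := {D | ∃ D₁ D₂, Coef h M i D₁ ∧ Coef h M i D₂ ∧ D = D₁ + ω • D₂}
      zero_mem' := ⟨0, 0, by simpa using hM.coef_sub hD₀ hD₀, by simpa using hM.coef_sub hD₀ hD₀, by simp⟩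
      add_mem' := by
        rintro _ _ ⟨D₁, D₂, h₁, h₂, rfl⟩ ⟨D₁', D₂', h₁', h₂', rfl⟩
        exact ⟨D₁ + D₁', D₂ + D₂', hM.coef_add h₁ h₁', hM.coef_add h₂ h₂', by rw [smul_add]; abel⟩
      smul_mem' := by
        rintro l _ ⟨D₁, D₂, h₁, h₂, rfl⟩
        obtain ⟨r₀, r₁, hr₀, hr₁, rfl⟩ := hdec l
        refine ⟨r₀ • D₁ + (r₁ * p₀) • D₂, r₁ • D₁ + (r₀ + r₁ * p₁) • D₂,
          hM.coef_add (hM.coef_fixed hr₀ h₁) (hM.coef_fixed (by rw [map_mul, hr₁, hp₀]) h₂),
          hM.coef_add (hM.coef_fixed hr₁ h₁) (hM.coef_fixed (by rw [map_add, map_mul, hr₀, hr₁, hp₁]) h₂), ?_⟩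
        match_scalars
        · ring
        · linear_combination r₁ * hω2 }
  have hin : ∀ D, Coef h M i D → D ∈ 𝒜 := fun D hD =>
    ⟨D, 0, hD, by simpa using hM.coef_sub hD hD, by simp⟩
  have hmul : ∀ D ∈ 𝒜, ∀ D' ∈ 𝒜, D.comp D' ∈ 𝒜 := by
    have h2 : ∀ D D', Coef h M i D → Coef h M i D' → D.comp D' ∈ 𝒜 := fun D D' hD hD' => by
      have e : D.comp D' = (σ ω - ω)⁻¹ •
          (σ ω • D.comp D' - ω • D'.comp D - ω • (σ (1 : F) • D.comp D' - (1 : F) • D'.comp D)) := by
        rw [map_one, one_smul, one_smul, eq_inv_smul_iff₀ (sub_ne_zero.2 hω)]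
        module
      rw [e]
      exact 𝒜.smul_mem _ (𝒜.sub_mem (hin _ (hM.coef_br h4 ω hD hD'))
        (𝒜.smul_mem _ (hin _ (hM.coef_br h4 1 hD hD'))))
    rintro _ ⟨D₁, D₂, h₁, h₂, rfl⟩ _ ⟨D₁', D₂', h₁', h₂', rfl⟩
    simp only [LinearMap.add_comp, LinearMap.comp_add, LinearMap.smul_comp, LinearMap.comp_smul]
    repeat' first | apply 𝒜.add_mem | apply 𝒜.smul_mem | apply h2 | assumption
  have hdiag : ∀ us : Rst i → β → F, (∀ l, h (us l) (us l) = 0 ∧ us l ≠ 0) → rA (ptens us) (ptens us) ∈ 𝒜 :=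
    fun us hus => by
      obtain ⟨d, hd, hd'⟩ := hpure us hus
      simpa [smul_smul, hd] using 𝒜.smul_mem d⁻¹ (hin _ hd')
  have hiso : ∀ us ws : Rst i → β → F, (∀ l, h (us l) (us l) = 0 ∧ us l ≠ 0) →
      (∀ l, h (ws l) (ws l) = 0 ∧ ws l ≠ 0) → rA (ptens us) (ptens ws) ∈ 𝒜 := by
    intro us ws hus hws
    choose ps hps hpsu hpsw hps0 using fun l =>
      exists_common_partner hh (hus l).1 (hus l).2 (hws l).1 (hws l).2
    obtain ⟨e, he⟩ : ∃ e, e = tf σ c h (ptens ps) (ptens us) * tf σ c h (ptens ws) (ptens ps) := ⟨_, rfl⟩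
    have he0 : e ≠ 0 := by
      rw [he, hM.data.tf_ptens, hM.data.tf_ptens]
      refine mul_ne_zero (mul_ne_zero hM.data.hc (Finset.prod_ne_zero_iff.2 fun l _ => hpsu l))
        (mul_ne_zero hM.data.hc (Finset.prod_ne_zero_iff.2 fun l _ => fun h0 => hpsw l (hh.refl _ _ h0)))
    have e1 : (rA (ptens us) (ptens us)).comp ((rA (ptens ps) (ptens ps)).comp (rA (ptens ws) (ptens ws))) =
        e • rA (ptens us) (ptens ws) := LinearMap.ext fun x => by
      simp only [LinearMap.comp_apply, hrA, LinearMap.smul_apply, map_smul, smul_smul, he, hA.smul_left]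
      congr 1
      ring
    have h2 := 𝒜.smul_mem e⁻¹ (hmul _ (hdiag us hus) _ (hmul _ (hdiag ps fun l => ⟨hps l, hps0 l⟩) _ (hdiag ws hws)))
    rwa [e1, smul_smul, inv_mul_cancel₀ he0, one_smul] at h2
  have hgen : ∀ p : Submodule F (β → F), (∀ v, (h v v = 0 ∧ v ≠ 0) → v ∈ p) → p = ⊤ := fun p hp =>
    eq_top_iff.2 fun v _ => mem_of_iso_all hh (by omega) (fun w hw => by
      rcases eq_or_ne w 0 with rfl | hw0
      · exact zero_mem p
      · exact hp w ⟨hw, hw0⟩) v
  have htop : ∀ S : Submodule F ((Rst i → β) → F),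
      (∀ us : Rst i → β → F, (∀ l, h (us l) (us l) = 0 ∧ us l ≠ 0) → ptens us ∈ S) → ∀ x, x ∈ S := fun S hS x => by
    rw [← Finset.univ_sum_single x]
    refine S.sum_mem fun a _ => ?_
    rw [show (Pi.single a (x a) : (Rst i → β) → F) = x a • Pi.single a 1 by
      rw [← Pi.single_smul, smul_eq_mul, mul_one], ← ptens_single]
    exact S.smul_mem _ (ptens_mem_of hgen hS _)
  have hall : ∀ a, rA a a ∈ 𝒜 := by
    have h1 : ∀ ws : Rst i → β → F, (∀ l, h (ws l) (ws l) = 0 ∧ ws l ≠ 0) → ∀ a, rA a (ptens ws) ∈ 𝒜 :=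
      fun ws hws a => htop
        { carrier := {a | rA a (ptens ws) ∈ 𝒜}
          add_mem' := fun {a b} ha hb => by
            have e : rA (a + b) (ptens ws) = rA a (ptens ws) + rA b (ptens ws) := LinearMap.ext fun x => by
              simp only [hrA, LinearMap.add_apply, smul_add]
            show rA (a + b) (ptens ws) ∈ 𝒜
            rw [e]; exact 𝒜.add_mem ha hb
          zero_mem' := by
            show rA 0 (ptens ws) ∈ 𝒜
            convert 𝒜.zero_mem
            exact LinearMap.ext fun x => by simp [hrA]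
          smul_mem' := fun r a ha => by
            have e : rA (r • a) (ptens ws) = r • rA a (ptens ws) := LinearMap.ext fun x => by
              simp only [hrA, LinearMap.smul_apply, smul_smul, mul_comm]
            show rA (r • a) (ptens ws) ∈ 𝒜
            rw [e]; exact 𝒜.smul_mem r ha }
        (fun us hus => hiso us ws hus hws) a
    intro a
    exact htop
      { carrier := {b | rA a b ∈ 𝒜}
        add_mem' := fun {b b'} hb hb' => by
          have e : rA a (b + b') = rA a b + rA a b' := LinearMap.ext fun x => by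
            simp only [hrA, LinearMap.add_apply, hA.add_right, add_smul]
          show rA a (b + b') ∈ 𝒜
          rw [e]; exact 𝒜.add_mem hb hb'
        zero_mem' := by
          show rA a 0 ∈ 𝒜
          convert 𝒜.zero_mem
          exact LinearMap.ext fun x => by simp [hrA, hA.toSesq.zero_right]
        smul_mem' := fun r b hb => by
          have e : rA a (r • b) = σ r • rA a b := LinearMap.ext fun x => by
            simp only [hrA, LinearMap.smul_apply, hA.smul_right, smul_smul]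
          show rA a (r • b) ∈ 𝒜
          rw [e]; exact 𝒜.smul_mem _ hb }
      (fun ws hws => h1 ws hws a) a
  -- skew members are coefficients
  have hskew : ∀ D ∈ 𝒜, (∀ x y, tf σ c h (D x) y + tf σ c h x (D y) = 0) → Coef h M i D := by
    rintro _ ⟨D₁, D₂, h₁, h₂, rfl⟩ hs
    obtain ⟨z, u, hz, -, huz⟩ := exists_hyp hh (by omega)
    have hz0 : z ≠ 0 := fun e => one_ne_zero (by rw [← huz, e, hh.toSesq.zero_right])
    have s1 := hO.coef_skew hz hz0 (h₁ z hz)
    have s2 := hO.coef_skew hz hz0 (h₂ z hz)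
    have hD2 : D₂ = 0 := LinearMap.ext fun x => hA.eq_zero _ fun y => hA.refl _ _ (by
      have h3 := hs x y
      simp only [LinearMap.add_apply, LinearMap.smul_apply, hA.add_left, hA.add_right, hA.smul_left,
        hA.smul_right] at h3
      have h4 : (ω - σ ω) * tf σ c h (D₂ x) y = 0 := by linear_combination h3 - s1 x y - σ ω * s2 x y
      exact (mul_eq_zero.1 h4).resolve_left hωne)
    rwa [hD2, smul_zero, add_zero]
  -- transvection groups
  intro g hg
  rw [← mem_Mi (i := i)]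
  refine hO.full_of_upt (fun a z _ hz => fun d hd => ?_) (Or.inl h4) ((hM.data.tfs_sp i).2 hg)
  obtain ⟨t, ht, htx⟩ := hskew (d • rA a a) (𝒜.smul_mem d (hall a)) (fun x y => by
    simp only [LinearMap.smul_apply, hrA, hA.smul_left, hA.smul_right, smul_smul, map_mul]
    rw [← hA.herm]
    linear_combination (tf σ c h x a * tf σ c h a y) * hd) z hz
  refine ⟨t, ht, fun s => ?_⟩
  rw [htx, rootMap_apply, hO.f_sl]
  simp only [LinearMap.smul_apply, hrA, smul_smul, tmul_smul_left]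
  rfl

end Cx

end Cfsg.Agent.Classical.TensorPowForm
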