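import Cfsg.Agent.Lib.Classical.TensorPowForm.Rich
import Cfsg.Agent.Lib.Classical.TensorPowForm.AlgebraFix
import Cfsg.Agent.Lib.Classical.MaxTensorHermThreeBase

/-!
With a fixed element other than zero and one, a root element with a non-scalar coefficient gives all isometries of
determinant one.
-/

set_option autoImplicit false
set_option linter.unusedSectionVars false

open scoped Kronecker

namespace Cfsg.Agent.Classical.TensorPowForm

open Matrix Module MaxTv TensorMax TensorPow Overfield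
open Cfsg.Agent.Classical.TensorHerm (isoSL Pre Scal exists_hyp mem_of_iso_all sl rSub rSub_of_upt rSub_absorb)
open Cfsg.Agent.Classical.TensorRoot (kg kg_apply)

variable {F : Type*} [Field F] [Fintype F] {κ β : Type} [Fintype κ] [DecidableEq κ] [Fintype β] [DecidableEq β]

local notation "X" => (κ → β)
local notation "V" => ((κ → β) → F)
local notation "Mn" => Matrix (κ → β) (κ → β) F
local notation "Mb" => Matrix β β F

/-- Multilinearity: pure tensors with entries in spanning sets given for each factor. -/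
theorem ptens_mem_of_slots {S : Submodule F V} {P : κ → (β → F) → Prop}
    (hP : ∀ l, ∀ p : Submodule F (β → F), (∀ v, P l v → v ∈ p) → p = ⊤)
    (hS : ∀ xs : κ → β → F, (∀ l, P l (xs l)) → ptens xs ∈ S) (xs : κ → β → F) : ptens xs ∈ S := by
  suffices key : ∀ (s : Finset κ) (xs : κ → β → F), (∀ l ∉ s, P l (xs l)) → ptens xs ∈ S from
    key Finset.univ xs fun l hl => absurd (Finset.mem_univ l) hl
  intro s
  induction s using Finset.induction_on with
  | empty => exact fun xs hxs => hS xs fun l => hxs l (Finset.notMem_empty l)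
  | insert a s ha ih =>
    intro xs hxs
    let L : (β → F) →ₗ[F] V :=
      { toFun := fun v => ptens (Function.update xs a v)
        map_add' := fun v w => funext fun b => by
          simp only [ptens_update, Pi.add_apply, add_mul]
        map_smul' := fun r v => funext fun b => by
          simp only [ptens_update, Pi.smul_apply, smul_eq_mul, RingHom.id_apply, mul_assoc] }
    have htop : S.comap L = ⊤ := hP a _ fun v hv => ih _ fun l hl => by
      by_cases e : l = a
      · subst e; rwa [Function.update_self]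
      · rw [Function.update_of_ne e]; exact hxs l (by simp [e, hl])
    have hmem : L (xs a) ∈ S := (htop ▸ Submodule.mem_top : xs a ∈ S.comap L)
    simpa [L] using hmem

theorem mem_top_of_ptens {S : Submodule F V} (hS : ∀ xs : κ → β → F, ptens xs ∈ S) (t : V) : t ∈ S := by
  rw [← Finset.univ_sum_single t]
  refine S.sum_mem fun a _ => ?_
  rw [show (Pi.single a (t a) : V) = t a • Pi.single a 1 by rw [← Pi.single_smul, smul_eq_mul, mul_one],
    ← ptens_single]
  exact S.smul_mem _ (hS _)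

theorem reindex_one_add (i : κ) (r : F) (G : κ → Mb) :
    Matrix.reindex (spE i) (spE i) ((1 : Mn) + r • wm 1 G) =
      1 + r • (wm 1 (fun j : Rst i => G j.1) ⊗ₖ G i) := by
  rw [← tmul_mulVec_wm]
  ext a b
  simp [Matrix.one_apply]

/-- Conjugation by a permutation with scalar components. -/
theorem wgl_conj_one_add {π : Equiv.Perm κ} {ks : κ → GL β F} (hks : ∀ l, ∃ c : F, (ks l : Mb) = c • 1)
    (r : F) (G : κ → Mb) {g : GL X F} (hg : (g : Mn) = 1 + r • wm 1 G) :
    ((wgl π ks * g * (wgl π ks)⁻¹ : GL X F) : Mn) = 1 + r • wm 1 (G ∘ π) := by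
  rw [Units.val_mul, Units.val_mul, hg, mul_add, add_mul, mul_one, ← Units.val_mul, mul_inv_cancel, Units.val_one,
    Matrix.mul_smul, Matrix.smul_mul, wgl_inv, wgl_val, wgl_val, wm_mul, wm_mul]
  congr 2
  refine wm_congr (by rw [one_mul, inv_mul_cancel]) fun l => ?_
  simp only [Equiv.Perm.coe_inv, Function.comp_apply, one_mul, Equiv.symm_apply_apply]
  obtain ⟨c, hc⟩ := hks l
  have h3 : (ks l : Mb) * (((ks l)⁻¹ : GL β F) : Mb) = 1 := by rw [← Units.val_mul, mul_inv_cancel, Units.val_one]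
  rw [hc, Matrix.smul_mul, one_mul] at h3
  rw [hc, Matrix.smul_mul, one_mul, Matrix.smul_mul, ← Matrix.mul_smul, h3, mul_one]

variable {σ : F ≃+* F} {c : F} {h : (β → F) → (β → F) → F} {M : Subgroup (GL (κ → β) F)}

/-- Transvection groups seen at a factor. -/
theorem upt_of_slot {i : κ} {v : V} (hv : UPt σ (tfs σ c h i) (Mi M i) (spV i v)) : UPt σ (tf σ c h) M v := by
  intro d hd
  obtain ⟨_, ⟨t, ht, rfl⟩, htx⟩ := hv d hd
  refine ⟨t, ht, fun x => (spV i).injective ?_⟩
  rw [← sp_mulVec, map_add, map_smul]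
  refine (htx _).trans ?_
  rw [tfs, LinearEquiv.symm_apply_apply, LinearEquiv.symm_apply_apply]

theorem upt_to_slot {i : κ} {v : V} (hv : UPt σ (tf σ c h) M v) : UPt σ (tfs σ c h i) (Mi M i) (spV i v) := by
  intro d hd
  obtain ⟨t, ht, htx⟩ := hv d hd
  refine ⟨sp i t, mem_Mi.2 ht, fun x => ?_⟩
  obtain ⟨y, rfl⟩ := (spV i).surjective x
  rw [sp_mulVec, htx, map_add, map_smul, tfs, LinearEquiv.symm_apply_apply, LinearEquiv.symm_apply_apply]

namespace Cx

variable (hM : Cx σ c h M) {i : κ}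
include hM

local notation "Ea" => (((Rst i → β) → F) →ₗ[F] ((Rst i → β) → F))

/-- The element of the group with a product coefficient at the vector `z`. -/
theorem exists_glob {z : β → F} {gs : Rst i → Mb} {r : F}
    (hD : In (Mi M i) (rootMap z (fn h z) (Matrix.toLin' (r • wm 1 gs)))) :
    ∃ g ∈ M, (g : Mn) = 1 + r • wm 1 (fun l => if hl : l = i then iN h z else gs ⟨l, hl⟩) := by
  classical
  obtain ⟨_, ⟨g, hg, rfl⟩, hgx⟩ := hD
  refine ⟨g, hg, ?_⟩
  apply (Matrix.reindex (spE i) (spE i)).injective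
  rw [← sp_val, reindex_one_add, dif_pos rfl,
    show (fun j : Rst i => if hl : j.1 = i then iN h z else gs ⟨j.1, hl⟩) = gs from funext fun j => dif_neg j.2]
  refine Matrix.ext_iff_mulVec.2 fun t => ?_
  refine (hgx t).trans ?_
  rw [Matrix.add_mulVec, Matrix.one_mulVec]
  congr 1
  rw [← Matrix.toLin'_apply]
  refine (LinearMap.congr_fun (f := Matrix.toLin' (r • (wm 1 gs ⊗ₖ iN h z)))
    (g := rootMap z (fn h z) (Matrix.toLin' (r • wm 1 gs))) (ext_tmul fun x y => ?_) t).symm
  rw [Matrix.toLin'_apply, Matrix.smul_mulVec, kronecker_mulVec, rootMap_apply, slice_tmul, map_smul,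
    map_smul, LinearMap.smul_apply, Matrix.toLin'_apply, iN, Matrix.vecMulVec_mulVec, op_smul_eq_smul, tmul_smul_right,
    tmul_smul_left, tmul_smul_left, smul_comm]

/-- A larger set of pure factors. -/
theorem grow_fix {r₀ : F} (hr₀ : σ r₀ = r₀) (hr₀0 : r₀ ≠ 0) (hr₀1 : r₀ ≠ 1) (J : Finset (Rst i))
    (vs : Rst i → β → F) (r : F) (hr : r ≠ 0) (hR : Coef h M i (Matrix.toLin' (r • wm 1 (iG h J vs))))
    (hvs : ∀ l ∈ J, h (vs l) (vs l) = 0 ∧ vs l ≠ 0) (j : Rst i) (hj : j ∈ J) (l : Rst i) (hl : l ∉ J) :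
    ∃ (J' : Finset (Rst i)) (us : Rst i → β → F) (r' : F), r' ≠ 0 ∧ J.card < J'.card ∧
      (∀ l ∈ J', h (us l) (us l) = 0 ∧ us l ≠ 0) ∧ Coef h M i (Matrix.toLin' (r' • wm 1 (iG h J' us))) := by
  classical
  have hh := hM.data.hh
  have hb := hM.hb
  have hP := hM.palg i
  obtain ⟨z, w, hzz, -, hwz⟩ := exists_hyp hh (by omega)
  have hz0 : z ≠ 0 := fun e => one_ne_zero (by rw [← hwz, e, hh.toSesq.zero_right])
  -- partners
  have hus : ∀ x, ∃ u : β → F, x ∈ J → h u u = 0 ∧ u ≠ 0 ∧ h u (vs x) = 1 := fun x => by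
    by_cases hx : x ∈ J
    · obtain ⟨u, huu, huv⟩ := TensorHerm.exists_partner hh (hvs x hx).1 (hvs x hx).2
      exact ⟨u, fun _ => ⟨huu, fun e => one_ne_zero (by rw [← huv, e, hh.toSesq.zero_left]), huv⟩⟩
    · exact ⟨0, fun a => absurd a hx⟩
  choose us hus using hus
  obtain ⟨d, hd, -, hd'⟩ := change hh hP hR hvs fun x hx => ⟨(hus x hx).1, (hus x hx).2.1⟩
  obtain ⟨g, hg, hgm⟩ := hM.exists_glob (hd' z hzz)
  -- exchange the factor `i` with `l`
  have hji : i ≠ j.1 := Ne.symm j.2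
  have hlj : l.1 ≠ j.1 := fun e => hl (Subtype.ext e ▸ hj)
  obtain ⟨ks, hks, -, hs⟩ := hM.swap_mem (i := j.1) ⟨i, hji⟩ ⟨l.1, hlj⟩
  obtain ⟨s, hsdef⟩ : ∃ s, s = wgl (Equiv.swap i l.1) ks := ⟨_, rfl⟩
  rw [← hsdef] at hs
  obtain ⟨ws, hws⟩ : ∃ ws, ws = Function.update us l z := ⟨_, rfl⟩
  obtain ⟨B, hB⟩ : ∃ B, B = iG h (insert l J) ws := ⟨_, rfl⟩
  have hconj : (sp i (s * g * s⁻¹) : Matrix ((Rst i → β) × β) ((Rst i → β) × β) F) =
      (1 + (d * r) • wm 1 B) ⊗ₖ (1 : Mb) := by
    rw [sp_val, hsdef, wgl_conj_one_add hks _ _ hgm, reindex_one_add, Matrix.add_kronecker,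
      Matrix.one_kronecker_one, Matrix.smul_kronecker]
    congr 3
    · refine wm_congr rfl fun x => ?_
      rw [Function.comp_apply]
      by_cases e : x = l
      · subst e
        rw [Equiv.swap_apply_right, dif_pos rfl, hB, iG, if_pos (Finset.mem_insert_self _ _), hws,
          Function.update_self]
      · have ex : Equiv.swap i l.1 x.1 = x.1 :=
          Equiv.swap_apply_of_ne_of_ne x.2 fun e' => e (Subtype.ext e')
        rw [dif_neg (show Equiv.swap i l.1 x.1 ≠ i by rw [ex]; exact x.2), hB, iG, iG, hws,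
          Function.update_of_ne e]
        simp only [ex, Subtype.coe_eta, Finset.mem_insert, e, false_or]
    · rw [Function.comp_apply, Equiv.swap_apply_left, dif_neg l.2, iG, if_neg hl]
  have hBl : B l = iN h z := by rw [hB, iG, if_pos (Finset.mem_insert_self _ _), hws, Function.update_self]
  have hBx : ∀ x, x ≠ l → B x = iG h J us x := fun x e => by
    rw [hB, iG, iG, hws, Function.update_of_ne e]
    simp only [Finset.mem_insert, e, false_or]
  have hz2 : iN h z * iN h z = 0 := by rw [iN, vmv_mul, fn_dot hh.toSesq, hzz, zero_smul]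
  have hzero : ∀ G : Rst i → Mb, G l = 0 → (wm 1 G : Matrix (Rst i → β) (Rst i → β) F) = 0 := fun G hG => by
    ext p q
    rw [wm, Matrix.of_apply, Finset.prod_eq_zero (Finset.mem_univ l) (by rw [hG]; rfl)]
    rfl
  have hsq : (wm 1 B : Matrix (Rst i → β) (Rst i → β) F) * wm 1 B = 0 := by
    rw [wm1_mul, hzero _ (by rw [Pi.mul_apply, hBl, hz2])]
  let A : GL (Rst i → β) F :=
    { val := 1 + (d * r) • wm 1 B
      inv := 1 - (d * r) • wm 1 B
      val_inv := by rw [add_mul, one_mul, mul_sub, mul_one, smul_mul_smul_comm, hsq, smul_zero, sub_zero,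
        sub_add_cancel]
      inv_val := by rw [sub_mul, one_mul, mul_add, mul_one, smul_mul_smul_comm, hsq, smul_zero, add_zero,
        add_sub_cancel_right] }
  have hA : kg A (1 : GL β F) ∈ Mi M i := by
    have h1 : sp i (s * g * s⁻¹) = kg A (1 : GL β F) := Units.ext (hconj.trans rfl)
    exact h1 ▸ mem_Mi.2 (mul_mem (mul_mem hs hg) (inv_mem hs))
  -- the difference
  obtain ⟨G, hG⟩ : ∃ G, G = iG h J vs := ⟨_, rfl⟩
  rw [← hG] at hR
  obtain ⟨R₁, hR₁⟩ : ∃ R₁, R₁ = ((d * r) * r) • wm 1 (B * G) - ((d * r) * r) • wm 1 (G * B) := ⟨_, rfl⟩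
  have hBGB : (wm 1 (B * G * B) : Matrix (Rst i → β) (Rst i → β) F) = 0 := hzero _ (by
    rw [Pi.mul_apply, Pi.mul_apply, hBl, hG, iG, if_neg hl, mul_one, hz2])
  have hQ : Coef h M i (Matrix.toLin' R₁) := by
    have h1 := hM.coef_sub (hM.coef_conj hA hR) hR
    rw [← Matrix.toLin'_mul, ← Matrix.toLin'_mul, ← map_sub] at h1
    convert h1 using 2
    show R₁ = (1 + (d * r) • wm 1 B) * ((r • wm 1 G) * (1 - (d * r) • wm 1 B)) - r • wm 1 G
    rw [hR₁]
    simp only [add_mul, mul_sub, one_mul, mul_one, Matrix.smul_mul, Matrix.mul_smul, ← mul_assoc, wm1_mul, hBGB,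
      smul_zero, sub_zero, smul_smul]
    rw [show r * d * r = d * r * r by ring]
    abel
  -- it is not zero
  have hAx : ∀ x ∈ J, (B * G) x = vecMulVec (us x) (fn h (vs x)) ∧ (G * B) x = vecMulVec (vs x) (fn h (us x)) :=
    fun x hx => by
      have e : x ≠ l := fun e => hl (e ▸ hx)
      have h1 := (hus x hx).2.2
      have h2 : h (vs x) (us x) = 1 := by rw [hh.herm, h1, map_one]
      constructor <;>
        simp only [Pi.mul_apply, hBx x e, hG, iG, if_pos hx, iN, vmv_mul, fn_dot hh.toSesq, h1, h2, one_smul]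
  have hx : ∀ x, ∃ y : β → F, (B * G) x *ᵥ y ≠ 0 ∧ (x ∈ J → (G * B) x *ᵥ y = 0) := fun x => by
    by_cases hxJ : x ∈ J
    · refine ⟨us x, ?_, fun _ => ?_⟩
      · rw [(hAx x hxJ).1, Matrix.vecMulVec_mulVec, fn_dot hh.toSesq, (hus x hxJ).2.2]
        simpa using (hus x hxJ).2.1
      · rw [(hAx x hxJ).2, Matrix.vecMulVec_mulVec, fn_dot hh.toSesq, (hus x hxJ).1]
        simp
    · by_cases e : x = l
      · subst e
        refine ⟨w, ?_, fun a => absurd a hxJ⟩
        rw [Pi.mul_apply, hBl, hG, iG, if_neg hxJ, mul_one, iN, Matrix.vecMulVec_mulVec, fn_dot hh.toSesq, hwz]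
        simpa using hz0
      · refine ⟨z, ?_, fun a => absurd a hxJ⟩
        rw [Pi.mul_apply, hBx x e, hG, iG, iG, if_neg hxJ, if_neg hxJ, mul_one, Matrix.one_mulVec]
        exact hz0
  choose ys hys hys' using hx
  have hne : R₁ ≠ 0 := fun e => by
    have h1 := congrArg (· *ᵥ ptens ys) e
    simp only [hR₁, Matrix.sub_mulVec, Matrix.smul_mulVec, Matrix.zero_mulVec, wm_mulVec, Equiv.Perm.coe_one,
      id_eq] at h1
    rw [show ptens (fun x => (G * B) x *ᵥ ys x) = 0 from funext fun a =>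
      Finset.prod_eq_zero (Finset.mem_univ j) (congrFun (hys' j hj) (a j)), smul_zero, sub_zero, smul_eq_zero] at h1
    exact h1.elim (mul_ne_zero (mul_ne_zero hd hr) hr) (ptens_ne_zero hys)
  -- annihilated at every factor involved
  have hnil : ∀ x ∈ insert l J, Nil h x R₁ := by
    intro x hx
    have e : ∀ (b : β → F) (G' : Rst i → Mb), iN h b * G' x = 0 →
        et x (iN h b) * wm 1 G' = (0 : Matrix (Rst i → β) (Rst i → β) F) := fun b G' hG' => by
      rw [et, wm1_mul]
      ext p q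
      rw [wm, Matrix.of_apply, Finset.prod_eq_zero (Finset.mem_univ x)
        (by rw [Pi.mul_apply, Function.update_self, hG']; rfl)]
      rfl
    obtain ⟨b, hb0, h1, h2⟩ : ∃ b, b ≠ 0 ∧ iN h b * (B * G) x = 0 ∧ iN h b * (G * B) x = 0 := by
      rcases Finset.mem_insert.1 hx with rfl | hxJ
      · exact ⟨z, hz0, by rw [Pi.mul_apply, hBl, ← mul_assoc, hz2, zero_mul],
          by rw [Pi.mul_apply, hBl, hG, iG, if_neg hl, one_mul, hz2]⟩
      · obtain ⟨b, hb', hb0⟩ : ∃ b ∈ TensorHerm.perp2 hh (us x) (vs x), b ≠ 0 :=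
          Submodule.exists_mem_ne_zero_of_ne_bot fun e' => by
            have := TensorHerm.finrank_perp2 hh (us x) (vs x)
            rw [e', finrank_bot] at this
            omega
        refine ⟨b, hb0, ?_, ?_⟩
        · rw [(hAx x hxJ).1, iN, vmv_mul, fn_dot hh.toSesq, hh.refl _ _ hb'.1, zero_smul]
        · rw [(hAx x hxJ).2, iN, vmv_mul, fn_dot hh.toSesq, hh.refl _ _ hb'.2, zero_smul]
    exact ⟨b, hb0, by rw [hR₁, mul_sub, Matrix.mul_smul, Matrix.mul_smul, e b _ h1, e b _ h2, smul_zero, sub_zero]⟩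
  obtain ⟨R₂, hR₂, hR₂0, hkeep, hall, -⟩ := reduce_of hh (step_fix hh hP (by omega) hr₀ hr₀0 hr₀1) hQ hne
  obtain ⟨J', ts, r', hr', hts, hJ', hform⟩ := normal_form hh hR₂0 hall
  refine ⟨J', ts, r', hr', ?_, hts, hform ▸ hR₂⟩
  have hsub : insert l J ⊆ J' := fun x hx =>
    hJ' x ((hall x).resolve_right (not_com_of_nil hh (hkeep x (hnil x hx)) hR₂0))
  have := Finset.card_le_card hsub
  rw [Finset.card_insert_of_notMem hl] at this
  omega

/-- Transvection groups at the pure isotropic tensors. -/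
theorem upt_iso {r₀ : F} (hr₀ : σ r₀ = r₀) (hr₀0 : r₀ ≠ 0) (hr₀1 : r₀ ≠ 1) (hns : ¬ Scal h (Mi M i))
    {xs : κ → β → F} (hxs : ∀ l, h (xs l) (xs l) = 0) : UPt σ (tf σ c h) M (ptens xs) := by
  classical
  have hh := hM.data.hh
  have hb := hM.hb
  have hA := hM.data.herm (κ := Rst i)
  have hne : ∃ D : Ea, Coef h M i D ∧ ∀ r : F, ∃ x, D x ≠ r • x := by
    unfold TensorHerm.Scal at hns
    push Not at hns
    obtain ⟨z, hz, hz0, D, hD, hnsc⟩ := hns
    exact ⟨D, hM.coef_of_in hz hz0 hD, hnsc⟩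
  obtain ⟨D₀, hD₀, hns₀⟩ := hne
  haveI : Nonempty β := Fintype.card_pos_iff.1 (by omega)
  obtain ⟨J, vs₀, r₁, hJ, hr₁, hvs₀, hPJ⟩ := exists_start hh
    (step_fix hh (hM.palg i) (by omega) hr₀ hr₀0 hr₀1) (R₀ := LinearMap.toMatrix' D₀)
    (by rwa [Matrix.toLin'_toMatrix']) fun r e => by
      obtain ⟨x, hx⟩ := hns₀ r
      refine hx ?_
      rw [← Matrix.toLin'_toMatrix' D₀, e, map_smul, Matrix.toLin'_one]
      rfl
  obtain ⟨vs, r, hr, hvs, hvsP⟩ := top_of hh
    (P := fun R : Matrix (Rst i → β) (Rst i → β) F => Coef h M i (Matrix.toLin' R)) (hM.grow_fix hr₀ hr₀0 hr₀1)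
    hJ hr₁ hvs₀ hPJ
  -- the coefficient groups at pure isotropic tensors
  have hpure : ∀ (us : Rst i → β → F) (z : β → F), (∀ l, h (us l) (us l) = 0 ∧ us l ≠ 0) → h z z = 0 →
      UPt σ (tfs σ c h i) (Mi M i) (tmul (ptens us) z) := by
    intro us z hus hz
    rcases eq_or_ne z 0 with rfl | hz0
    · rw [tmul_zero_right]; exact UPt.zero (hM.data.herm_tfs i)
    have e0 : ∀ ws : Rst i → β → F, iG h Finset.univ ws = fun l => iN h (ws l) := fun ws =>
      funext fun l => if_pos (Finset.mem_univ l)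
    obtain ⟨d, hd, -, hd'⟩ := change hh (hM.palg i) (J := Finset.univ) (vs := vs) (us := us)
      (by rw [e0]; exact hvsP) (fun l _ => hvs l) fun l _ => hus l
    obtain ⟨a, ha⟩ : ∃ a, a = ptens us := ⟨_, rfl⟩
    obtain ⟨e, he⟩ : ∃ e, e = d * r / c := ⟨_, rfl⟩
    have he0 : e ≠ 0 := he ▸ div_ne_zero (mul_ne_zero hd hr) hM.data.hc
    have hco : Coef h M i (e • (hA.toSesq.lin a).smulRight a) := by
      rw [e0] at hd'
      convert hd' using 1
      refine ext_ptens fun xs => ?_
      simp only [LinearMap.smul_apply, LinearMap.smulRight_apply, hA.toSesq.lin_apply, ha, Matrix.toLin'_apply,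
        Matrix.smul_mulVec, wm_mulVec, hM.data.tf_ptens, iN, Matrix.vecMulVec_mulVec, fn_dot hh.toSesq,
        Equiv.Perm.coe_one, id_eq, op_smul_eq_smul, smul_smul]
      funext p
      simp only [Pi.smul_apply, smul_eq_mul, ptens, Finset.prod_mul_distrib, he]
      field_simp [hM.data.hc]
    have ha0 : a ≠ 0 := ha ▸ ptens_ne_zero fun l => (hus l).2
    obtain ⟨b, -, hba⟩ := TensorHerm.exists_partner hA (z := a) (by
      obtain ⟨l⟩ : Nonempty (Rst i) := Fintype.card_pos_iff.1 (by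
        rw [Fintype.card_subtype_compl, Fintype.card_subtype_eq]; have := hM.ht; omega)
      rw [ha, hM.data.tf_ptens, Finset.prod_eq_zero (Finset.mem_univ l) (hus l).1, mul_zero]) ha0
    have hes : e + σ e = 0 := by
      have := (hM.pre i).coef_skew hz hz0 (hco z hz) b b
      simp only [LinearMap.smul_apply, LinearMap.smulRight_apply, hA.toSesq.lin_apply, hba, one_smul, hA.smul_left,
        hA.smul_right, hA.herm a b, map_one, mul_one] at this
      exact this
    intro d' hd₁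
    have hsk : σ (d' / e) = d' / e := by
      rw [map_div₀, eq_neg_of_add_eq_zero_right hd₁, eq_neg_of_add_eq_zero_right hes, neg_div_neg_eq]
    obtain ⟨t, ht, htx⟩ := hM.coef_fixed hsk hco z hz
    refine ⟨t, ht, fun s => ?_⟩
    rw [htx, ← ha, rootMap_apply, (hM.pre i).f_sl]
    simp only [LinearMap.smul_apply, LinearMap.smulRight_apply, hA.toSesq.lin_apply, smul_smul, tmul_smul_left, sl]
    congr 2
    field_simp
  by_cases h0 : ∃ l, xs l = 0
  · obtain ⟨l, hl⟩ := h0
    rw [show ptens xs = 0 from funext fun p => Finset.prod_eq_zero (Finset.mem_univ l) (by rw [hl]; rfl)]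
    exact UPt.zero (hM.data.herm (κ := κ))
  push Not at h0
  refine upt_of_slot (i := i) ?_
  rw [spV_ptens]
  exact hpure _ _ (fun l => ⟨hxs l.1, h0 l.1⟩) (hxs i)

/-- Transvection groups at the pure tensors isotropic at all factors but one. -/
theorem upt_line {r₀ : F} (hr₀ : σ r₀ = r₀) (hr₀0 : r₀ ≠ 0) (hr₀1 : r₀ ≠ 1) (hns : ¬ Scal h (Mi M i))
    {j : κ} {xs : κ → β → F} (hxs : ∀ l, l ≠ j → h (xs l) (xs l) = 0) : UPt σ (tf σ c h) M (ptens xs) := by
  classical
  have hh := hM.data.hh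
  have hb := hM.hb
  have hA := hM.data.herm (κ := Rst j)
  have hpure : ∀ (us : Rst j → β → F) (z : β → F), (∀ l, h (us l) (us l) = 0) → h z z = 0 →
      UPt σ (tfs σ c h j) (Mi M j) (tmul (ptens us) z) := fun us z hus hz => by
    obtain ⟨ys, hys⟩ : ∃ ys : κ → β → F, ys = fun l => if hl : l = j then z else us ⟨l, hl⟩ := ⟨_, rfl⟩
    have e : spV j (ptens ys) = tmul (ptens us) z := by
      rw [spV_ptens, hys]
      simp only [dif_pos]
      congr 2
      exact funext fun l => dif_neg l.2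
    rw [← e]
    exact upt_to_slot (hM.upt_iso hr₀ hr₀0 hr₀1 hns fun l => by
      rw [hys]
      by_cases hl : l = j
      · simpa [dif_pos hl] using hz
      · simpa [dif_neg hl] using hus _)
  refine upt_of_slot (i := j) ?_
  rw [spV_ptens]
  obtain ⟨us, hus'⟩ : ∃ us : Rst j → β → F, us = fun l => xs l.1 := ⟨_, rfl⟩
  rw [← hus']
  have hus : ∀ l, h (us l) (us l) = 0 := fun l => hus' ▸ hxs l.1 l.2
  by_cases h0 : ∃ l, us l = 0
  · obtain ⟨l, hl⟩ := h0
    rw [show ptens us = 0 from funext fun p => Finset.prod_eq_zero (Finset.mem_univ l) (by rw [hl]; rfl),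
      tmul_zero_left]
    exact UPt.zero (hM.data.herm_tfs j)
  push Not at h0
  choose ps hps hpsu using fun l => TensorHerm.exists_partner hh (hus l) (h0 l)
  obtain ⟨l₀⟩ : Nonempty (Rst j) := Fintype.card_pos_iff.1 (by
    rw [Fintype.card_subtype_compl, Fintype.card_subtype_eq]; have := hM.ht; omega)
  have hiso : ∀ ws : Rst j → β → F, (∀ l, h (ws l) (ws l) = 0) → tf σ c h (ptens ws) (ptens ws) = 0 :=
    fun ws hws => by rw [hM.data.tf_ptens, Finset.prod_eq_zero (Finset.mem_univ l₀) (hws l₀), mul_zero]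
  refine (hM.pre j).line_of hr₀ hr₀0 hr₀1 (x₁ := c⁻¹ • ptens ps) (hiso us hus)
    (by rw [hA.smul_left, hA.smul_right, hiso ps hps, mul_zero, mul_zero]) ?_
    (fun z hz => hpure us z hus hz) (fun z hz => ?_) (xs j)
  · rw [hA.smul_left, hM.data.tf_ptens, Finset.prod_eq_one fun l _ => hpsu l, mul_one,
      inv_mul_cancel₀ hM.data.hc]
  · rw [tmul_smul_left]
    exact (hpure ps z hps hz).smul (hM.data.herm_tfs j) _

end Cx

end Cfsg.Agent.Classical.TensorPowForm
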